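import Cfsg.Agent.Lib.Invol.Bender.SplitFacts
import Cfsg.Agent.Lib.Grp.Coprime
import Cfsg.Agent.Lib.Grp.QuadraticGroup
import Cfsg.Agent.Lib.Transfer.PStableFree
import Cfsg.Agent.Lib.Fus.OddSylowCyclicDerived
import Cfsg.Agent.Lib.Invol.ZJFunctor
import Cfsg.Agent.S0205

/-!
# Tools for Bender's theorem

A four group acting on a group of odd order, the coprime covering argument which shows that a `p'`-group
normalised by a special pair fixes the centre, and Glauberman's `ZJ` theorem in the form used here.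
-/

set_option autoImplicit false
set_option linter.unusedSectionVars false

namespace Cfsg.Agent.Invol.Bender

open MulAction Subgroup
open scoped commutatorElement Pointwise

universe u v

variable {G : Type u} [Group G] [Finite G]

theorem solvable_of_odd {X : Subgroup G} (h : Odd (Nat.card X)) : Group.IsSolvable X :=
  Cfsg.Agent.S0205.result h

theorem isSolvable_of_orderOf_two (g : G) : Group.IsSolvable (Subgroup.zpowers g) :=
  inferInstance

theorem coprime_two_odd {g : G} (hg : orderOf g = 2) {X : Subgroup G} (hX : Odd (Nat.card X)) :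
    (Nat.card (Subgroup.zpowers g)).Coprime (Nat.card X) := by
  rw [Nat.card_zpowers, hg]
  exact Nat.coprime_two_left.2 hX

theorem zpowers_le_normalizer {g : G} {X : Subgroup G} (h : g ∈ Subgroup.normalizer (X : Set G)) :
    Subgroup.zpowers g ≤ Subgroup.normalizer (X : Set G) := (Subgroup.zpowers_le).2 h

theorem conj_mem_of_normalizer {g : G} {X : Subgroup G} (h : g ∈ Subgroup.normalizer (X : Set G)) {x : G}
    (hx : x ∈ X) : g * x * g⁻¹ ∈ X := (Subgroup.mem_normalizer_iff.1 h x).1 hx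

theorem conj_mem_of_normalizer' {g : G} {X : Subgroup G} (h : g ∈ Subgroup.normalizer (X : Set G)) {x : G}
    (hx : x ∈ X) : g⁻¹ * x * g ∈ X := by
  simpa using (Subgroup.mem_normalizer_iff.1 (inv_mem h) x).1 hx

theorem eq_one_of_sq_of_odd {X : Subgroup G} (hX : Odd (Nat.card X)) {x : G} (hx : x ∈ X) (h : x * x = 1) :
    x = 1 := by
  by_contra hne
  have := Subgroup.orderOf_dvd_natCard _ hx
  rw [orderOf_two_iff.2 ⟨h, hne⟩] at this
  exact Nat.not_even_iff_odd.2 hX (even_iff_two_dvd.2 this)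

/-- An involution inverts `x⁻¹ · x^f`. -/
theorem inverted_of_involution {f : G} (hf : orderOf f = 2) (x : G) :
    f * (x⁻¹ * (f * x * f⁻¹)) * f⁻¹ = (x⁻¹ * (f * x * f⁻¹))⁻¹ := by
  simp only [mul_inv_rev, inv_inv, inv_of_orderOf_two hf, mul_assoc]
  rw [mul_self_of_orderOf_two hf, mul_one]

/-- An involution of a four group inverts a nontrivial element centralised by another one, unless it
centralises the group of odd order acted on. -/
theorem exists_special_element {e f : G} (he : orderOf e = 2) (hf : orderOf f = 2) (hef : Commute e f) :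
    ∀ (n : ℕ) (V : Subgroup G), Nat.card V = n → Odd (Nat.card V) → e ∈ Subgroup.normalizer (V : Set G) →
      f ∈ Subgroup.normalizer (V : Set G) → (∃ v ∈ V, ¬ Commute f v) →
      ∃ i ∈ V, i ≠ 1 ∧ f * i * f⁻¹ = i⁻¹ ∧ (Commute e i ∨ Commute (e * f) i) := by
  intro n
  induction n using Nat.strong_induction_on with
  | _ n ih =>
  intro V hn hodd heV hfV hnc
  obtain ⟨v, hv, hvf⟩ := hnc
  obtain ⟨N, hN⟩ : ∃ N, N = ⁅V, V⁆ := ⟨_, rfl⟩
  have hNV : N ≤ V := hN ▸ Subgroup.commutator_le.2 fun a ha b hb =>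
    V.mul_mem (V.mul_mem (V.mul_mem ha hb) (V.inv_mem ha)) (V.inv_mem hb)
  have hnorm : ∀ g ∈ Subgroup.normalizer (V : Set G), g ∈ Subgroup.normalizer (N : Set G) := by
    intro g hg
    refine Subgroup.mem_normalizer_fintype fun x hx => ?_
    have h1 : N.map (MulAut.conj g).toMonoidHom ≤ N := by
      rw [hN, Subgroup.map_commutator]
      refine Subgroup.commutator_mono ?_ ?_ <;>
      · rintro _ ⟨y, hy, rfl⟩
        exact conj_mem_of_normalizer hg hy
    exact h1 ⟨x, hx, rfl⟩
  have hVN : V ≤ Subgroup.normalizer (N : Set G) := fun g hg => hnorm g (Subgroup.le_normalizer hg)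
  have hfi := inv_of_orderOf_two hf
  have hff := mul_self_of_orderOf_two hf
  by_cases hab : ∀ x ∈ V, x⁻¹ * (f * x * f⁻¹) ∈ N
  · -- descend to the derived group
    have hy : v⁻¹ * (f * v * f⁻¹) ∈ N := hab v hv
    have hsol := solvable_of_odd hodd
    have hlt : Nat.card N < n := by
      rw [← hn]
      refine lt_of_not_ge fun hge => hvf ?_
      have hVe : ⁅V, V⁆ = V := hN ▸ Subgroup.eq_of_le_of_card_ge hNV hge
      have hVbot : V = ⊥ := by
        by_contra hne
        haveI : Nontrivial V := (Subgroup.nontrivial_iff_ne_bot V).2 hne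
        have h1 := Group.IsSolvable.commutator_lt_top_of_nontrivial V
        refine h1.ne ?_
        rw [commutator_def]
        refine Subgroup.map_injective V.subtype_injective ?_
        rw [Subgroup.map_commutator, ← MonoidHom.range_eq_map, Subgroup.range_subtype, hVe]
      rw [hVbot, Subgroup.mem_bot] at hv
      rw [hv]
      exact Commute.one_right f
    have hnc' : ∃ w ∈ N, ¬ Commute f w := by
      refine ⟨v⁻¹ * (f * v * f⁻¹), hy, fun hc => hvf ?_⟩
      -- an element of odd order inverted and centralised by `f` is trivial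
      have h1 := inverted_of_involution hf v
      rw [hc.eq, mul_inv_cancel_right] at h1
      have h2 := eq_one_of_sq_of_odd hodd (hNV hy) (mul_eq_one_iff_eq_inv.2 h1)
      rw [inv_mul_eq_one] at h2
      show f * v = v * f
      calc f * v = f * v * f⁻¹ * f := by group
        _ = v * f := by rw [← h2]
    obtain ⟨i, hi, h⟩ := ih _ hlt N rfl (hodd.of_dvd_nat (Subgroup.card_dvd_of_le hNV)) (hnorm e heV)
      (hnorm f hfV) hnc'
    exact ⟨i, hNV hi, h⟩
  · push Not at hab
    obtain ⟨x, hx, hxN⟩ := hab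
    set y := x⁻¹ * (f * x * f⁻¹) with hydef
    have hyV : y ∈ V := V.mul_mem (V.inv_mem hx) (conj_mem_of_normalizer hfV hx)
    have h1 : f * y * f⁻¹ = y⁻¹ := inverted_of_involution hf x
    have hcomm : ∀ a ∈ V, ∀ b ∈ V, a * b * a⁻¹ * b⁻¹ ∈ N := fun a ha b hb =>
      hN ▸ Subgroup.commutator_mem_commutator ha hb
    haveI hNn : (N.subgroupOf V).Normal := Subgroup.normal_subgroupOf_iff hNV |>.2 fun a g ha hg =>
      conj_mem_of_normalizer (hVN hg) ha
    let π : V →* V ⧸ N.subgroupOf V := QuotientGroup.mk' _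
    have hπ : ∀ {a : G} (ha : a ∈ V), π ⟨a, ha⟩ = 1 ↔ a ∈ N := fun {a} ha =>
      (QuotientGroup.eq_one_iff _).trans Subgroup.mem_subgroupOf
    have hπc : ∀ a b : V, π a * π b = π b * π a := fun a b => by
      rw [← map_mul, ← map_mul]
      refine (QuotientGroup.eq.2 (Subgroup.mem_subgroupOf.2 ?_)).symm
      have h3 := hcomm _ (V.inv_mem a.2) _ (V.inv_mem b.2)
      simpa [mul_assoc] using h3
    -- lifting a fixed point of an involution `g` commuting with `f`
    have lift : ∀ g : G, orderOf g = 2 → g ∈ Subgroup.normalizer (V : Set G) → Commute g f →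
        ∀ z ∈ V, z ∉ N → f * z * f⁻¹ * z ∈ N → g * z * g⁻¹ * z⁻¹ ∈ N →
        ∃ i ∈ V, i ≠ 1 ∧ f * i * f⁻¹ = i⁻¹ ∧ Commute g i := by
      intro g hg hgV hgf z hz hzN hzf hzg
      have hgg : ∀ a ∈ Subgroup.zpowers g, a * z * a⁻¹ * z⁻¹ ∈ N := by
        intro a ha
        obtain ⟨k, rfl⟩ := Subgroup.mem_zpowers_iff.1 ha
        rcases Int.even_or_odd k with ⟨j, rfl⟩ | ⟨j, rfl⟩
        · rw [← two_mul, zpow_mul, show g ^ (2 : ℤ) = 1 by
            rw [show (2 : ℤ) = ((2 : ℕ) : ℤ) from rfl, zpow_natCast, ← hg, pow_orderOf_eq_one], one_zpow]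
          simp
        · rw [zpow_add_one, zpow_mul, show g ^ (2 : ℤ) = 1 by
            rw [show (2 : ℤ) = ((2 : ℕ) : ℤ) from rfl, zpow_natCast, ← hg, pow_orderOf_eq_one], one_zpow, one_mul]
          exact hzg
      obtain ⟨c, hc, hcz⟩ := Grp.exists_fixed_rep (Subgroup.zpowers g) V N (zpowers_le_normalizer hgV)
        (Subgroup.inf_eq_bot_of_coprime (coprime_two_odd hg hodd))
        (coprime_two_odd hg (hodd.of_dvd_nat (Subgroup.card_dvd_of_le hNV)))
        (Or.inl inferInstance) hNV hVN (zpowers_le_normalizer (hnorm g hgV)) hz hgg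
      have hcg : Commute g c := (Subgroup.mem_centralizer_iff.1 (Subgroup.mem_inf.1 hc).2 g
        (Subgroup.mem_zpowers g))
      have hcV : c ∈ V := (Subgroup.mem_inf.1 hc).1
      refine ⟨c⁻¹ * (f * c * f⁻¹), V.mul_mem (V.inv_mem hcV) (conj_mem_of_normalizer hfV hcV), fun h => ?_,
        ?_, hcg.inv_right.mul_right ((hgf.mul_right hcg).mul_right hgf.inv_right)⟩
      · refine hzN ?_
        rw [inv_mul_eq_one] at h
        have hfcV : f * c * f⁻¹ ∈ V := conj_mem_of_normalizer hfV hcV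
        have e1 : π ⟨c, hcV⟩ = π ⟨z, hz⟩ := by
          refine (QuotientGroup.eq.2 (Subgroup.mem_subgroupOf.2 ?_)).symm
          exact hcz
        have e2 : π ⟨f * c * f⁻¹, hfcV⟩ = π ⟨f * z * f⁻¹, conj_mem_of_normalizer hfV hz⟩ := by
          refine (QuotientGroup.eq.2 (Subgroup.mem_subgroupOf.2 ?_)).symm
          have h3 := conj_mem_of_normalizer (hnorm f hfV) hcz
          convert h3 using 1
          simp [mul_assoc]
        have e3 : π ⟨f * z * f⁻¹, conj_mem_of_normalizer hfV hz⟩ * π ⟨z, hz⟩ = 1 := by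
          rw [← map_mul]
          exact (hπ _).2 hzf
        have e4 : π ⟨f * c * f⁻¹, hfcV⟩ = π ⟨c, hcV⟩ := congrArg π (Subtype.ext h.symm)
        rw [← e2, e4, e1, ← map_mul] at e3
        replace e3 := (hπ (V.mul_mem hz hz)).1 e3
        obtain ⟨k, hk⟩ := hodd.of_dvd_nat (Subgroup.orderOf_dvd_natCard _ hz)
        have h6 : z = (z * z) ^ (k + 1) := by
          rw [← pow_two, ← pow_mul, show 2 * (k + 1) = orderOf z + 1 by omega, pow_succ, pow_orderOf_eq_one,
            one_mul]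
        rw [h6]
        exact pow_mem e3 _
      · exact inverted_of_involution hf c
    have heyV : e * y * e⁻¹ ∈ V := conj_mem_of_normalizer heV hyV
    have hee : e * (e * y * e⁻¹) * e⁻¹ = y := by
      calc e * (e * y * e⁻¹) * e⁻¹ = e * e * y * (e * e)⁻¹ := by group
        _ = y := by rw [mul_self_of_orderOf_two he, one_mul, inv_one, mul_one]
    have hyf : f * y * f⁻¹ * y ∈ N := by rw [h1, inv_mul_cancel]; exact N.one_mem
    by_cases hye : y * (e * y * e⁻¹) ∈ N
    · -- `e f` fixes `y` modulo `N`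
      have hef2 : orderOf (e * f) = 2 ∨ e = f := by
        rcases eq_or_ne e f with h | h
        · exact Or.inr h
        · refine Or.inl (orderOf_two_iff.2 ⟨?_, mul_ne_one_of_ne he h⟩)
          calc e * f * (e * f) = e * (f * e) * f := by group
            _ = e * (e * f) * f := by rw [hef.eq]
            _ = e * e * (f * f) := by group
            _ = 1 := by rw [mul_self_of_orderOf_two he, hff, one_mul]
      rcases hef2 with hef2 | rfl
      · obtain ⟨i, hi, hi1, hi2, hi3⟩ := lift (e * f) hef2 ((Subgroup.normalizer _).mul_mem heV hfV)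
          ((hef.mul_left (Commute.refl f))) y hyV hxN hyf (by
            have h2 : (e * f) * y * (e * f)⁻¹ * y⁻¹ = (y * (e * y * e⁻¹))⁻¹ := by
              calc (e * f) * y * (e * f)⁻¹ * y⁻¹ = e * (f * y * f⁻¹) * e⁻¹ * y⁻¹ := by group
                _ = _ := by rw [h1]; group
            rw [h2]
            exact N.inv_mem hye)
        exact ⟨i, hi, hi1, hi2, Or.inr hi3⟩
      · refine ⟨y, hyV, fun h => hxN (by rw [h]; exact N.one_mem), h1, Or.inr ?_⟩
        rw [mul_self_of_orderOf_two he]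
        exact Commute.one_left y
    · have hfz : f * (y * (e * y * e⁻¹)) * f⁻¹ = y⁻¹ * (e * y * e⁻¹)⁻¹ := by
        calc f * (y * (e * y * e⁻¹)) * f⁻¹ = (f * y * f⁻¹) * (f * e * y * e⁻¹ * f⁻¹) := by group
          _ = (f * y * f⁻¹) * (e * (f * y * f⁻¹) * e⁻¹) := by
              rw [show f * e * y * e⁻¹ * f⁻¹ = (f * e) * y * (f * e)⁻¹ by group, ← hef.eq]
              group
          _ = _ := by rw [h1]; group
      obtain ⟨i, hi, hi1, hi2, hi3⟩ := lift e he heV hef (y * (e * y * e⁻¹)) (V.mul_mem hyV heyV) hye (by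
          rw [hfz]
          have h3 := hcomm _ (V.inv_mem hyV) _ (V.inv_mem heyV)
          convert h3 using 1
          group) (by
          have h3 := hcomm _ heyV _ hyV
          convert h3 using 1
          calc e * (y * (e * y * e⁻¹)) * e⁻¹ * (y * (e * y * e⁻¹))⁻¹
              = (e * y * e⁻¹) * (e * (e * y * e⁻¹) * e⁻¹) * (y * (e * y * e⁻¹))⁻¹ := by group
            _ = _ := by rw [hee]; group)
      exact ⟨i, hi, hi1, hi2, Or.inl hi3⟩

variable {Ω : Type v} [MulAction G Ω]

/-- A group of order prime to a special element and normalised by it and its inverting involution fixes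
the centre. -/
theorem le_stabilizer_of_special {d : Ω} {u i : G} (hu : orderOf u = 2) (hCu : ∀ c, Commute c u → c • d = d)
    (hC : ∀ c, Commute c i → c • d = d) (hodd : Odd (orderOf i)) (hinv : u * i * u⁻¹ = i⁻¹) :
    ∀ (n : ℕ) (X : Subgroup G), Nat.card X = n → Odd (Nat.card X) → (orderOf i).Coprime (Nat.card X) →
      u ∈ Subgroup.normalizer (X : Set G) → i ∈ Subgroup.normalizer (X : Set G) → X ≤ stabilizer G d := by
  intro n
  induction n using Nat.strong_induction_on with
  | _ n ih =>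
  intro X hn hX hcop huX hiX
  by_cases hbot : X = ⊥
  · rw [hbot]; exact bot_le
  have hdX : ⁅X, X⁆ ≤ X := Subgroup.commutator_le.2 fun a ha b hb =>
    X.mul_mem (X.mul_mem (X.mul_mem ha hb) (X.inv_mem ha)) (X.inv_mem hb)
  have hnormD : ∀ g ∈ Subgroup.normalizer (X : Set G), g ∈ Subgroup.normalizer ((⁅X, X⁆ : Subgroup G) : Set G) := by
    intro g hg
    refine Subgroup.mem_normalizer_fintype fun x hx => ?_
    have h1 : (⁅X, X⁆ : Subgroup G).map (MulAut.conj g).toMonoidHom ≤ ⁅X, X⁆ := by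
      rw [Subgroup.map_commutator]
      refine Subgroup.commutator_mono ?_ ?_ <;>
      · rintro _ ⟨y, hy, rfl⟩
        exact conj_mem_of_normalizer hg hy
    exact h1 ⟨x, hx, rfl⟩
  have hD : ⁅X, X⁆ ≤ stabilizer G d := by
    refine ih _ ?_ _ rfl (hX.of_dvd_nat (Subgroup.card_dvd_of_le hdX))
      (hcop.coprime_dvd_right (Subgroup.card_dvd_of_le hdX)) (hnormD u huX) (hnormD i hiX)
    rw [← hn]
    refine lt_of_not_ge fun hge => hbot ?_
    have hVe : ⁅X, X⁆ = X := Subgroup.eq_of_le_of_card_ge hdX hge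
    by_contra hne
    haveI : Nontrivial X := (Subgroup.nontrivial_iff_ne_bot X).2 hne
    haveI := solvable_of_odd hX
    have h1 := Group.IsSolvable.commutator_lt_top_of_nontrivial X
    refine h1.ne ?_
    rw [commutator_def]
    refine Subgroup.map_injective X.subtype_injective ?_
    rw [Subgroup.map_commutator, ← MonoidHom.range_eq_map, Subgroup.range_subtype, hVe]
  obtain ⟨Xd, hXd⟩ : ∃ Xd, Xd = X ⊓ stabilizer G d := ⟨_, rfl⟩
  have hXdX : Xd ≤ X := hXd ▸ inf_le_left
  have hXXd : X ≤ Subgroup.normalizer (Xd : Set G) := fun a ha => Subgroup.mem_normalizer_fintype fun b hb => by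
    rw [hXd] at hb ⊢
    refine ⟨X.mul_mem (X.mul_mem ha hb.1) (X.inv_mem ha), ?_⟩
    have h1 := (stabilizer G d).mul_mem (hD (Subgroup.commutator_mem_commutator ha hb.1)) hb.2
    simpa [commutatorElement_def, mul_assoc] using h1
  have hnormd : ∀ g ∈ Subgroup.normalizer (X : Set G), g • d = d → g ∈ Subgroup.normalizer (Xd : Set G) := by
    intro g hg hgd
    refine Subgroup.mem_normalizer_fintype fun b hb => ?_
    rw [hXd] at hb ⊢
    exact ⟨conj_mem_of_normalizer hg hb.1,
      (stabilizer G d).mul_mem ((stabilizer G d).mul_mem hgd hb.2) ((stabilizer G d).inv_mem hgd)⟩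
  have hud : u • d = d := hCu u (Commute.refl u)
  have hid : i • d = d := hC i (Commute.refl i)
  have huXd := hnormd u huX hud
  have hiXd := hnormd i hiX hid
  haveI hXdn : (Xd.subgroupOf X).Normal := Subgroup.normal_subgroupOf_iff hXdX |>.2 fun a g ha hg =>
    conj_mem_of_normalizer (hXXd hg) ha
  let π : X →* X ⧸ Xd.subgroupOf X := QuotientGroup.mk' _
  have hπ : ∀ {a : G} (ha : a ∈ X), π ⟨a, ha⟩ = 1 ↔ a ∈ Xd := fun {a} ha =>
    (QuotientGroup.eq_one_iff _).trans Subgroup.mem_subgroupOf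
  have hcomm : ∀ a ∈ X, ∀ b ∈ X, a * b * a⁻¹ * b⁻¹ ∈ Xd := fun a ha b hb => by
    rw [hXd]
    exact ⟨hdX (Subgroup.commutator_mem_commutator ha hb), hD (Subgroup.commutator_mem_commutator ha hb)⟩
  -- `u` inverts modulo `Xd`
  have hinvX : ∀ a ∈ X, u * a * u⁻¹ * a ∈ Xd := by
    intro a ha
    have huu := mul_self_of_orderOf_two hu
    have hua := conj_mem_of_normalizer huX ha
    have hw : u * (u * a * u⁻¹ * a) * u⁻¹ = a * (u * a * u⁻¹) := by
      calc u * (u * a * u⁻¹ * a) * u⁻¹ = (u * u) * a * (u⁻¹ * a * u⁻¹) := by group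
        _ = a * (u * a * u⁻¹) := by
          rw [huu, one_mul, inv_of_orderOf_two hu]
    obtain ⟨c, hc, hcw⟩ := Grp.exists_fixed_rep (Subgroup.zpowers u) X Xd (zpowers_le_normalizer huX)
      (Subgroup.inf_eq_bot_of_coprime (coprime_two_odd hu hX))
      (coprime_two_odd hu (hX.of_dvd_nat (Subgroup.card_dvd_of_le hXdX))) (Or.inl inferInstance) hXdX hXXd
      (zpowers_le_normalizer huXd) (k := u * a * u⁻¹ * a) (X.mul_mem hua ha) (by
        intro g hg
        obtain ⟨k, rfl⟩ := Subgroup.mem_zpowers_iff.1 hg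
        have hu2 : u ^ (2 : ℤ) = 1 := by
          rw [show (2 : ℤ) = ((2 : ℕ) : ℤ) from rfl, zpow_natCast, ← hu, pow_orderOf_eq_one]
        rcases Int.even_or_odd k with ⟨j, rfl⟩ | ⟨j, rfl⟩
        · rw [← two_mul, zpow_mul, hu2, one_zpow]
          simp
        · rw [zpow_add_one, zpow_mul, hu2, one_zpow, one_mul, hw]
          have h3 := hcomm _ ha _ hua
          convert h3 using 1
          group)
    have hcd : c ∈ Xd := by
      rw [hXd]
      exact ⟨(Subgroup.mem_inf.1 hc).1,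
        hCu c (Subgroup.mem_centralizer_iff.1 (Subgroup.mem_inf.1 hc).2 u (Subgroup.mem_zpowers u)).symm⟩
    have h4 := Xd.mul_mem hcd (Xd.inv_mem hcw)
    simpa using h4
  -- `i` centralises modulo `Xd`
  have hi2 : ∀ a ∈ X, (i * i) * a * (i * i)⁻¹ * a⁻¹ ∈ Xd := by
    intro a ha
    set b := i * a * i⁻¹ with hb
    have hbX : b ∈ X := conj_mem_of_normalizer hiX ha
    have hib : i * b * i⁻¹ ∈ X := conj_mem_of_normalizer hiX hbX
    have huiu : u * i = i⁻¹ * u := by rw [← hinv]; group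
    have h6 : u * b * u⁻¹ * b ∈ Xd := hinvX b hbX
    have h7 := conj_mem_of_normalizer hiXd h6
    have h8 := hinvX a ha
    have e0 : i * (u * b * u⁻¹ * b) * i⁻¹ = u * a * u⁻¹ * (i * b * i⁻¹) := by
      rw [hb]
      calc i * (u * (i * a * i⁻¹) * u⁻¹ * (i * a * i⁻¹)) * i⁻¹
          = i * ((u * i) * a * (u * i)⁻¹) * (i * a * i⁻¹ * i⁻¹) := by group
        _ = _ := by rw [huiu]; group
    rw [e0] at h7
    have h9 : (i * b * i⁻¹) * a⁻¹ ∈ Xd := by
      have h10 := conj_mem_of_normalizer (hXXd ha) (Xd.mul_mem (Xd.inv_mem h8) h7)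
      convert h10 using 1
      group
    rw [hb] at h9
    convert h9 using 1
    group
  have hpow : ∀ (k : ℕ), ∀ a ∈ X, (i * i) ^ k * a * ((i * i) ^ k)⁻¹ * a⁻¹ ∈ Xd := by
    intro k
    induction k with
    | zero => intro a _; simp
    | succ k ihk =>
      intro a ha
      have hii : i * i ∈ Subgroup.normalizer (X : Set G) := (Subgroup.normalizer _).mul_mem hiX hiX
      have h1 := conj_mem_of_normalizer ((Subgroup.normalizer _).mul_mem hiXd hiXd) (ihk a ha)
      have h2 := Xd.mul_mem h1 (hi2 a ha)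
      rw [pow_succ', mul_inv_rev]
      convert h2 using 1
      generalize i * i = g
      group
  intro a ha
  obtain ⟨m, hm⟩ := hodd
  have hiz : i ∈ Subgroup.zpowers (i * i) := Subgroup.mem_zpowers_iff.2 ⟨((m + 1 : ℕ) : ℤ), by
    rw [zpow_natCast, ← pow_two, ← pow_mul, show 2 * (m + 1) = orderOf i + 1 by omega, pow_succ,
      pow_orderOf_eq_one, one_mul]⟩
  have hAX : Subgroup.zpowers (i * i) ≤ Subgroup.normalizer (X : Set G) :=
    zpowers_le_normalizer ((Subgroup.normalizer _).mul_mem hiX hiX)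
  have hcard : (Nat.card (Subgroup.zpowers (i * i))).Coprime (Nat.card X) := by
    rw [Nat.card_zpowers]
    exact hcop.coprime_dvd_left (by rw [← pow_two]; exact orderOf_pow_dvd 2)
  obtain ⟨c, hc, hca⟩ := Grp.exists_fixed_rep (Subgroup.zpowers (i * i)) X Xd hAX
    (Subgroup.inf_eq_bot_of_coprime hcard) (hcard.coprime_dvd_right (Subgroup.card_dvd_of_le hXdX))
    (Or.inl inferInstance) hXdX hXXd (zpowers_le_normalizer ((Subgroup.normalizer _).mul_mem hiXd hiXd))
    (k := a) ha (fun g hg => by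
      obtain ⟨k, rfl⟩ := mem_powers_iff_mem_zpowers.2 hg
      exact hpow k a ha)
  have hci : Commute c i := (Subgroup.mem_centralizer_iff.1 (Subgroup.mem_inf.1 hc).2 i hiz).symm
  have hcd : c ∈ Xd := hXd ▸ ⟨(Subgroup.mem_inf.1 hc).1, hC c hci⟩
  have h4 := Xd.mul_mem hcd (Xd.inv_mem hca)
  have h5 : a ∈ Xd := by simpa using h4
  rw [hXd] at h5
  exact h5.2

variable {p : ℕ} [hp : Fact p.Prime]

theorem centralizer_pCore_quotient_core {X : Type u} [Group X] [Finite X] [Group.IsSolvable X]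
    (O : Subgroup X) [O.Normal] (hO : O = Cfsg.pPrimeCore p X) :
    Subgroup.centralizer (Cfsg.pCore p (X ⧸ O) : Set (X ⧸ O)) ≤ Cfsg.pCore p (X ⧸ O) := by
  haveI : Group.IsSolvable (X ⧸ O) :=
    Group.isSolvable_of_surjective (f := QuotientGroup.mk' O) (QuotientGroup.mk'_surjective O)
  refine Fus.centralizer_pCore_le_of_solvable ?_
  subst hO
  haveI hn : (Cfsg.pPrimeCore p (X ⧸ Cfsg.pPrimeCore p X)).Normal := Grp.pPrimeCore_isNormal
  rw [eq_bot_iff]
  intro x hx
  obtain ⟨y, rfl⟩ := QuotientGroup.mk'_surjective _ x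
  set f := QuotientGroup.mk' (Cfsg.pPrimeCore p X)
  have hcop : (Nat.card ((Cfsg.pPrimeCore p (X ⧸ Cfsg.pPrimeCore p X)).comap f)).Coprime p := by
    rw [Subgroup.card_eq_card_quotient_mul_card_subgroup
      ((Cfsg.pPrimeCore p X).subgroupOf ((Cfsg.pPrimeCore p (X ⧸ Cfsg.pPrimeCore p X)).comap f))]
    refine Nat.Coprime.mul_left ?_ ?_
    · refine (Grp.pPrimeCore_coprime (G := X ⧸ Cfsg.pPrimeCore p X) (p := p)).coprime_dvd_left ?_
      have h2 : Nat.card ((Cfsg.pPrimeCore p (X ⧸ Cfsg.pPrimeCore p X)).comap f ⧸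
          (Cfsg.pPrimeCore p X).subgroupOf ((Cfsg.pPrimeCore p (X ⧸ Cfsg.pPrimeCore p X)).comap f)) =
          Nat.card (Cfsg.pPrimeCore p (X ⧸ Cfsg.pPrimeCore p X)) := by
        let g := f.subgroupComap (Cfsg.pPrimeCore p (X ⧸ Cfsg.pPrimeCore p X))
        have hg : Function.Surjective g :=
          MonoidHom.subgroupComap_surjective_of_surjective f _ (QuotientGroup.mk'_surjective _)
        refine Nat.card_congr ((QuotientGroup.quotientMulEquivOfEq ?_).trans
          (QuotientGroup.quotientKerEquivOfSurjective g hg)).toEquiv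
        ext z
        rw [MonoidHom.mem_ker, Subgroup.mem_subgroupOf, ← QuotientGroup.eq_one_iff (z : X)]
        exact ⟨fun h => Subtype.ext h, fun h => congrArg Subtype.val h⟩
      rw [h2]
    · refine (Grp.pPrimeCore_coprime (G := X) (p := p)).coprime_dvd_left ?_
      rw [Nat.card_congr (subgroupOfEquivOfLe (show Cfsg.pPrimeCore p X ≤
        (Cfsg.pPrimeCore p (X ⧸ Cfsg.pPrimeCore p X)).comap f from fun z hz => by
          rw [Subgroup.mem_comap, show f z = 1 from (QuotientGroup.eq_one_iff z).2 hz]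
          exact one_mem _)).toEquiv]
  have hle := Grp.le_pPrimeCore (Subgroup.Normal.comap hn f) hcop
  exact Subgroup.mem_bot.2 ((QuotientGroup.eq_one_iff y).2 (hle hx))

/-- Glauberman's theorem for a solvable group with abelian Sylow 2-subgroups: a four group whose
centralisers avoid a normal-modulo-`W` subgroup of `R` can be conjugated into the normaliser of `ZJ(R)`. -/
theorem exists_zj_normalizer (hp2 : p ≠ 2) {N R V W : Subgroup G} [Group.IsSolvable N]
    (hab : ∀ T : Sylow 2 N, IsMulCommutative T) (hR : Grp.IsSylowIn p R N) (hVR : V ≤ R)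
    (hW : Odd (Nat.card W)) (hVW : ∀ g ∈ N, ∀ v ∈ V, g * v * g⁻¹ * v⁻¹ ∈ W)
    (hC : ∀ j ∈ N, orderOf j = 2 → ∃ v ∈ V, ¬ Commute j v) {e f : G} (he : e ∈ N) (hf : f ∈ N)
    (he2 : orderOf e = 2) (hf2 : orderOf f = 2) (hef : Commute e f) :
    ∃ x ∈ N, x * e * x⁻¹ ∈ Subgroup.normalizer (Cfsg.centerThompsonAOf R : Set G) ∧
      x * f * x⁻¹ ∈ Subgroup.normalizer (Cfsg.centerThompsonAOf R : Set G) := by
  obtain ⟨T, hT⟩ := Grp.isSylowIn_iff.1 hR
  haveI hOn : (Cfsg.pPrimeCore p N).Normal := Grp.pPrimeCore_isNormal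
  obtain ⟨O, hOdef⟩ : ∃ O, O = Cfsg.pPrimeCore p N := ⟨_, rfl⟩
  haveI : O.Normal := hOdef ▸ hOn
  have hOcop : (Nat.card O).Coprime p := hOdef ▸ Grp.pPrimeCore_coprime
  set π := QuotientGroup.mk' O with hπ
  have hπs : Function.Surjective π := QuotientGroup.mk'_surjective O
  have hW' := isZJFunctor_centerThompsonA.{u} (p := p)
  have hinj : ∀ x ∈ (T : Subgroup N), π x = 1 → x = 1 := fun x hx hfx =>
    eq_one_of_coprime_of_mem T.isPGroup' hx
      (hOcop.coprime_dvd_left (O.orderOf_dvd_natCard ((QuotientGroup.eq_one_iff x).mp hfx)))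
  have hfree : ¬ Cfsg.Involves ↥(Cfsg.qd p) (N ⧸ O) := by
    refine Transfer.qdFree_of_sylow_two_comm hp2 fun T' => ?_
    haveI : Fact (Nat.Prime 2) := ⟨Nat.prime_two⟩
    obtain ⟨T₂, rfl⟩ := Sylow.mapSurjective_surjective (hf := hπs) 2 T'
    refine ⟨⟨fun a b => Subtype.ext ?_⟩⟩
    obtain ⟨_, x, hx, rfl⟩ := a
    obtain ⟨_, y, hy, rfl⟩ := b
    show π x * π y = π y * π x
    rw [← map_mul, ← map_mul]
    exact congrArg π (congrArg Subtype.val ((hab T₂).is_comm.comm ⟨x, hx⟩ ⟨y, hy⟩))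
  obtain ⟨Z, hZ⟩ : ∃ Z, Z = Cfsg.centerThompsonAOf (T : Subgroup N) := ⟨_, rfl⟩
  have hZn : (Z.map π).Normal := by
    rw [hZ, hW'.map π _ hinj]
    exact hW'.normal hp2 (centralizer_pCore_quotient_core O hOdef)
      (fun P _ hP => Grp.Quad.isPStableOn_of_free hp2 hfree P hP) (T.mapSurjective hπs) ⟨le_rfl, fun _ _ _ h => h⟩
  have hZT : Z ≤ (T : Subgroup N) := hZ ▸ hW'.le _
  have htop : Subgroup.normalizer (Z : Set N) ⊔ O = ⊤ := by
    haveI : (Z ⊔ O).Normal := by
      rw [show Z ⊔ O = (Z.map π).comap π by rw [Subgroup.comap_map_eq, QuotientGroup.ker_mk']]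
      exact hZn.comap π
    have hidx : ¬ p ∣ (Z.subgroupOf (Z ⊔ O)).index := fun h => by
      have h1 : Nat.card ↥(Z ⊔ O) ∣ Nat.card Z * Nat.card O :=
        Grp.card_sup_dvd_mul (H := Z) (N := O) (by rw [Subgroup.normalizer_eq_top]; exact le_top)
      rw [← Subgroup.card_mul_index (Z.subgroupOf (Z ⊔ O)),
        Nat.card_congr (subgroupOfEquivOfLe (le_sup_left : Z ≤ Z ⊔ O)).toEquiv] at h1
      exact hp.out.ne_one (Nat.eq_one_of_dvd_coprimes hOcop
        (h.trans ((Nat.mul_dvd_mul_iff_left Nat.card_pos).1 h1)) dvd_rfl)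
    let S : Sylow p ↥(Z ⊔ O) :=
      IsPGroup.toSylow ((T.isPGroup'.to_le hZT).of_equiv (subgroupOfEquivOfLe le_sup_left).symm) hidx
    have h2 := Sylow.normalizer_sup_eq_top S
    rw [show (S : Subgroup ↥(Z ⊔ O)).map (Z ⊔ O).subtype = Z from
      map_subgroupOf_eq_of_le (le_sup_left : Z ≤ Z ⊔ O)] at h2
    exact top_le_iff.1 (h2.ge.trans (sup_le le_sup_left (sup_le (le_normalizer.trans le_sup_left) le_sup_right)))
  -- the `p'`-core has odd order
  have hOodd : Odd (Nat.card O) := by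
    refine Nat.not_even_iff_odd.1 fun hev => ?_
    haveI : Fact (Nat.Prime 2) := ⟨Nat.prime_two⟩
    obtain ⟨O', hO'⟩ : ∃ O' : Subgroup G, O' = O.map N.subtype := ⟨_, rfl⟩
    have hVN : V ≤ N := hVR.trans hR.1
    have hVO : V ≤ Subgroup.normalizer (O' : Set G) := fun v hv => Subgroup.mem_normalizer_fintype fun x hx => by
      rw [hO'] at hx ⊢
      obtain ⟨y, hy, rfl⟩ := hx
      exact ⟨⟨v, hVN hv⟩ * y * ⟨v, hVN hv⟩⁻¹, Subgroup.Normal.conj_mem inferInstance y hy _, rfl⟩
    have hcard : Nat.card O' = Nat.card O := hO' ▸ Subgroup.card_map_of_injective N.subtype_injective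
    have hVp : IsPGroup p V := hR.2.1.to_le hVR
    have hcop : (Nat.card V).Coprime (Nat.card O') := by
      obtain ⟨k, hk⟩ := IsPGroup.iff_card.1 hVp
      rw [hk, hcard]
      exact hOcop.symm.pow_left k
    obtain ⟨T0, hT0, hVT0⟩ := Grp.exists_invariant_sylow V O' hVO hcop (Or.inl (by
      haveI := hVp.isNilpotent
      infer_instance)) 2
    have hT02 : 2 ∣ Nat.card T0 := by
      by_contra hnd
      refine hT0.2.2 ?_
      have h1 := Subgroup.relIndex_mul_index hT0.1
      have h2 : Nat.card O' = Nat.card T0 * T0.relIndex O' := by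
        rw [← Nat.card_congr (subgroupOfEquivOfLe hT0.1).toEquiv]
        exact (Subgroup.card_mul_index _).symm
      rw [hcard] at h2
      exact ((Nat.prime_two.dvd_mul.1 (h2 ▸ even_iff_two_dvd.1 hev)).resolve_left hnd)
    obtain ⟨j, hj⟩ := exists_prime_orderOf_dvd_card' (G := T0) 2 hT02
    have hjN : (j : G) ∈ N := by
      have h := hT0.1 j.2
      rw [hO'] at h
      obtain ⟨y, -, hy⟩ := h
      exact hy ▸ y.2
    obtain ⟨v, hv, hjv⟩ := hC j hjN ((Subgroup.orderOf_coe j).trans hj)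
    refine hjv ?_
    have h1 : (j : G) * v * (j : G)⁻¹ * v⁻¹ ∈ W := hVW j hjN v hv
    have h2 : (j : G) * v * (j : G)⁻¹ * v⁻¹ ∈ T0 := by
      rw [mul_assoc, mul_assoc]
      refine T0.mul_mem j.2 ?_
      rw [← mul_assoc]
      exact conj_mem_of_normalizer (hVT0 hv) (T0.inv_mem j.2)
    have h3 : (j : G) * v * (j : G)⁻¹ * v⁻¹ = 1 := by
      obtain ⟨k, hk⟩ := IsPGroup.iff_card.1 hT0.2.1
      have hb : T0 ⊓ W = ⊥ := Subgroup.inf_eq_bot_of_coprime
        (hk ▸ (Nat.coprime_two_left.2 hW).pow_left k)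
      exact Subgroup.mem_bot.1 (hb ▸ ⟨h2, h1⟩)
    rw [mul_inv_eq_one, mul_inv_eq_iff_eq_mul] at h3
    exact h3
  -- conjugate the four group into the normaliser
  obtain ⟨M, hM⟩ : ∃ M, M = Subgroup.normalizer (Z : Set N) := ⟨_, rfl⟩
  have hodd : Odd M.index := by
    refine hOodd.of_dvd_nat ?_
    have h1 : Nat.card N ∣ Nat.card M * Nat.card O := by
      rw [← Subgroup.card_top (G := N), ← htop, hM]
      exact Grp.card_sup_dvd_mul (le_top.trans (Subgroup.normalizer_eq_top (H := O)).ge)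
    rw [← Subgroup.card_mul_index M] at h1
    exact (Nat.mul_dvd_mul_iff_left Nat.card_pos).1 h1
  haveI : Fact (Nat.Prime 2) := ⟨Nat.prime_two⟩
  let E : Subgroup N := Subgroup.closure {⟨e, he⟩, ⟨f, hf⟩}
  have hE : IsPGroup 2 E := by
    have hce : Commute (⟨e, he⟩ : N) ⟨f, hf⟩ := Subtype.ext hef.eq
    have hp1 : IsPGroup 2 (Subgroup.zpowers (⟨e, he⟩ : N)) := IsPGroup.of_card (n := 1) (by
      rw [Nat.card_zpowers, ← Subgroup.orderOf_coe, pow_one]; exact he2)
    have hp2' : IsPGroup 2 (Subgroup.zpowers (⟨f, hf⟩ : N)) := IsPGroup.of_card (n := 1) (by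
      rw [Nat.card_zpowers, ← Subgroup.orderOf_coe, pow_one]; exact hf2)
    refine (hp1.to_sup_of_normal_left' hp2' ?_).to_le ?_
    · refine (Subgroup.zpowers_le).2 (Subgroup.mem_normalizer_fintype fun x hx => ?_)
      obtain ⟨k, rfl⟩ := Subgroup.mem_zpowers_iff.1 hx
      rw [show (⟨f, hf⟩ : N) * (⟨e, he⟩ : N) ^ k * (⟨f, hf⟩ : N)⁻¹ = (⟨e, he⟩ : N) ^ k by
        rw [← (hce.zpow_left k).eq, mul_inv_cancel_right]]
      exact zpow_mem (Subgroup.mem_zpowers _) k
    · rw [Subgroup.closure_le]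
      rintro x (rfl | rfl)
      · exact Subgroup.mem_sup_left (Subgroup.mem_zpowers _)
      · exact Subgroup.mem_sup_right (Subgroup.mem_zpowers _)
  obtain ⟨P, hEP⟩ := hE.exists_le_sylow
  obtain ⟨P₀⟩ : Nonempty (Sylow 2 M) := inferInstance
  have hPM : IsPGroup 2 ((P₀ : Subgroup M).map M.subtype) := P₀.isPGroup'.map _
  let P₁ : Sylow 2 N := hPM.toSylow (by
    intro hd
    rw [Subgroup.index_map_subtype] at hd
    rcases Nat.prime_two.dvd_mul.1 hd with h | h
    · exact P₀.not_dvd_index h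
    · exact Nat.not_even_iff_odd.2 hodd (even_iff_two_dvd.2 h))
  obtain ⟨x, hx⟩ := MulAction.exists_smul_eq N P P₁
  have hmem : ∀ a ∈ (P : Subgroup N), x * a * x⁻¹ ∈ M := fun a ha => by
    have h1 : x * a * x⁻¹ ∈ (P₁ : Subgroup N) := by
      rw [← hx]
      exact ⟨a, ha, rfl⟩
    obtain ⟨y, -, hy⟩ := h1
    exact hy ▸ y.2
  have hRmap : Cfsg.centerThompsonAOf R = Z.map N.subtype := by
    rw [hZ, hW'.map N.subtype _ (fun y _ h => N.subtype_injective (by rw [h, map_one]))]
    exact congrArg _ hT.symm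
  have key : ∀ a : N, a ∈ M → (a : G) ∈ Subgroup.normalizer (Cfsg.centerThompsonAOf R : Set G) := fun a ha => by
    rw [hRmap]
    exact le_normalizer_map _ ⟨a, hM ▸ ha, rfl⟩
  exact ⟨x, x.2, key _ (hmem _ (hEP (Subgroup.subset_closure (Set.mem_insert _ _)))),
    key _ (hmem _ (hEP (Subgroup.subset_closure (Set.mem_insert_of_mem _ rfl))))⟩

end Cfsg.Agent.Invol.Bender
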