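import Cfsg.Agent.Lib.Invol.Bender.Semi
import Cfsg.Agent.Lib.Invol.Bender.Tools

/-!
# The local structure in the exceptional case

In the exceptional case the cyclic group of inverted elements is the centraliser of each of its non-identity
elements, its normaliser is the pair stabiliser extended by the swapper, and a point stabiliser which keeps the
orbits of the centraliser of an involution acts on the involutions at the point as the pair stabiliser does.
-/

set_option autoImplicit false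
set_option linter.unusedSectionVars false

namespace Cfsg.Agent.Invol.Bender

open MulAction Subgroup

universe u v

variable {G : Type u} [Group G] [Finite G] {Ω : Type v} [MulAction G Ω]
variable (U : Hyp G Ω) {c a : Ω} (hca : c ≠ a) {w : G} (hw : w ∈ swapAt G c a) {n : ℕ} {J : Subgroup G}
  (S : SemiData c a w n J) (hex : Exceptional (G := G) c a)
include U hca hw S hex

/-- The rank is a prime, the order of the centraliser of the swapper in the pair stabiliser. -/
theorem exc_rank : n.Prime ∧ Nat.card ↥(pairStab G c a ⊓ centralizer ({w} : Set G)) = n := by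
  obtain ⟨-, l, hl, hm, hc⟩ := hex
  have e : n = l := by
    have h1 : 2 ^ n = 2 ^ l := by
      have h2 := S.card_inv.symm.trans hm
      have h3 := Nat.one_le_two_pow (n := n)
      have h4 := Nat.one_le_two_pow (n := l)
      omega
    exact Nat.pow_right_injective le_rfl h1
  exact e ▸ ⟨hl, hc w hw⟩

/-- The inverted elements are regular on the involutions at the point. -/
theorem eq_one_of_commute_invAt {j t : G} (hj : j ∈ J) (ht : t ∈ invAt G c) (h : Commute j t) : j = 1 := by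
  let f : J → invAt G c := fun k => ⟨(k : G) * t * (k : G)⁻¹, U.invAt_conj ((S.mem_J k).1 k.2).1 ht⟩
  have hf : Function.Surjective f := fun s => by
    obtain ⟨k, hk, hks⟩ := S.J_trans t ht s s.2
    exact ⟨⟨k, hk⟩, Subtype.ext hks⟩
  have hb := (Nat.bijective_iff_surjective_and_card f).2 ⟨hf, by rw [S.card_J, Nat.card_coe_set_eq, S.card_inv]⟩
  have h1 : f ⟨j, hj⟩ = f 1 := Subtype.ext (by
    show j * t * j⁻¹ = ((1 : J) : G) * t * ((1 : J) : G)⁻¹
    rw [h.eq, mul_inv_cancel_right, OneMemClass.coe_one, inv_one, mul_one, one_mul])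
  exact congrArg Subtype.val (hb.1 h1)

theorem card_pairStab_eq : Nat.card (pairStab G c a) = n * (2 ^ n - 1) := by
  rw [← U.card_centralizer_swapper hca hw, (exc_rank U hca hw S hex).2, Nat.card_coe_set_eq, S.card_inv]

/-- An element of odd order which sends an inverted element to its inverse fixes it. -/
theorem eq_one_of_conj_eq_inv {x j : G} (hx : x ∈ pairStab G c a) (hj : j ∈ J) (h : x * j * x⁻¹ = j⁻¹) : j = 1 := by
  obtain ⟨q, hq⟩ := (U.odd_pair hca).of_dvd_nat (Subgroup.orderOf_dvd_natCard _ hx)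
  have h2 : Commute (x ^ 2) j := by
    refine mul_inv_eq_iff_eq_mul.1 ?_
    calc x ^ 2 * j * (x ^ 2)⁻¹ = x * (x * j * x⁻¹) * x⁻¹ := by rw [pow_two]; group
      _ = x * j⁻¹ * x⁻¹ := by rw [h]
      _ = (x * j * x⁻¹)⁻¹ := by group
      _ = j := by rw [h, inv_inv]
  have h3 : Commute x j := by
    have := h2.pow_left (q + 1)
    rwa [← pow_mul, show 2 * (q + 1) = 2 * q + 1 + 1 by ring, pow_succ, ← hq, pow_orderOf_eq_one, one_mul] at this
  rw [h3.eq, mul_inv_cancel_right] at h
  exact eq_one_of_sq_of_odd (U.odd_pair hca) ((S.mem_J j).1 hj).1 (eq_inv_iff_mul_eq_one.1 h)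

/-- The inverted group is the centraliser of each of its non-identity elements. -/
theorem centralizer_J {j : G} (hj : j ∈ J) (hj1 : j ≠ 1) : centralizer ({j} : Set G) = J := by
  classical
  obtain ⟨hjD, hjw⟩ := (S.mem_J j).1 hj
  obtain ⟨hjc, hja⟩ := mem_pair.1 hjD
  refine le_antisymm (fun g hg => ?_) fun k hk => ?_
  swap
  · rw [mem_centralizer_singleton_iff]
    haveI := S.J_cyclic
    letI : CommGroup J := IsCyclic.commGroup
    exact congrArg Subtype.val (mul_comm (⟨k, hk⟩ : J) ⟨j, hj⟩)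
  have hgj : Commute g j := mem_centralizer_singleton_iff.1 hg
  have hmove : ∀ x, j • x = x → g • x = c ∨ g • x = a := fun x hx => S.fix_only j hj hj1 _ (by
    rw [← mul_smul, ← hgj.eq, mul_smul, hx])
  -- the centraliser cannot interchange the pair
  have hgD : g ∈ pairStab G c a := by
    rcases hmove c hjc with h1 | h1 <;> rcases hmove a hja with h2 | h2
    · exact absurd (smul_left_cancel g (h1.trans h2.symm)) hca
    · exact mem_pair.2 ⟨h1, h2⟩
    · exfalso
      have hd : w * g ∈ pairStab G c a := mem_pair.2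
        ⟨by rw [mul_smul, h1, swap_symm hw.1 hw.2], by rw [mul_smul, h2, hw.2]⟩
      refine hj1 (eq_one_of_conj_eq_inv U hca hw S hex hd hj ?_)
      calc w * g * j * (w * g)⁻¹ = w * (g * j * g⁻¹) * w⁻¹ := by group
        _ = j⁻¹ := by rw [hgj.eq, mul_inv_cancel_right, hjw]
    · exact absurd (smul_left_cancel g (h1.trans h2.symm)) hca
  obtain ⟨k, hk, x, hxD, hxw, rfl⟩ := S.exists_mul g hgD
  have hxj : Commute x j := by
    haveI := S.J_cyclic
    letI : CommGroup J := IsCyclic.commGroup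
    have hkj : Commute k j := congrArg Subtype.val (mul_comm (⟨k, hk⟩ : J) ⟨j, hj⟩)
    have := hkj.inv_left.mul_left hgj
    rwa [inv_mul_cancel_left] at this
  suffices x = 1 by rw [this, mul_one]; exact hk
  by_contra hx1
  have hdis : Subgroup.zpowers x ⊓ J = ⊥ := by
    rw [eq_bot_iff]
    rintro y ⟨hy, hyJ⟩
    obtain ⟨i, rfl⟩ := Subgroup.mem_zpowers_iff.1 hy
    obtain ⟨hyD, hyw⟩ := (S.mem_J _).1 hyJ
    rw [← (hxw.zpow_left i).eq, mul_inv_cancel_right] at hyw
    exact Subgroup.mem_bot.2 (eq_one_of_sq_of_odd (U.odd_pair hca) hyD (eq_inv_iff_mul_eq_one.1 hyw))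
  obtain ⟨t, ht, hxt⟩ := S.fix_vector hex.1 x hxD hdis
  obtain ⟨o, hon, ho, hcount⟩ := S.count x hxD t ht hxt
  have ho' : o = n := ((exc_rank U hca hw S hex).1.eq_one_or_self_of_dvd o hon).resolve_left fun h => hx1 (by
    have h1 := (ho 1).2 (by rw [h])
    rwa [hex.1, Subgroup.mem_bot, pow_one] at h1)
  rw [ho', Nat.div_self (exc_rank U hca hw S hex).1.pos, pow_one] at hcount
  obtain ⟨s₀, hs₀⟩ := Set.ncard_eq_one.1 (Nat.succ_injective hcount : {s ∈ invAt G c | Commute x s}.ncard = 1)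
  have h1 : t = s₀ := hs₀.le ⟨ht, hxt⟩
  have h2 : j * t * j⁻¹ = s₀ := hs₀.le ⟨U.invAt_conj hjD ht, (hxj.mul_right hxt).mul_right hxj.inv_right⟩
  exact hj1 (eq_one_of_commute_invAt U hca hw S hex hj ht (mul_inv_eq_iff_eq_mul.1 (h2.trans h1.symm)))

theorem exists_ne_one_J : ∃ j ∈ J, j ≠ 1 := by
  refine J.bot_or_exists_ne_one.resolve_left fun h => ?_
  have h1 := S.card_J
  rw [h, Subgroup.card_bot] at h1
  have h2 : 4 ≤ 2 ^ n := (show (4 : ℕ) = 2 ^ 2 from rfl) ▸ Nat.pow_le_pow_right (by norm_num) S.two_le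
  omega

/-- The normaliser of the inverted group. -/
theorem mem_normalizer_J {g : G} :
    g ∈ normalizer (J : Set G) ↔ g ∈ pairStab G c a ∨ w * g ∈ pairStab G c a := by
  constructor
  · intro hg
    obtain ⟨j, hj, hj1⟩ := exists_ne_one_J U hca hw S hex
    obtain ⟨hjc, hja⟩ := mem_pair.1 ((S.mem_J j).1 hj).1
    have hj' : g * j * g⁻¹ ∈ J := (Subgroup.mem_normalizer_iff.1 hg j).1 hj
    have hmove : ∀ x, j • x = x → g • x = c ∨ g • x = a := fun x hx =>
      S.fix_only _ hj' (fun e => hj1 (conj_eq_one_iff.1 e)) _ (by rw [conj_smul_smul, hx])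
    rcases hmove c hjc with h1 | h1 <;> rcases hmove a hja with h2 | h2
    · exact absurd (smul_left_cancel g (h1.trans h2.symm)) hca
    · exact Or.inl (mem_pair.2 ⟨h1, h2⟩)
    · exact Or.inr (mem_pair.2 ⟨by rw [mul_smul, h1, swap_symm hw.1 hw.2], by rw [mul_smul, h2, hw.2]⟩)
    · exact absurd (smul_left_cancel g (h1.trans h2.symm)) hca
  · intro hg
    have hD : ∀ d ∈ pairStab G c a, d ∈ normalizer (J : Set G) := fun d hd =>
      Subgroup.mem_normalizer_fintype (S.J_normal d hd)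
    have hwn : w ∈ normalizer (J : Set G) := Subgroup.mem_normalizer_fintype fun j hj => by
      rw [SetLike.mem_coe, ((S.mem_J j).1 hj).2]
      exact inv_mem hj
    rcases hg with hg | hg
    · exact hD g hg
    · have := mul_mem (inv_mem hwn) (hD _ hg)
      rwa [inv_mul_cancel_left] at this

theorem normalizer_J_eq : normalizer (J : Set G) = pairStab G c a ⊔ Subgroup.zpowers w := by
  refine le_antisymm (fun g hg => ?_) (sup_le (fun g hg => (mem_normalizer_J U hca hw S hex).2 (Or.inl hg))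
    (Subgroup.zpowers_le.2 ((mem_normalizer_J U hca hw S hex).2 (Or.inr (by
      rw [mul_self_of_orderOf_two hw.1]; exact one_mem _)))))
  rcases (mem_normalizer_J U hca hw S hex).1 hg with h | h
  · exact Subgroup.mem_sup_left h
  · have h1 := mul_mem (Subgroup.mem_sup_right (S := pairStab G c a) (inv_mem (Subgroup.mem_zpowers w)))
      (Subgroup.mem_sup_left (T := Subgroup.zpowers w) h)
    rwa [inv_mul_cancel_left] at h1

theorem card_normalizer_J : Nat.card (normalizer (J : Set G)) = 2 * n * Nat.card J := by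
  classical
  have hN := fun {g : G} => mem_normalizer_J U hca hw S hex (g := g)
  have hwD : w ∉ pairStab G c a := fun h => hca ((mem_pair.1 h).1.symm.trans hw.2)
  have e : Bool × pairStab G c a ≃ normalizer (J : Set G) := Equiv.ofBijective
    (fun p => ⟨(bif p.1 then w else 1) * (p.2 : G), by
      cases p.1
      · exact hN.2 (Or.inl (by simp))
      · refine hN.2 (Or.inr ?_)
        rw [cond_true, ← mul_assoc, mul_self_of_orderOf_two hw.1, one_mul]
        exact p.2.2⟩)
    ⟨by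
      rintro ⟨b, d⟩ ⟨b', d'⟩ he
      have he' : (bif b then w else 1) * (d : G) = (bif b' then w else 1) * (d' : G) := congrArg Subtype.val he
      cases b <;> cases b' <;> simp only [cond_true, cond_false, one_mul, mul_right_inj, SetLike.coe_eq_coe] at he'
      · rw [he']
      · exact absurd (by rw [eq_mul_inv_of_mul_eq he'.symm]; exact mul_mem d.2 (inv_mem d'.2)) hwD
      · exact absurd (by rw [eq_mul_inv_of_mul_eq he']; exact mul_mem d'.2 (inv_mem d.2)) hwD
      · rw [he'],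
    by
      rintro ⟨g, hg⟩
      rcases hN.1 hg with h | h
      · exact ⟨(false, ⟨g, h⟩), Subtype.ext (one_mul g)⟩
      · refine ⟨(true, ⟨w * g, h⟩), Subtype.ext ?_⟩
        show w * (w * g) = g
        rw [← mul_assoc, mul_self_of_orderOf_two hw.1, one_mul]⟩
  rw [← Nat.card_congr e, Nat.card_prod, card_pairStab_eq U hca hw S hex, S.card_J, Nat.card_eq_fintype_card,
    Fintype.card_bool, mul_assoc]

theorem normalizer_J_inf : normalizer (J : Set G) ⊓ stabilizer G c = pairStab G c a := by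
  refine le_antisymm (fun g hg => ?_) (le_inf (fun g hg => (mem_normalizer_J U hca hw S hex).2 (Or.inl hg)) inf_le_left)
  rcases (mem_normalizer_J U hca hw S hex).1 hg.1 with h | h
  · exact h
  · exfalso
    have h1 := (mem_pair.1 h).1
    rw [mul_smul, mem_stabilizer_iff.1 hg.2, hw.2] at h1
    exact hca h1.symm

/-- The conjugates of the inverted group meet trivially. -/
theorem J_ti {g : G} (hg : g ∉ normalizer (J : Set G)) : J ⊓ J.map (MulAut.conj g).toMonoidHom = ⊥ := by
  rw [eq_bot_iff]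
  rintro x ⟨hx, ⟨y, hy, hyx⟩⟩
  rw [Subgroup.mem_bot]
  by_contra hx1
  have hy1 : y ≠ 1 := fun e => hx1 (by rw [← hyx, e, map_one])
  refine hg (Subgroup.mem_normalizer_fintype fun k hk => ?_)
  rw [SetLike.mem_coe, ← centralizer_J U hca hw S hex hx hx1, mem_centralizer_singleton_iff]
  rw [SetLike.mem_coe, ← centralizer_J U hca hw S hex hy hy1, mem_centralizer_singleton_iff] at hk
  rw [← hyx]
  show g * k * g⁻¹ * (g * y * g⁻¹) = g * y * g⁻¹ * (g * k * g⁻¹)
  calc g * k * g⁻¹ * (g * y * g⁻¹) = g * (k * y) * g⁻¹ := by group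
    _ = g * (y * k) * g⁻¹ := by rw [hk]
    _ = _ := by group

/-- If the point stabiliser keeps the orbits of the centraliser of one involution, it acts on the involutions at
the point as the pair stabiliser. -/
theorem exists_same_action_of_orbits (hW : InvComm G Ω) {t : G} (ht : t ∈ invAt G c)
    (horb : ∀ g ∈ stabilizer G c, Commute g t → ∀ s ∈ invAt G c,
      ∃ x ∈ pairStab G c a, Commute x t ∧ g * s * g⁻¹ = x * s * x⁻¹) :
    ∀ h ∈ stabilizer G c, ∃ x ∈ pairStab G c a, ∀ s ∈ invAt G c, Commute (x⁻¹ * h) s := by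
  classical
  obtain ⟨hnp, -⟩ := exc_rank U hca hw S hex
  have hcH : ∀ g ∈ stabilizer G c, ∀ s ∈ invAt G c, g * s * g⁻¹ ∈ invAt G c := fun g hg s hs =>
    ⟨(orderOf_conj_eq g s).trans hs.1, by
      conv_lhs => rw [← mem_stabilizer_iff.1 hg]
      rw [conj_smul_smul, hs.2, mem_stabilizer_iff.1 hg]⟩
  have hJH : ∀ k ∈ J, k ∈ stabilizer G c := fun k hk => mem_stabilizer_iff.2 (mem_pair.1 ((S.mem_J k).1 hk).1).1
  have hswap : ∀ g ∈ stabilizer G c, ∀ s ∈ invAt G c, g * (g * s * g⁻¹) * g⁻¹ = s → g * s * g⁻¹ = s := by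
    intro g hg s hs hgg
    obtain ⟨j₁, hj₁, hj₁t⟩ := S.J_trans t ht s hs
    have hs₂ : j₁⁻¹ * (g * s * g⁻¹) * j₁ ∈ invAt G c := by
      have := hcH _ (inv_mem (hJH j₁ hj₁)) _ (hcH g hg s hs)
      rwa [inv_inv] at this
    obtain ⟨j, hj, hjt⟩ := S.J_trans t ht _ hs₂
    obtain ⟨g₁, hg₁⟩ : ∃ g₁, g₁ = j⁻¹ * (j₁⁻¹ * g * j₁) := ⟨_, rfl⟩
    have h1 : g₁ * t * g₁⁻¹ = t := by
      calc g₁ * t * g₁⁻¹ = j⁻¹ * (j₁⁻¹ * (g * (j₁ * t * j₁⁻¹) * g⁻¹) * j₁) * j := by rw [hg₁]; group
        _ = j⁻¹ * (j * t * j⁻¹) * j := by rw [hj₁t, hjt]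
        _ = t := by group
    obtain ⟨x, hx, hxt, hxs⟩ := horb g₁ (hg₁ ▸ mul_mem (inv_mem (hJH j hj))
      (mul_mem (mul_mem (inv_mem (hJH j₁ hj₁)) hg) (hJH j₁ hj₁))) (mul_inv_eq_iff_eq_mul.1 h1)
      _ (U.invAt_conj ((S.mem_J j).1 hj).1 ht)
    have h2 : g₁ * (j * t * j⁻¹) * g₁⁻¹ = j⁻¹ * t * j := by
      calc g₁ * (j * t * j⁻¹) * g₁⁻¹ = j⁻¹ * (j₁⁻¹ * (g * (j₁ * (j * t * j⁻¹) * j₁⁻¹) * g⁻¹) * j₁) * j := by
            rw [hg₁]; group
        _ = j⁻¹ * (j₁⁻¹ * (g * (g * s * g⁻¹) * g⁻¹) * j₁) * j := by rw [hjt]; group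
        _ = j⁻¹ * (j₁⁻¹ * (j₁ * t * j₁⁻¹) * j₁) * j := by rw [hgg, hj₁t]
        _ = j⁻¹ * t * j := by group
    rw [h2] at hxs
    have hk : j * (x * j * x⁻¹) = 1 := by
      refine eq_one_of_commute_invAt U hca hw S hex (mul_mem hj (S.J_normal x hx j hj)) ht (mul_inv_eq_iff_eq_mul.1 ?_)
      calc j * (x * j * x⁻¹) * t * (j * (x * j * x⁻¹))⁻¹ = j * (x * j * (x⁻¹ * t * x) * j⁻¹ * x⁻¹) * j⁻¹ := by group
        _ = j * (x * (j * t * j⁻¹) * x⁻¹) * j⁻¹ := by
          rw [show x⁻¹ * t * x = t by rw [mul_assoc, ← hxt.eq, inv_mul_cancel_left]]; group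
        _ = t := by rw [← hxs]; group
    obtain rfl := eq_one_of_conj_eq_inv U hca hw S hex hx hj (eq_inv_of_mul_eq_one_right hk)
    have h3 : t = j₁⁻¹ * (g * s * g⁻¹) * j₁ := by simpa using hjt
    calc g * s * g⁻¹ = j₁ * (j₁⁻¹ * (g * s * g⁻¹) * j₁) * j₁⁻¹ := by group
      _ = s := by rw [← h3, hj₁t]
  -- the representation on the elementary group
  obtain ⟨W, hWdef⟩ : ∃ W, W = invGrp G c := ⟨_, rfl⟩
  have hWmem : ∀ g, g ∈ W ↔ g = 1 ∨ g ∈ invAt G c := fun g => hWdef ▸ mem_invGrp hW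
  letI : CommGroup W :=
    { (inferInstance : Group W) with
      mul_comm := fun x y => Subtype.ext (by
        rcases (hWmem _).1 x.2 with hx | hx
        · simp [hx]
        rcases (hWmem _).1 y.2 with hy | hy
        · simp [hy]
        exact (hW c _ hx _ hy).eq) }
  let V := Additive W
  letI : Module (ZMod 2) V := AddCommGroup.zmodModule fun x => by
    show (Additive.toMul x : W) ^ 2 = 1
    refine Subtype.ext ?_
    rcases (hWmem _).1 (Additive.toMul x : W).2 with hx | hx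
    · simp [hx]
    · rw [SubmonoidClass.coe_pow, sq, mul_self_of_orderOf_two hx.1]; rfl
  let val : V → G := fun x => ((Additive.toMul x : W) : G)
  have hval : Function.Injective val := fun x y h => Additive.toMul.injective (Subtype.ext h)
  have hval0 : ∀ x : V, x ≠ 0 → val x ∈ invAt G c := fun x hx =>
    ((hWmem _).1 (Additive.toMul x : W).2).resolve_left fun h => hx (hval (h.trans rfl))
  let vec : ∀ s ∈ invAt G c, V := fun s hs => Additive.ofMul (⟨s, (hWmem s).2 (Or.inr hs)⟩ : W)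
  have hvec0 : ∀ s hs, vec s hs ≠ 0 := fun s hs h => by
    have h1 : s = 1 := congrArg val h
    exact absurd hs.1 (by rw [h1, orderOf_one]; omega)
  have hcW : ∀ g ∈ stabilizer G c, ∀ x ∈ W, g * x * g⁻¹ ∈ W := fun g hg x hx => by
    rcases (hWmem x).1 hx with rfl | hx
    · simp
    · exact (hWmem _).2 (Or.inr (hcH g hg x hx))
  let act : stabilizer G c → (V →+ V) := fun g => AddMonoidHom.mk' (fun x => Additive.ofMul
      (⟨(g : G) * val x * (g : G)⁻¹, hcW g g.2 _ (Additive.toMul x : W).2⟩ : W)) fun x y => hval (by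
    show (g : G) * (val x * val y) * (g : G)⁻¹ = ((g : G) * val x * (g : G)⁻¹) * ((g : G) * val y * (g : G)⁻¹)
    group)
  let equiv : stabilizer G c → (V ≃ₗ[ZMod 2] V) := fun g =>
    LinearEquiv.ofLinear ((act g).toZModLinearMap 2) ((act g⁻¹).toZModLinearMap 2)
      (LinearMap.ext fun x => hval (by
        show (g : G) * ((g⁻¹ : stabilizer G c) * val x * ((g⁻¹ : stabilizer G c) : G)⁻¹) * (g : G)⁻¹ = _
        rw [Subgroup.coe_inv]; group; rfl))
      (LinearMap.ext fun x => hval (by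
        show ((g⁻¹ : stabilizer G c) : G) * ((g : G) * val x * (g : G)⁻¹) * ((g⁻¹ : stabilizer G c) : G)⁻¹ = _
        rw [Subgroup.coe_inv]; group; rfl))
  let ρ₀ : stabilizer G c →* (V ≃ₗ[ZMod 2] V) := MonoidHom.mk' equiv fun g h => LinearEquiv.ext fun x => hval (by
    show (g * h : stabilizer G c) * val x * ((g * h : stabilizer G c) : G)⁻¹ =
      (g : G) * ((h : G) * val x * (h : G)⁻¹) * (g : G)⁻¹
    rw [Subgroup.coe_mul]; group)
  have hρ₀ : ∀ g x, val (ρ₀ g x) = (g : G) * val x * (g : G)⁻¹ := fun g x => rfl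
  have hker : ∀ g : stabilizer G c, ρ₀ g = 1 → ∀ s ∈ invAt G c, Commute (g : G) s := fun g h s hs => by
    have h1 := hρ₀ g (vec s hs)
    rw [h] at h1
    exact mul_inv_eq_iff_eq_mul.1 h1.symm
  haveI : Finite V := Finite.of_injective val hval
  haveI : Nontrivial V := ⟨⟨vec t ht, 0, hvec0 t ht⟩⟩
  have hfin : Module.finrank (ZMod 2) V = n := by
    have h1 : Nat.card V = 2 ^ n := by
      have h2 : (W : Set G) = insert 1 (invAt G c) := Set.ext fun g => hWmem g
      have h3 := congrArg Set.ncard h2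
      rw [Set.ncard_insert_of_notMem (fun h => absurd h.1 (by rw [orderOf_one]; omega)), S.card_inv] at h3
      show Nat.card W = 2 ^ n
      rw [← Nat.card_coe_set_eq] at h3
      have := Nat.one_le_two_pow (n := n)
      rw [show Nat.card W = Nat.card (W : Set G) from rfl, h3]
      omega
    rw [Module.natCard_eq_pow_finrank (K := ZMod 2), Nat.card_zmod] at h1
    exact Nat.pow_right_injective le_rfl h1
  obtain ⟨R, hR⟩ : ∃ R, R = ρ₀.range := ⟨_, rfl⟩
  let π : stabilizer G c →* R := MonoidHom.codRestrict ρ₀ R fun g => hR ▸ ⟨g, rfl⟩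
  have hπs : Function.Surjective π := fun r => by
    obtain ⟨g, hg⟩ : (r : V ≃ₗ[ZMod 2] V) ∈ ρ₀.range := hR ▸ r.2
    exact ⟨g, Subtype.ext hg⟩
  haveI : Finite R := Finite.of_surjective π hπs
  -- no element interchanges two involutions
  have hodd : Odd (Nat.card R) := by
    refine Nat.not_even_iff_odd.1 fun he => ?_
    haveI : Fact (Nat.Prime 2) := ⟨Nat.prime_two⟩
    obtain ⟨r, hr⟩ := exists_prime_orderOf_dvd_card' (G := R) 2 (even_iff_two_dvd.1 he)
    obtain ⟨g, rfl⟩ := hπs r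
    have hgg : ρ₀ (g * g) = 1 := congrArg Subtype.val (show π (g * g) = 1 by
      rw [map_mul]; exact mul_self_of_orderOf_two hr)
    suffices hπg : π g = 1 by rw [hπg, orderOf_one] at hr; omega
    refine Subtype.ext (LinearEquiv.ext fun x => ?_)
    show ρ₀ g x = x
    rcases eq_or_ne x 0 with rfl | hx
    · rw [map_zero]
    refine hval (hswap g g.2 _ (hval0 x hx) ?_)
    have h1 := hρ₀ (g * g) x
    rw [hgg] at h1
    calc (g : G) * ((g : G) * val x * (g : G)⁻¹) * (g : G)⁻¹ = ((g : G) * g) * val x * ((g : G) * g)⁻¹ := by group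
      _ = val x := h1.symm
  obtain ⟨D, hD⟩ : ∃ D : Subgroup (stabilizer G c), D = (pairStab G c a).subgroupOf (stabilizer G c) := ⟨_, rfl⟩
  have hinj : Function.Injective (π.comp D.subtype) := by
    rw [← MonoidHom.ker_eq_bot_iff, eq_bot_iff]
    intro d hd
    have h1 : ρ₀ d = 1 := congrArg Subtype.val (MonoidHom.mem_ker.1 hd)
    have h2 : ((d : stabilizer G c) : G) ∈ fixKer G c a := by
      refine ⟨Subgroup.mem_subgroupOf.1 (hD.le d.2), ?_⟩
      exact Subgroup.mem_centralizer_iff.2 fun s hs => (hker _ h1 s hs).eq.symm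
    rw [hex.1, Subgroup.mem_bot, OneMemClass.coe_eq_one] at h2
    exact Subgroup.mem_bot.2 (Subtype.ext h2)
  have hJD : ∀ k ∈ J, ∀ h : k ∈ stabilizer G c, (⟨k, h⟩ : stabilizer G c) ∈ D := fun k hk h =>
    hD.ge (Subgroup.mem_subgroupOf.2 ((S.mem_J k).1 hk).1)
  obtain ⟨j₀, hj₀, hJ₀⟩ : ∃ j₀ ∈ J, Subgroup.zpowers j₀ = J := by
    haveI := S.J_cyclic
    obtain ⟨⟨g, hg⟩, hgen⟩ := IsCyclic.exists_generator (α := J)
    refine ⟨g, hg, le_antisymm (Subgroup.zpowers_le.2 hg) fun k hk => ?_⟩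
    obtain ⟨i, hi⟩ := Subgroup.mem_zpowers_iff.1 (hgen ⟨k, hk⟩)
    exact Subgroup.mem_zpowers_iff.2 ⟨i, congrArg Subtype.val hi⟩
  obtain ⟨f, hf⟩ : ∃ f, f = π.comp D.subtype ⟨⟨j₀, hJH j₀ hj₀⟩, hJD j₀ hj₀ _⟩ := ⟨_, rfl⟩
  have hfo : orderOf f + 1 = 2 ^ Module.finrank (ZMod 2) V := by
    rw [hfin, hf, orderOf_injective _ hinj, ← Subgroup.orderOf_coe, ← Subgroup.orderOf_coe, ← Nat.card_zpowers, hJ₀,
      S.card_J]
    exact Nat.sub_add_cancel Nat.one_le_two_pow
  have htr : Recog.HuppertCases.Trans R.subtype := fun x y hx hy => by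
    obtain ⟨k, hk, hkxy⟩ := S.J_trans _ (hval0 x hx) _ (hval0 y hy)
    exact ⟨π ⟨k, hJH k hk⟩, hval hkxy⟩
  obtain ⟨Γ, _, _, _, ψ, -, hψn, hψfix, -⟩ := exists_galois hodd R.subtype_injective htr hfo
  -- the bound
  have hle : Nat.card R ≤ n * (2 ^ n - 1) := by
    rw [← Subgroup.card_mul_index ψ.ker, Subgroup.index_ker, mul_comm]
    refine Nat.mul_le_mul ?_ ?_
    · obtain ⟨⟨γ, r, rfl⟩, hgen⟩ := IsCyclic.exists_generator (α := ψ.range)
      rw [← orderOf_eq_card_of_forall_mem_zpowers hgen, ← Subgroup.orderOf_coe]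
      exact Nat.le_of_dvd hnp.pos (hfin ▸ hψn r)
    · have hi : Function.Injective fun r : ψ.ker => (⟨val (((r : R) : V ≃ₗ[ZMod 2] V) (vec t ht)), hval0 _ (by
          rw [Ne, LinearEquiv.map_eq_zero_iff]; exact hvec0 t ht)⟩ : invAt G c) := fun r r' he => by
        have he1 : val (((r : R) : V ≃ₗ[ZMod 2] V) (vec t ht)) = val (((r' : R) : V ≃ₗ[ZMod 2] V) (vec t ht)) :=
          congrArg (fun s : invAt G c => (s : G)) he
        have he' := hval he1
        refine Subtype.ext (inv_mul_eq_one.1 ((hψfix ((r : R)⁻¹ * (r' : R)) _ (hvec0 t ht) ?_).1 ?_))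
        · rw [Recog.HuppertCases.rho_mul]
          show ((r : R)⁻¹ : V ≃ₗ[ZMod 2] V) (((r' : R) : V ≃ₗ[ZMod 2] V) (vec t ht)) = vec t ht
          rw [← he']
          exact LinearEquiv.symm_apply_apply _ _
        · exact MonoidHom.mem_ker.1 (mul_mem (inv_mem r.2) r'.2)
      rw [← S.card_inv, ← Nat.card_coe_set_eq]
      exact Nat.card_le_card_of_injective _ hi
  have hbij : Function.Bijective (π.comp D.subtype) := (Nat.bijective_iff_injective_and_card _).2 ⟨hinj, by
    refine le_antisymm (Nat.card_le_card_of_injective _ hinj) ?_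
    rw [hD, Nat.card_congr (Subgroup.subgroupOfEquivOfLe (H := pairStab G c a) (K := stabilizer G c) inf_le_left).toEquiv,
      card_pairStab_eq U hca hw S hex]
    exact hle⟩
  intro h hh
  obtain ⟨d, hd⟩ := hbij.2 (π ⟨h, hh⟩)
  refine ⟨d, Subgroup.mem_subgroupOf.1 (hD.le d.2), fun s hs => ?_⟩
  have h1 : ρ₀ ((d : stabilizer G c)⁻¹ * ⟨h, hh⟩) = 1 := congrArg Subtype.val (show π _ = 1 by
    rw [map_mul, map_inv, ← hd]
    exact inv_mul_cancel _)
  simpa using hker _ h1 s hs

end Cfsg.Agent.Invol.Bender
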