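import Cfsg.Agent.Lib.Invol.Bender.ExcNorm
import Cfsg.Agent.Lib.Invol.OddTransitive.Main

/-!
# The exceptional configuration of Bender's theorem

The character on the involutions at a point is reducible, so its constituents are exceptional and no element of
the point stabiliser interchanges two involutions at the point: the stabiliser induces on them a group of odd
order, hence a semilinear one, which the pair stabiliser covers.
-/

set_option autoImplicit false
set_option linter.unusedSectionVars false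

namespace Cfsg.Agent.Invol.Bender

open MulAction Subgroup Cfsg Cfsg.Agent.Char

universe u v

variable {G : Type u} {Ω : Type v} [Group G] [MulAction G Ω]

namespace Exc

variable {c a : Ω} {v t σ : G} {J : Subgroup G} {l : ℕ} (E : Exc c a v t σ J l) [Fintype G] [Fintype Ω]
  [Fintype ↥(stabilizer G c)]
include E

theorem card_D_sub : (Subgroup.normalizer ((J.subgroupOf (stabilizer G c) : Subgroup ↥(stabilizer G c)) :
    Set ↥(stabilizer G c))) = (pairStab G c a).subgroupOf (stabilizer G c) := by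
  ext h
  rw [Subgroup.mem_normalizer_iff, Subgroup.mem_subgroupOf]
  constructor
  · intro hh
    obtain ⟨j, hj, hj1⟩ : ∃ j ∈ J, j ≠ 1 := (Subgroup.bot_or_exists_ne_one J).resolve_left fun e => by
      have := E.seven_le
      rw [← E.card_J, e, Subgroup.card_bot] at this
      omega
    have h1 : (h : G) * j * (h : G)⁻¹ ∈ J :=
      (hh ⟨j, mem_stabilizer_iff.2 (E.J_fix hj)⟩).1 hj
    refine (E.of_conj hj hj1 h1).resolve_right fun hv => E.ne ?_
    have h2 := (mem_pair.1 hv).1
    rw [mul_smul, mem_stabilizer_iff.1 h.2, E.swap.2] at h2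
    exact h2.symm
  · intro hd j
    simp only [Subgroup.mem_subgroupOf, Subgroup.coe_mul, InvMemClass.coe_inv]
    refine ⟨fun hj => E.normal _ hd _ hj, fun hj => ?_⟩
    have := E.normal _ (inv_mem hd) _ hj
    simpa [mul_assoc] using this

/-- The count of pairs of commuting involutions seen from one of them, from below. -/
theorem sum_pairs_ge : ∃ Q : ℕ, ∃ s : ℕ, l * s + 1 = Nat.card ↥(invAt G c) ∧ s ≤ Q ∧
    ∑ h : ↥(stabilizer G c), (cenAt G c (h : G)) ^ 2 = Nat.card ↥(stabilizer G c) * (Q + 1) ∧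
    ∑ h : ↥(stabilizer G c), cenAt G c (h : G) = Nat.card ↥(stabilizer G c) := by
  classical
  obtain ⟨hchar, horth⟩ := E.theta_char
  obtain ⟨μ, hμ, hdec⟩ := IsChar.exists_decomp_inner hchar
  obtain ⟨K, hK⟩ : ∃ K, K = J.subgroupOf (stabilizer G c) := ⟨_, rfl⟩
  have hJle : J ≤ stabilizer G c := fun j hj => mem_stabilizer_iff.2 (E.J_fix hj)
  have hKc : Nat.card K = Nat.card ↥(invAt G c) := by
    rw [hK, Nat.card_congr (subgroupOfEquivOfLe hJle).toEquiv, E.card_J]
  have hmem : ∀ k : ↥(stabilizer G c), k ∈ K ↔ (k : G) ∈ J := fun k => by rw [hK]; exact Iff.rfl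
  have hN : normalizer (K : Set ↥(stabilizer G c)) = (pairStab G c a).subgroupOf (stabilizer G c) := by
    rw [hK]; exact E.card_D_sub
  have hDle : pairStab G c a ≤ stabilizer G c := inf_le_left
  have hlt : K < normalizer (K : Set ↥(stabilizer G c)) := by
    refine lt_of_le_of_ne le_normalizer fun e => ?_
    have h1 : (⟨σ, hDle E.mem_σ⟩ : ↥(stabilizer G c)) ∈ normalizer (K : Set ↥(stabilizer G c)) := by
      rw [hN]; exact E.mem_σ
    rw [← e, hmem] at h1
    exact E.prime.one_lt.ne' (by rw [← E.order_σ, E.J_inf (mem_zpowers σ) h1, orderOf_one])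
  have hidx : (Cfsg.Agent.Char.FrobTI.KN K).index = l := by
    have h := (Cfsg.Agent.Char.FrobTI.KN K).index_mul_card
    rw [Nat.card_congr (subgroupOfEquivOfLe le_normalizer).toEquiv, hKc,
      show Nat.card ↥(normalizer (K : Set ↥(stabilizer G c))) =
        Nat.card ↥((pairStab G c a).subgroupOf (stabilizer G c)) by rw [hN],
      Nat.card_congr (subgroupOfEquivOfLe hDle).toEquiv, E.card_D] at h
    exact Nat.eq_of_mul_eq_mul_right (by have := E.seven_le; omega) h
  haveI := Fintype.ofFinite K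
  obtain ⟨C⟩ := ExcTI.exists_coh K (e := l)
    (fun g hg k hk h => by
      by_contra hk1
      refine hg ?_
      rw [hN]
      refine (E.of_conj ((hmem k).1 hk) (fun e => hk1 (Subtype.ext e)) ((hmem _).1 h)).resolve_right fun hv => E.ne ?_
      have h2 := (mem_pair.1 hv).1
      rw [mul_smul, mem_stabilizer_iff.1 g.2, E.swap.2] at h2
      exact h2.symm)
    hlt
    (fun k hk hk1 x hx => (hmem x).2 (E.centralizer_le ((hmem k).1 hk) (fun e => hk1 (Subtype.ext e))
      (mem_centralizer_singleton_iff.2 (congrArg Subtype.val (mem_centralizer_singleton_iff.1 hx)))))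
    (fun x hx y hy => Subtype.ext (E.comm_J _ ((hmem x).1 hx) _ ((hmem y).1 hy)))
    (by rw [hKc]; have := E.seven_le; omega) hidx
  have hs := C.hs
  rw [hKc] at hs
  have hs2 : 2 ≤ C.s := by
    by_contra hh
    have h7 := E.seven_le
    rcases (show C.s = 0 ∨ C.s = 1 by omega) with e | e
    · rw [e] at hs; omega
    · rw [e, mul_one, E.card_inv] at hs
      have := E.three_le
      obtain ⟨i, rfl⟩ : ∃ i, l = i + 3 := ⟨l - 3, by omega⟩
      have := Nat.lt_two_pow_self (n := i)
      rw [pow_add] at hs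
      omega
  obtain ⟨hF, -, hδ⟩ : C.F.card = C.s ∧ 2 ≤ C.s ∧ C.δ = 1 :=
    C.hδ.resolve_left fun h => by have := h.2.1; omega
  choose D hD0 hD using fun φ : IrrCharacter ↥(stabilizer G c) => IsIrr.one_eq_pos φ.2
  choose b hb using fun φ : IrrCharacter ↥(stabilizer G c) => ExcTI.sum_subgroup (IsIrr.isCharacter φ.2) K
  have hb0 : ∀ φ, μ φ ≠ 0 → b φ = 0 := by
    have hsum : ∑ φ : IrrCharacter ↥(stabilizer G c), μ φ * (Nat.card K * b φ) = 0 := by
      apply Nat.cast_injective (R := ℂ)
      rw [Nat.cast_zero, Nat.cast_sum,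
        Finset.sum_congr rfl (fun φ _ => by rw [Nat.cast_mul, ← hb, Finset.mul_sum]), Finset.sum_comm,
        Finset.sum_congr rfl (g := fun j : K => theta G c (j : ↥(stabilizer G c))) (fun j _ => by
          rw [hdec, sum_irr_apply]),
        ← Finset.add_sum_erase _ _ (Finset.mem_univ (1 : K)), Finset.sum_congr rfl (g := fun _ => (-1 : ℂ))
          (fun j hj => by
            rw [theta, E.cenAt_J ((hmem _).1 j.2) fun e => (Finset.mem_erase.1 hj).1 (Subtype.ext (Subtype.ext e))]
            norm_num),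
        Finset.sum_const, Finset.card_erase_of_mem (Finset.mem_univ _), Finset.card_univ, nsmul_eq_mul,
        ← Nat.card_eq_fintype_card, hKc, theta, OneMemClass.coe_one, OneMemClass.coe_one, cenAt_one,
        Nat.cast_sub (by have := E.seven_le; omega)]
      push_cast
      ring
    intro φ hφ
    have h := (Finset.sum_eq_zero_iff.1 hsum) φ (Finset.mem_univ _)
    rcases Nat.mul_eq_zero.1 h with h | h
    · exact absurd h hφ
    · exact (Nat.mul_eq_zero.1 h).resolve_left Nat.card_pos.ne'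
  have h1 : ∑ φ : IrrCharacter ↥(stabilizer G c), μ φ * D φ = l * C.s := by
    apply Nat.cast_injective (R := ℂ)
    have h := congrFun hdec 1
    rw [sum_irr_apply, theta, OneMemClass.coe_one, cenAt_one, ← hs] at h
    push_cast at h ⊢
    rw [show (l : ℂ) * C.s = (l : ℂ) * C.s + 1 - 1 by ring, h]
    exact Finset.sum_congr rfl fun φ _ => by rw [hD]
  have hnorm : (∑ φ : IrrCharacter ↥(stabilizer G c), μ φ ^ 2) ≠ 1 := fun e => E.norm_theta_ne_one (by
    rw [norm_of_decomp hμ hdec, e, Nat.cast_one])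
  have hinF : ∀ φ, μ φ ≠ 0 → φ ∈ C.F := by
    intro φ hφ
    by_contra hn
    have h := hb φ
    rw [C.sum_notMem hn, hb0 φ hφ, hKc, hD] at h
    have h' : (D φ : ℤ) + ((Nat.card ↥(invAt G c) : ℤ) - 1) * C.c φ = 0 := by
      apply Int.cast_injective (α := ℂ)
      push_cast at h ⊢
      linear_combination h
    rw [← hs] at h'
    push_cast at h'
    have hc : C.c φ ≤ -1 := by
      by_contra hc
      have h3 : 0 ≤ ((l : ℤ) * C.s + 1 - 1) * C.c φ := mul_nonneg (by simp only [add_sub_cancel_right]; positivity) (by omega)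
      have := hD0 φ
      omega
    have hDge : l * C.s ≤ D φ := by
      have h3 : ((l : ℤ) * C.s + 1 - 1) * C.c φ ≤ ((l : ℤ) * C.s + 1 - 1) * (-1) :=
        mul_le_mul_of_nonneg_left hc (by simp only [add_sub_cancel_right]; positivity)
      have h4 : ((l * C.s : ℕ) : ℤ) ≤ D φ := by push_cast; linarith
      exact_mod_cast h4
    have hsplit := Finset.add_sum_erase Finset.univ (fun φ => μ φ * D φ) (Finset.mem_univ φ)
    rw [h1] at hsplit
    have hls : 0 < l * C.s := Nat.mul_pos E.prime.pos (by omega)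
    have hone : μ φ * D φ ≤ l * C.s := by omega
    have h5 : μ φ * (l * C.s) ≤ 1 * (l * C.s) := by
      rw [one_mul]; exact (Nat.mul_le_mul_left _ hDge).trans hone
    have hμ1 : μ φ = 1 := le_antisymm (Nat.le_of_mul_le_mul_right h5 hls) (Nat.pos_of_ne_zero hφ)
    have h6 : ∑ ψ ∈ Finset.univ.erase φ, μ ψ * D ψ = 0 := by
      simp only [hμ1, one_mul] at hsplit
      omega
    refine hnorm ?_
    rw [← Finset.add_sum_erase _ _ (Finset.mem_univ φ), hμ1, Finset.sum_eq_zero fun ψ hψ => ?_]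
    · norm_num
    · rw [((Nat.mul_eq_zero.1 (Finset.sum_eq_zero_iff.1 h6 ψ hψ)).resolve_right (hD0 ψ).ne')]
      norm_num
  obtain ⟨φ0, hφ0⟩ : ∃ φ, μ φ ≠ 0 := by
    by_contra hh
    push Not at hh
    simp only [hh, zero_mul, Finset.sum_const_zero] at h1
    exact (Nat.mul_pos E.prime.pos (show 0 < C.s by omega)).ne h1
  have hdeg : ∀ φ, μ φ ≠ 0 → (D φ : ℤ) = (l : ℤ) * (C.ε - C.s * C.c0) := by
    intro φ hφ
    have h := hb φ
    rw [C.sum_mem φ (hinF φ hφ), hb0 φ hφ, hKc, hD, ← hs] at h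
    apply Int.cast_injective (α := ℂ)
    push_cast at h ⊢
    linear_combination h
  obtain ⟨p, hp⟩ : ∃ p : ℤ, p = C.ε - C.s * C.c0 := ⟨_, rfl⟩
  simp only [← hp] at hdeg
  have hp0 : 0 < p := pos_of_mul_pos_right (hdeg φ0 hφ0 ▸ Int.natCast_pos.2 (hD0 φ0)) (by positivity)
  have hps : p * ((∑ φ : IrrCharacter ↥(stabilizer G c), μ φ : ℕ) : ℤ) = C.s := by
    have h : ((∑ φ : IrrCharacter ↥(stabilizer G c), μ φ * D φ : ℕ) : ℤ) =
        (l : ℤ) * p * ((∑ φ : IrrCharacter ↥(stabilizer G c), μ φ : ℕ) : ℤ) := by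
      push_cast
      rw [Finset.mul_sum]
      refine Finset.sum_congr rfl fun φ _ => ?_
      by_cases e : μ φ = 0
      · simp [e]
      · rw [hdeg φ e]; ring
    rw [h1] at h
    push_cast at h
    refine mul_left_cancel₀ (show (l : ℤ) ≠ 0 from by exact_mod_cast E.prime.ne_zero) ?_
    push_cast
    linear_combination -h
  have hp1 : p = 1 := by
    have hdvd : p ∣ C.ε := ⟨1 + ((∑ φ : IrrCharacter ↥(stabilizer G c), μ φ : ℕ) : ℤ) * C.c0, by
      linear_combination -hp - C.c0 * hps⟩
    have h' : p ∣ 1 := by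
      rcases C.hε with e | e <;> rw [e] at hdvd
      · exact hdvd
      · exact dvd_neg.1 hdvd
    exact Int.eq_one_of_dvd_one hp0.le h'
  rw [hp1, one_mul] at hps
  have hsum1 : ∑ φ : IrrCharacter ↥(stabilizer G c), μ φ = C.s := by exact_mod_cast hps
  have hCsum : ∑ h : ↥(stabilizer G c), cenAt G c (h : G) = Nat.card ↥(stabilizer G c) := by
    apply Nat.cast_injective (R := ℂ)
    rw [classInner] at horth
    have h := (mul_eq_zero.1 horth).resolve_left (inv_ne_zero (Nat.cast_ne_zero.mpr Nat.card_pos.ne'))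
    simp only [theta, map_one, mul_one, Finset.sum_sub_distrib, Finset.sum_const, Finset.card_univ,
      nsmul_eq_mul, ← Nat.card_eq_fintype_card] at h
    push_cast
    linear_combination h
  refine ⟨∑ φ : IrrCharacter ↥(stabilizer G c), μ φ ^ 2, C.s, hs, ?_, ?_, hCsum⟩
  · rw [← hsum1]
    exact Finset.sum_le_sum fun φ _ => Nat.le_self_pow two_ne_zero _
  · apply Nat.cast_injective (R := ℂ)
    have h := norm_of_decomp hμ hdec
    rw [classInner, inv_mul_eq_iff_eq_mul₀ (Nat.cast_ne_zero.mpr Nat.card_pos.ne')] at h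
    simp only [theta, map_sub, map_one, map_natCast] at h
    rw [Finset.sum_congr rfl (g := fun x : ↥(stabilizer G c) => (cenAt G c (x : G) : ℂ) ^ 2 -
      2 * (cenAt G c (x : G) : ℂ) + 1) (fun x _ => by ring), Finset.sum_add_distrib, Finset.sum_sub_distrib,
      ← Finset.mul_sum, ← Nat.cast_sum Finset.univ (fun x : ↥(stabilizer G c) => cenAt G c (x : G)), hCsum,
      Finset.sum_const, Finset.card_univ, nsmul_eq_mul, ← Nat.card_eq_fintype_card] at h
    push_cast at h ⊢
    linear_combination h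

/-- The centraliser of an involution moves every other one inside its orbit under the complement. -/
theorem orbit_σ {g s : G} (hg : Commute g t) (hs : s ∈ invAt G c) :
    ∃ x ∈ zpowers σ, g * s * g⁻¹ = x * s * x⁻¹ := by
  classical
  by_cases hst : s = t
  · exact ⟨1, one_mem _, by rw [hst, hg.eq, mul_inv_cancel_right, one_mul, inv_one, mul_one]⟩
  obtain ⟨Q, n, hn, hnQ, hsq, hsum⟩ := E.sum_pairs_ge
  let I := Finset.univ.filter (fun x : G => x ∈ invAt G c)
  let L : G → G → ℕ := fun x y => (Finset.univ.filter (fun g : G => Commute g x ∧ Commute g y)).card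
  have hI : I.card = Nat.card ↥(invAt G c) := by
    rw [← Fintype.card_subtype, ← Nat.card_eq_fintype_card]
  have hcen : ∀ g : G, cenAt G c g = ∑ x ∈ I, if Commute g x then 1 else 0 := fun g => by
    rw [Finset.sum_boole, Nat.cast_id, Finset.filter_filter, ← Fintype.card_subtype, ← Nat.card_eq_fintype_card]
    rfl
  have hH : ∀ x ∈ I, ∀ P : G → Prop, (∀ g, P g → Commute g x) → ∀ [DecidablePred P],
      ∑ h : ↥(stabilizer G c), (if P (h : G) then 1 else 0) = (Finset.univ.filter P).card := by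
    intro x hx P hP _
    rw [Finset.sum_boole, Nat.cast_id, ← Fintype.card_subtype, ← Fintype.card_subtype]
    exact Fintype.card_congr ((Equiv.subtypeSubtypeEquivSubtype fun {g} hgP =>
      mem_stabilizer_iff.2 (E.hyp.commute_fix (Finset.mem_filter.1 hx).2 (hP g hgP))))
  have hconj : ∀ j ∈ J, ∀ x y : G, L (j * x * j⁻¹) (j * y * j⁻¹) = L x y := by
    intro j _ x y
    refine (Finset.card_bij' (fun g _ => j * g * j⁻¹) (fun g _ => j⁻¹ * g * j) ?_ ?_ ?_ ?_).symm
    · intro g hg
      simp only [Finset.mem_filter, Finset.mem_univ, true_and, commute_conj_iff] at hg ⊢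
      exact hg
    · intro g hg
      simp only [Finset.mem_filter, Finset.mem_univ, true_and] at hg ⊢
      rwa [← commute_conj_iff j, ← commute_conj_iff j (j⁻¹ * g * j) y,
        show j * (j⁻¹ * g * j) * j⁻¹ = g by group]
    · intro g _; group
    · intro g _; group
  have hrow : ∀ x ∈ I, ∑ y ∈ I, L x y = ∑ y ∈ I, L t y := by
    intro x hx
    obtain ⟨j, hj, rfl⟩ := E.exists_conj (Finset.mem_filter.1 hx).2
    refine Finset.sum_nbij' (fun y => j⁻¹ * y * j) (fun y => j * y * j⁻¹) ?_ ?_ ?_ ?_ ?_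
    · intro y hy
      have h := invAt_conj_of_fix (E.J_fix (J.inv_mem hj)) (Finset.mem_filter.1 hy).2
      rw [inv_inv] at h
      exact Finset.mem_filter.2 ⟨Finset.mem_univ _, h⟩
    · intro y hy
      exact Finset.mem_filter.2 ⟨Finset.mem_univ _, invAt_conj_of_fix (E.J_fix hj) (Finset.mem_filter.1 hy).2⟩
    · intro y _; group
    · intro y _; group
    · intro y _
      rw [← hconj j hj t (j⁻¹ * y * j), show j * (j⁻¹ * y * j) * j⁻¹ = y by group]
  have hdiag : ∀ x ∈ I, L x x = L t t := by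
    intro x hx
    obtain ⟨j, hj, rfl⟩ := E.exists_conj (Finset.mem_filter.1 hx).2
    exact hconj j hj t t
  have hts : t ∈ I := by simp [I, E.inv_t]
  have hL1 : Nat.card ↥(invAt G c) * L t t = Nat.card ↥(stabilizer G c) := by
    conv_rhs => rw [← hsum]
    rw [Finset.sum_congr rfl (fun (h : ↥(stabilizer G c)) _ => hcen (h : G)), Finset.sum_comm,
      Finset.sum_congr rfl (g := fun _ : G => L t t) (fun x hx => ?_), Finset.sum_const, hI, smul_eq_mul]
    rw [← hdiag x hx, hH x hx (fun g => Commute g x) fun _ h => h]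
    simp only [L, and_self]
  have hL2 : Nat.card ↥(invAt G c) * ∑ y ∈ I, L t y = Nat.card ↥(stabilizer G c) * (Q + 1) := by
    conv_rhs => rw [← hsq]
    rw [Finset.sum_congr rfl (fun (h : ↥(stabilizer G c)) _ => by rw [sq, hcen (h : G), Finset.sum_mul_sum]), Finset.sum_comm]
    symm
    rw [Finset.sum_congr rfl (g := fun _ : G => ∑ y ∈ I, L t y) (fun x hx => ?_), Finset.sum_const, hI, smul_eq_mul]
    rw [← hrow x hx, Finset.sum_comm]
    refine Finset.sum_congr rfl fun y hy => ?_
    simp only [ite_mul, one_mul, zero_mul, ← ite_and]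
    exact hH x hx (fun g => Commute g x ∧ Commute g y) fun _ h => h.1
  rw [← hL1, mul_assoc] at hL2
  have hL3 := Nat.eq_of_mul_eq_mul_left (by have := E.seven_le; omega) hL2
  rw [← Finset.add_sum_erase _ _ hts] at hL3
  -- each involution gives at most a share of the centraliser
  have hf : ∀ y ∈ I.erase t, Function.Injective
      (fun p : ↥(zpowers σ) × {g : G // Commute g t ∧ Commute g y} =>
        (⟨(p.1 : G) * p.2.1, ((E.σ_pow_comm p.1.2).1).mul_left p.2.2.1⟩ : {g : G // Commute g t})) := by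
    rintro y hy ⟨⟨x, hx⟩, ⟨g, hg1, hg2⟩⟩ ⟨⟨x', hx'⟩, ⟨g', hg1', hg2'⟩⟩ h
    have h' : x * g = x' * g' := congrArg Subtype.val h
    have h2 : x'⁻¹ * x = g' * g⁻¹ := by
      rw [eq_mul_inv_iff_mul_eq, mul_assoc, h', inv_mul_cancel_left]
    obtain ⟨hyt, hyI⟩ := Finset.mem_erase.1 hy
    have h3 : x'⁻¹ * x = 1 := by
      by_contra h3
      exact hyt (E.eq_t_of_commute (mul_mem (inv_mem hx') hx) h3 (Finset.mem_filter.1 hyI).2
        (h2 ▸ hg2'.mul_left hg2.inv_left))
    obtain rfl := inv_mul_eq_one.1 h3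
    obtain rfl := mul_left_cancel h'
    rfl
  have hLcard : ∀ y, L t y = Nat.card {g : G // Commute g t ∧ Commute g y} := fun y => by
    rw [Nat.card_eq_fintype_card, Fintype.card_subtype]
  have hLt : L t t = Nat.card {g : G // Commute g t} := by
    simp only [L, and_self, Nat.card_eq_fintype_card, Fintype.card_subtype]
  have hle : ∀ y ∈ I.erase t, l * L t y ≤ L t t := fun y hy => by
    have h := Nat.card_le_card_of_injective _ (hf y hy)
    rwa [Nat.card_prod, Nat.card_zpowers, E.order_σ, ← hLcard, ← hLt] at h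
  have heq : ∑ y ∈ I.erase t, l * L t y = ∑ y ∈ I.erase t, L t t := by
    refine le_antisymm (Finset.sum_le_sum hle) ?_
    rw [Finset.sum_const, Finset.card_erase_of_mem hts, hI, ← hn, Nat.add_sub_cancel, smul_eq_mul,
      ← Finset.mul_sum, mul_assoc]
    refine Nat.mul_le_mul_left l ?_
    have h : n * L t t ≤ Q * L t t := Nat.mul_le_mul_right _ hnQ
    rw [Nat.mul_add, mul_one, mul_comm] at hL3
    omega
  have hsI : s ∈ I.erase t := Finset.mem_erase.2 ⟨hst, by simp [I, hs]⟩
  have hb := (hf s hsI).bijective_of_nat_card_le (by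
    rw [Nat.card_prod, Nat.card_zpowers, E.order_σ, ← hLcard, ← hLt]
    exact ((Finset.sum_eq_sum_iff_of_le hle).1 heq s hsI).ge)
  obtain ⟨⟨x, y, hy1, hy2⟩, hxy⟩ := hb.2 ⟨g, hg⟩
  refine ⟨x, x.2, ?_⟩
  have hxy' : (x : G) * y = g := congrArg Subtype.val hxy
  rw [← hxy']
  calc (x : G) * y * s * ((x : G) * y)⁻¹ = x * (y * s * y⁻¹) * (x : G)⁻¹ := by group
    _ = _ := by rw [hy2.eq, mul_inv_cancel_right]

/-- No element of the point stabiliser interchanges two involutions at the point. -/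
theorem no_swap {h u w : G} (hh : h • c = c) (hu : u ∈ invAt G c) (huw : h * u * h⁻¹ = w)
    (hwu : h * w * h⁻¹ = u) : u = w := by
  obtain ⟨j, hj, rfl⟩ := E.exists_conj hu
  subst huw
  obtain ⟨h', rfl⟩ : ∃ h', h = j * h' * j⁻¹ := ⟨j⁻¹ * h * j, by group⟩
  have hh' : h' • c = c := by
    rw [mul_smul, mul_smul, inv_smul_eq_iff.2 (E.J_fix hj).symm] at hh
    exact smul_left_cancel j (hh.trans (E.J_fix hj).symm)
  obtain ⟨j1, hj1, hs⟩ := E.exists_conj (invAt_conj_of_fix hh' E.inv_t)
  have hswap : h' * (h' * t * h'⁻¹) * h'⁻¹ = t := by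
    have h2 : j⁻¹ * (j * h' * j⁻¹ * (j * h' * j⁻¹ * (j * t * j⁻¹) * (j * h' * j⁻¹)⁻¹) * (j * h' * j⁻¹)⁻¹) * j =
        j⁻¹ * (j * t * j⁻¹) * j := by rw [hwu]
    simpa [mul_assoc] using h2
  have hg : Commute (j1⁻¹ * h') t := by
    show j1⁻¹ * h' * t = t * (j1⁻¹ * h')
    calc j1⁻¹ * h' * t = j1⁻¹ * (h' * t * h'⁻¹) * h' := by group
      _ = j1⁻¹ * (j1 * t * j1⁻¹) * h' := by rw [hs]
      _ = _ := by group
  obtain ⟨x, hx, he⟩ := E.orbit_σ hg (invAt_conj_of_fix (E.J_fix hj1) E.inv_t)
  have hxt := (E.σ_pow_comm hx).1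
  have e2 : x * (j1 * t * j1⁻¹) * x⁻¹ = x * j1 * x⁻¹ * t * (x * j1 * x⁻¹)⁻¹ := by
    calc x * (j1 * t * j1⁻¹) * x⁻¹ = x * j1 * x⁻¹ * (x * t * x⁻¹) * (x * j1 * x⁻¹)⁻¹ := by group
      _ = _ := by rw [hxt.eq, mul_inv_cancel_right]
  have e1 : j1⁻¹ * h' * (j1 * t * j1⁻¹) * (j1⁻¹ * h')⁻¹ = j1⁻¹ * t * j1⁻¹⁻¹ := by
    calc j1⁻¹ * h' * (j1 * t * j1⁻¹) * (j1⁻¹ * h')⁻¹ = j1⁻¹ * h' * (h' * t * h'⁻¹) * (j1⁻¹ * h')⁻¹ := by rw [hs]
      _ = j1⁻¹ * (h' * (h' * t * h'⁻¹) * h'⁻¹) * j1⁻¹⁻¹ := by group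
      _ = _ := by rw [hswap]
  rw [e1, e2] at he
  have h3 := E.inverts_J hx hj1
    (E.conj_inj (J.inv_mem hj1) (E.normal x (E.σ_pow_comm hx).2.2 j1 hj1) he).symm
  subst h3
  rw [one_mul, inv_one, mul_one] at hs
  calc j * t * j⁻¹ = j * (h' * t * h'⁻¹) * j⁻¹ := by rw [← hs]
    _ = _ := by group

end Exc

/-- The stabiliser of a point is the pair stabiliser times the centraliser of the involutions at the point. -/
theorem exceptional [Finite G] {c a : Ω} {v t σ : G} {J : Subgroup G} {l : ℕ} (E : Exc c a v t σ J l) :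
    ∀ h ∈ stabilizer G c, ∃ x ∈ pairStab G c a, ∀ s ∈ invAt G c, Commute (x⁻¹ * h) s := by
  classical
  haveI := Fintype.ofFinite G
  haveI := E.hyp.finite_points
  haveI := Fintype.ofFinite Ω
  haveI := Fintype.ofFinite ↥(stabilizer G c)
  obtain ⟨W, hW⟩ := E.exists_group
  have hexp : ∀ w : W, w * w = 1 := fun w => Subtype.ext (by
    rcases (hW w).1 w.2 with h | h
    · show (w : G) * w = 1
      rw [h, one_mul]
    · exact mul_self_of_orderOf_two h.1)
  letI : CommGroup W := { (inferInstance : Group W) with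
    mul_comm := fun x y => by
      have hx : x⁻¹ = x := inv_eq_of_mul_eq_one_right (hexp x)
      have hy : y⁻¹ = y := inv_eq_of_mul_eq_one_right (hexp y)
      have hxy : (x * y)⁻¹ = x * y := inv_eq_of_mul_eq_one_right (hexp (x * y))
      rw [← hxy, mul_inv_rev, hx, hy] }
  letI : Module (ZMod 2) (Additive W) := AddCommGroup.zmodModule fun w => by
    rw [two_nsmul]
    exact hexp (Additive.toMul w)
  have hWconj : ∀ (h : ↥(stabilizer G c)) (w : W), (h : G) * w * (h : G)⁻¹ ∈ W := fun h w => by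
    rcases (hW w).1 w.2 with e | e
    · rw [e, mul_one, mul_inv_cancel]; exact W.one_mem
    · exact (hW _).2 (Or.inr (invAt_conj_of_fix h.2 e))
  let φ : ↥(stabilizer G c) →* (Additive W ≃ₗ[ZMod 2] Additive W) := MonoidHom.mk'
    (fun h =>
      { toFun := fun w => Additive.ofMul ⟨(h : G) * (Additive.toMul w : W) * (h : G)⁻¹, hWconj h _⟩
        invFun := fun w => Additive.ofMul ⟨((h⁻¹ : ↥(stabilizer G c)) : G) * (Additive.toMul w : W) *
          ((h⁻¹ : ↥(stabilizer G c)) : G)⁻¹, hWconj h⁻¹ _⟩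
        left_inv := fun w => congrArg Additive.ofMul (Subtype.ext (by
          show ((h : G))⁻¹ * ((h : G) * (Additive.toMul w : W) * (h : G)⁻¹) * ((h : G)⁻¹)⁻¹ = (Additive.toMul w : W)
          group))
        right_inv := fun w => congrArg Additive.ofMul (Subtype.ext (by
          show (h : G) * ((h : G)⁻¹ * (Additive.toMul w : W) * ((h : G)⁻¹)⁻¹) * (h : G)⁻¹ = (Additive.toMul w : W)
          group))
        map_add' := fun x y => congrArg Additive.ofMul (Subtype.ext (by
          show (h : G) * ((Additive.toMul x : W) * ((Additive.toMul y : W) : G)) * (h : G)⁻¹ =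
            (h : G) * (Additive.toMul x : W) * (h : G)⁻¹ * ((h : G) * (Additive.toMul y : W) * (h : G)⁻¹)
          group))
        map_smul' := fun r x => ZMod.map_smul (AddMonoidHom.mk'
          (fun w : Additive W => (Additive.ofMul ⟨(h : G) * (Additive.toMul w : W) * (h : G)⁻¹, hWconj h _⟩ : Additive W))
          fun x y => congrArg Additive.ofMul (Subtype.ext (by
            show (h : G) * ((Additive.toMul x : W) * ((Additive.toMul y : W) : G)) * (h : G)⁻¹ =
              (h : G) * (Additive.toMul x : W) * (h : G)⁻¹ * ((h : G) * (Additive.toMul y : W) * (h : G)⁻¹)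
            group))) r x })
    (fun g h => LinearEquiv.ext fun w => congrArg Additive.ofMul (Subtype.ext (by
      show ((g : G) * h) * (Additive.toMul w : W) * ((g : G) * h)⁻¹ =
        (g : G) * ((h : G) * (Additive.toMul w : W) * (h : G)⁻¹) * (g : G)⁻¹
      group)))
  have hφ : ∀ (h : ↥(stabilizer G c)) (s : G) (hs : s ∈ invAt G c),
      ((Additive.toMul (φ h (Additive.ofMul ⟨s, (hW s).2 (Or.inr hs)⟩)) : W) : G) = (h : G) * s * (h : G)⁻¹ :=
    fun _ _ _ => rfl
  have hker : ∀ h : ↥(stabilizer G c), φ h = 1 ↔ ∀ s ∈ invAt G c, Commute (h : G) s := by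
    intro h
    constructor
    · intro e s hs
      have h1 := hφ h s hs
      rw [e] at h1
      exact mul_inv_eq_iff_eq_mul.1 h1.symm
    · intro hc
      refine LinearEquiv.ext fun w => congrArg Additive.ofMul (Subtype.ext ?_)
      show (h : G) * (Additive.toMul w : W) * (h : G)⁻¹ = (Additive.toMul w : W)
      rcases (hW _).1 (Additive.toMul w : W).2 with e | e
      · rw [e, mul_one, mul_inv_cancel]
      · rw [(hc _ e).eq, mul_inv_cancel_right]
  have hnotone : (1 : G) ∉ invAt G c := fun h => by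
    have := h.1
    rw [orderOf_one] at this
    norm_num at this
  have hV : Nat.card (Additive W) = 2 ^ l := by
    rw [Nat.card_congr Additive.toMul, Nat.card_congr (Equiv.subtypeEquivRight
      (q := fun w => w ∈ insert (1 : G) (invAt G c)) fun w => by rw [Set.mem_insert_iff]; exact hW w)]
    show Nat.card ↥(insert (1 : G) (invAt G c)) = _
    rw [Nat.card_coe_set_eq, Set.ncard_insert_of_notMem hnotone (Set.toFinite _), ← Nat.card_coe_set_eq, E.card_inv]
    have := Nat.two_pow_pos l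
    omega
  haveI : Nontrivial (Additive W) := ⟨0, Additive.ofMul ⟨t, (hW t).2 (Or.inr E.inv_t)⟩, fun e => hnotone (by
    have h1 : (1 : G) = t := congrArg Subtype.val e
    rw [h1]
    exact E.inv_t)⟩
  have hvec : ∀ w : Additive W, w ≠ 0 → ((Additive.toMul w : W) : G) ∈ invAt G c := fun w hw =>
    ((hW _).1 (Additive.toMul w : W).2).resolve_left fun e => hw (congrArg Additive.ofMul (Subtype.ext e :
      Additive.toMul w = (1 : W)))
  -- the image has odd order
  have hodd : Odd (Nat.card φ.range) := by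
    refine Nat.not_even_iff_odd.1 fun he => ?_
    haveI : Fact (Nat.Prime 2) := ⟨Nat.prime_two⟩
    obtain ⟨⟨y, h, rfl⟩, hy⟩ := exists_prime_orderOf_dvd_card' (G := φ.range) 2 (even_iff_two_dvd.1 he)
    have hy' : orderOf (φ h) = 2 := (orderOf_mk _ _).symm.trans hy
    have hne : φ h ≠ 1 := fun e => by rw [e, orderOf_one] at hy'; norm_num at hy'
    rw [Ne, hker] at hne
    push Not at hne
    obtain ⟨s, hs, hne⟩ := hne
    refine hne ?_
    have hsq : φ (h * h) = 1 := by rw [map_mul, mul_self_of_orderOf_two hy']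
    have h2 : Commute ((h * h : ↥(stabilizer G c)) : G) s := (hker _).1 hsq s hs
    have h3 := E.no_swap h.2 hs (w := (h : G) * s * (h : G)⁻¹) rfl (by
      calc (h : G) * ((h : G) * s * (h : G)⁻¹) * (h : G)⁻¹ = (h : G) * h * s * ((h : G) * h)⁻¹ := by group
        _ = s := by rw [← Subgroup.coe_mul, h2.eq, mul_inv_cancel_right])
    exact mul_inv_eq_iff_eq_mul.1 h3.symm
  have htrans : Cfsg.Agent.Recog.HuppertCases.Trans φ.range.subtype := by
    intro x y hx hy
    obtain ⟨j, hj, e⟩ := E.exists_conj_inv (hvec x hx) (hvec y hy)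
    exact ⟨⟨φ ⟨j, mem_stabilizer_iff.2 (E.J_fix hj)⟩, _, rfl⟩, congrArg Additive.ofMul (Subtype.ext e)⟩
  obtain ⟨F, _, _, e, he⟩ := Cfsg.Agent.Invol.OddTransitive.semi_of_odd hodd φ.range.subtype_injective htrans
  choose A τ hA using he
  have hcardF : Fintype.card F = 2 ^ l := by
    rw [← Nat.card_eq_fintype_card, ← Nat.card_congr e.toEquiv, hV]
  haveI : CharP F 2 := CharTwo.of_one_ne_zero_of_two_eq_zero one_ne_zero (by
    have h1 := map_zero e
    have h2 : (e.symm 1 : Additive W) + e.symm 1 = 0 := hexp (Additive.toMul (e.symm 1))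
    have := congrArg e h2
    rw [map_add, e.apply_symm_apply, map_zero, one_add_one_eq_two] at this
    exact this)
  have haut : Nat.card (F ≃+* F) ≤ l := by
    haveI : Fact (Nat.Prime 2) := ⟨Nat.prime_two⟩
    letI := ZMod.algebra F 2
    let f : (F ≃+* F) ≃ (F ≃ₐ[ZMod 2] F) :=
      { toFun := fun τ => AlgEquiv.ofRingEquiv (f := τ) fun r => RingHom.congr_fun
          (Subsingleton.elim (τ.toRingHom.comp (algebraMap (ZMod 2) F)) (algebraMap (ZMod 2) F)) r
        invFun := fun τ => τ.toRingEquiv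
        left_inv := fun τ => RingEquiv.ext fun _ => rfl
        right_inv := fun τ => AlgEquiv.ext fun _ => rfl }
    rw [Nat.card_congr f, IsGalois.card_aut_eq_finrank]
    have := Module.card_eq_pow_finrank (K := ZMod 2) (V := F)
    rw [ZMod.card, hcardF] at this
    exact ((Nat.pow_right_injective le_rfl this).symm).le
  obtain ⟨w0, hw0⟩ := exists_ne (0 : Additive W)
  have hA0 : ∀ g, A g ≠ 0 := fun g hz => hw0 (by
    have h1 := hA g w0
    rw [hz, zero_mul] at h1
    exact (g.1.map_eq_zero_iff).1 (e.map_eq_zero_iff.1 h1))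
  haveI : Finite (F ≃+* F) := Finite.of_injective (fun f : F ≃+* F => (f : F → F)) DFunLike.coe_injective
  have hrange : Nat.card φ.range ≤ l * Nat.card ↥(invAt G c) := by
    refine (Nat.card_le_card_of_injective (fun g => ((⟨A g, hA0 g⟩ : {x : F // x ≠ 0}), τ g)) ?_).trans ?_
    · intro g g' hgg
      have h1 : A g = A g' := congrArg (fun p => (p.1 : F)) hgg
      have h2 : τ g = τ g' := congrArg Prod.snd hgg
      refine Subtype.ext (LinearEquiv.ext fun w => e.injective ?_)
      exact (hA g w).trans (by rw [h1, h2]; exact (hA g' w).symm)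
    · rw [Nat.card_prod, mul_comm, E.card_inv]
      refine Nat.mul_le_mul haut ?_
      rw [Nat.card_eq_fintype_card, Fintype.card_subtype_compl, Fintype.card_subtype_eq, hcardF]
  -- the pair stabiliser covers the image
  let ψ : ↥(pairStab G c a) → φ.range := fun x => ⟨φ ⟨x, (Subgroup.mem_inf.1 x.2).1⟩, _, rfl⟩
  have hψ : Function.Injective ψ := by
    intro x y hxy
    have h1 : φ ⟨x, (Subgroup.mem_inf.1 x.2).1⟩ = φ ⟨y, (Subgroup.mem_inf.1 y.2).1⟩ := congrArg Subtype.val hxy
    have h2 : φ (⟨y, (Subgroup.mem_inf.1 y.2).1⟩⁻¹ * ⟨x, (Subgroup.mem_inf.1 x.2).1⟩) = 1 := by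
      rw [map_mul, h1, ← map_mul, inv_mul_cancel, map_one]
    exact Subtype.ext (inv_mul_eq_one.1 (E.faithful _ (mul_mem (inv_mem y.2) x.2) ((hker _).1 h2))).symm
  intro h hh
  obtain ⟨x, hx⟩ := (hψ.bijective_of_nat_card_le (hrange.trans (le_of_eq E.card_D.symm))).2 ⟨φ ⟨h, hh⟩, _, rfl⟩
  refine ⟨x, x.2, fun s hs => (hker (⟨x, (Subgroup.mem_inf.1 x.2).1⟩⁻¹ * ⟨h, hh⟩)).1 ?_ s hs⟩
  have h1 : φ ⟨x, (Subgroup.mem_inf.1 x.2).1⟩ = φ ⟨h, hh⟩ := congrArg Subtype.val hx
  rw [map_mul, ← h1, ← map_mul, inv_mul_cancel, map_one]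

end Cfsg.Agent.Invol.Bender
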