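import Cfsg.Agent.Lib.Invol.Bender.Assemble
import Cfsg.Agent.Lib.Invol.Bender.ExcLocal
import Cfsg.Agent.Lib.Invol.Bender.Exceptional

/-!
# Bender's theorem on strongly embedded subgroups

A finite group with two commuting involutions in which every involution fixes exactly one point of a transitive
action is split over each point: modulo the kernel a point stabiliser has a normal two-subgroup regular on the
other points.
-/

set_option autoImplicit false
set_option linter.unusedSectionVars false

namespace Cfsg.Agent.Invol.Bender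

open MulAction Subgroup

universe u

theorem exceptionalCase : ExceptionalCase.{u} := by
  intro G Ω _ _ _ _ U hr h2 hW hF hC c a hca hex
  obtain ⟨w, hw⟩ := U.exists_swap_pair hca
  obtain ⟨n, J, S⟩ := U.semiData hr hW hF hC hca hw
  obtain ⟨hn, hCw⟩ := exc_rank U hca hw S hex
  haveI := Fact.mk hn
  have hn2 : n ≠ 2 := fun e => by
    have h1 : Odd n := (U.odd_pair hca).of_dvd_nat (hCw ▸ Subgroup.card_dvd_of_le inf_le_left)
    rw [e] at h1
    exact Nat.not_odd_iff_even.2 even_two h1
  obtain ⟨⟨σ, hσ⟩, hord⟩ := exists_prime_orderOf_dvd_card' (G := ↥(pairStab G c a ⊓ centralizer ({w} : Set G))) n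
    (by rw [hCw])
  obtain ⟨hσD, hσw⟩ := Subgroup.mem_inf.1 hσ
  rw [Subgroup.orderOf_mk] at hord
  have hσw' : Commute σ w := mem_centralizer_singleton_iff.1 hσw
  obtain ⟨t, ht, hCt⟩ := hC c a hca w hw
  have hinv : Nat.card ↥(invAt G c) = 2 ^ n - 1 := by rw [Nat.card_coe_set_eq, S.card_inv]
  refine exceptional (v := w) (t := t) (σ := σ) (J := J) (l := n)
    { hyp := U, two_trans := h2, comm := hW, ne := hca, prime := hn, ne_two := hn2, card_inv := hinv,
      le := fun j hj => ((S.mem_J j).1 hj).1, card_J := by rw [S.card_J, hinv],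
      normal := S.J_normal, swap := hw, inverted := fun j hj => ((S.mem_J j).1 hj).2,
      semiregular := fun j hj s hs hc => eq_one_of_commute_invAt U hca hw S hex hj hs hc,
      fix_two := S.fix_only, card_D := by rw [hinv]; exact card_pairStab_eq U hca hw S hex,
      inv_t := ht, mem_σ := hσD, order_σ := hord, comm_v := hσw',
      comm_t := (hCt σ hσD).1 hσw', faithful := fun x hx hc => ?_ }
  have h1 : x ∈ fixKer G c a := ⟨hx, mem_centralizer_iff.2 fun s hs => ((hc s hs).eq).symm⟩
  rw [hex.1] at h1
  exact Subgroup.mem_bot.1 h1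

/-- The inductive hypothesis holds for every order. -/
theorem below (n : ℕ) : Below.{u} n := below_of_step (step_of exceptionalCase) n

/-- Bender's theorem. -/
theorem main {G Ω : Type u} [Group G] [Finite G] [MulAction G Ω] (U : Hyp G Ω)
    (hr : TwoRank (⊤ : Subgroup G)) : Split Ω (⊤ : Subgroup G) :=
  below (Nat.card G + 1) G Ω (Nat.lt_succ_self _) U hr

end Cfsg.Agent.Invol.Bender
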