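import Cfsg.Agent.Lib.Invol.Bender.Count
import Cfsg.Agent.Lib.Grp.SchurZassenhaus

/-!
# Consequences of the inductive hypothesis for one subgroup

In a subgroup with a split structure on its centres, the involutions at a centre lie in the normal two part, and a
subgroup of odd order fixing a centre fixes a second one, only one if it is transitive on those involutions.
-/

set_option autoImplicit false
set_option linter.unusedSectionVars false

namespace Cfsg.Agent.Invol.Bender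

open MulAction Subgroup
open scoped Pointwise

universe u v

variable {G : Type u} {Ω : Type v} [Group G] [MulAction G Ω] {M : Subgroup G} {d e : Ω} {Q : Subgroup G}

theorem mem_cen_smul {g : G} (hg : g ∈ M) {x : Ω} (hx : x ∈ cen Ω M) : g • x ∈ cen Ω M := by
  obtain ⟨i, hi, hi2, hix⟩ := hx
  exact ⟨g * i * g⁻¹, mul_mem (mul_mem hg hi) (InvMemClass.inv_mem hg), (orderOf_conj_eq g i).trans hi2,
    by rw [conj_smul_smul, hix]⟩

theorem mem_ker {g : G} : g ∈ ker Ω M ↔ g ∈ M ∧ ∀ x ∈ cen Ω M, g • x = x := by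
  simp only [ker, Subgroup.mem_inf, Subgroup.mem_iInf, mem_stabilizer_iff]

theorem ker_conj_mem {g k : G} (hg : g ∈ M) (hk : k ∈ ker Ω M) : g * k * g⁻¹ ∈ ker Ω M := by
  rw [mem_ker] at hk ⊢
  refine ⟨mul_mem (mul_mem hg hk.1) (InvMemClass.inv_mem hg), fun x hx => ?_⟩
  rw [mul_smul, mul_smul, hk.2 _ (mem_cen_smul (InvMemClass.inv_mem hg) hx), smul_inv_smul]

theorem ker_le : ker Ω M ≤ M := inf_le_left

variable [Finite G]

namespace Hyp

variable (U : Hyp G Ω)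
include U

/-- The kernel has odd order. -/
theorem odd_ker (hM : (cen Ω M).Nontrivial) : Odd (Nat.card (ker Ω M)) := by
  obtain ⟨x, hx, y, hy, hxy⟩ := hM
  refine (U.odd_pair hxy).of_dvd_nat (Subgroup.card_dvd_of_le fun g hg => ?_)
  exact mem_pair.2 ⟨(mem_ker.1 hg).2 x hx, (mem_ker.1 hg).2 y hy⟩

theorem smul_ne_of_invAt {i : G} (hi : i ∈ invAt G d) (he : e ≠ d) : i • e ≠ e :=
  fun h => he (U.fix_eq hi h)

/-- Every element of `M` fixing `d` is a product of an element of `Q` and one fixing `e`. -/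
theorem exists_mul (hQ : SplitAt M d Q) (hec : e ∈ cen Ω M) (he : e ≠ d) {g : G} (hg : g ∈ M)
    (hgd : g • d = d) : ∃ q ∈ Q, ∃ x ∈ M ⊓ pairStab G d e, g = q * x := by
  have hne : g • e ≠ d := fun h => he (smul_left_cancel g (h.trans hgd.symm))
  obtain ⟨q, hq, hqe⟩ := hQ.exists_move e hec he _ (mem_cen_smul hg hec) hne
  obtain ⟨hqM, hqd⟩ := Subgroup.mem_inf.1 (hQ.le hq)
  refine ⟨q, hq, q⁻¹ * g, Subgroup.mem_inf.2 ⟨mul_mem (InvMemClass.inv_mem hqM) hg, mem_pair.2 ⟨?_, ?_⟩⟩, by group⟩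
  · rw [mul_smul, hgd, inv_smul_eq_iff, mem_stabilizer_iff.1 hqd]
  · rw [mul_smul, inv_smul_eq_iff, hqe]

theorem exists_other (hM : (cen Ω M).Nontrivial) (d : Ω) : ∃ e ∈ cen Ω M, e ≠ d := hM.exists_ne d

/-- The involutions of `M` at `d` lie in `Q`. -/
theorem inv_mem (hM : (cen Ω M).Nontrivial) (hQ : SplitAt M d Q) {i : G} (hiM : i ∈ M) (hi : i ∈ invAt G d) :
    i ∈ Q := by
  obtain ⟨e, hec, he⟩ := hM.exists_ne d
  obtain ⟨q, hq, x, hx, hix⟩ := U.exists_mul hQ hec he hiM hi.2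
  obtain ⟨n, hn⟩ : Odd (orderOf x) :=
    (U.odd_pair he.symm).of_dvd_nat (Subgroup.orderOf_dvd_natCard _ (Subgroup.mem_inf.1 hx).2)
  have hsd : M ⊓ stabilizer G d ≤ Subgroup.normalizer (Q : Set G) := fun h hh =>
    Subgroup.mem_normalizer_fintype (hQ.conj_mem h hh)
  have hxmd : x ∈ M ⊓ stabilizer G d :=
    Subgroup.mem_inf.2 ⟨(Subgroup.mem_inf.1 hx).1, mem_stabilizer_iff.2 (mem_pair.1 (Subgroup.mem_inf.1 hx).2).1⟩
  -- modulo `Q` the involution equals an element of odd order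
  let N := (M ⊓ stabilizer G d)
  let Q' := Q.subgroupOf N
  haveI : Q'.Normal := ⟨fun a ha g => by
    rw [Subgroup.mem_subgroupOf] at ha ⊢
    simpa using hQ.conj_mem _ g.2 _ ha⟩
  let π := QuotientGroup.mk' Q'
  obtain ⟨i', hi'⟩ : ∃ i' : N, (i' : G) = i := ⟨⟨i, hiM, hi.2⟩, rfl⟩
  obtain ⟨x', hx'⟩ : ∃ x' : N, (x' : G) = x := ⟨⟨x, hxmd⟩, rfl⟩
  have h1 : π i' = π x' := by
    refine (QuotientGroup.eq.2 ?_).symm
    rw [Subgroup.mem_subgroupOf, Subgroup.coe_mul, Subgroup.coe_inv, hi', hx', hix]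
    have := hQ.conj_mem x⁻¹ (InvMemClass.inv_mem hxmd) q hq
    simpa [mul_assoc] using this
  have h2 : π i' = 1 := by
    have e1 : π i' ^ 2 = 1 := by
      rw [← map_pow, show i' ^ 2 = 1 from Subtype.ext (by
        rw [SubmonoidClass.coe_pow, hi', ← hi.1, pow_orderOf_eq_one, OneMemClass.coe_one]), map_one]
    have e2 : π i' ^ (2 * n + 1) = 1 := by
      rw [h1, ← map_pow, show x' ^ (2 * n + 1) = 1 from Subtype.ext (by
        rw [SubmonoidClass.coe_pow, hx', ← hn, pow_orderOf_eq_one, OneMemClass.coe_one]), map_one]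
    rwa [pow_succ, pow_mul, e1, one_pow, one_mul] at e2
  have h3 := (QuotientGroup.eq_one_iff i').1 h2
  rw [Subgroup.mem_subgroupOf, hi'] at h3
  exact h3

/-- An element of odd order inverted by an involution at `d` and fixing a second centre is in the kernel. -/
theorem real_mem_ker (hM : (cen Ω M).Nontrivial) (hQ : SplitAt M d Q) {z x : G} (hzM : z ∈ M)
    (hz : z ∈ invAt G d) (hxM : x ∈ M) (hodd : Odd (orderOf x)) (hinv : z * x * z⁻¹ = x⁻¹) (hxd : x • d = d)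
    (hec : e ∈ cen Ω M) (he : e ≠ d) (hxe : x • e = e) : x ∈ ker Ω M := by
  have hzQ := U.inv_mem hM hQ hzM hz
  have h1 := hQ.conj_mem x ⟨hxM, hxd⟩ z hzQ
  have h2 : x ^ 2 ∈ Q := by
    have e1 : x * z * x⁻¹ * z⁻¹ = x ^ 2 := by
      calc x * z * x⁻¹ * z⁻¹ = x * (z * x * z⁻¹)⁻¹ := by group
        _ = x ^ 2 := by rw [hinv, inv_inv, pow_two]
    exact e1 ▸ mul_mem h1 (InvMemClass.inv_mem hzQ)
  obtain ⟨n, hn⟩ := hodd
  have h3 : x ∈ Q := by
    have : x = (x ^ 2) ^ (n + 1) := by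
      rw [← pow_mul, show 2 * (n + 1) = 2 * n + 1 + 1 by ring, pow_succ, ← hn, pow_orderOf_eq_one, one_mul]
    rw [this]
    exact pow_mem h2 _
  exact hQ.inf_le e hec he ⟨h3, hxe⟩

/-- A subgroup of odd order fixing a centre fixes a second centre. -/
theorem exists_fix_centre (hM : (cen Ω M).Nontrivial) (hQ : SplitAt M d Q) {A : Subgroup G}
    (hA : A ≤ M ⊓ stabilizer G d) (hodd : Odd (Nat.card A)) :
    ∃ f ∈ cen Ω M, f ≠ d ∧ A ≤ stabilizer G f := by
  obtain ⟨e, hec, he⟩ := hM.exists_ne d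
  let N := (M ⊓ stabilizer G d)
  let K' := (ker Ω M).subgroupOf N
  haveI : K'.Normal := ⟨fun a ha g => by
    rw [Subgroup.mem_subgroupOf] at ha ⊢
    simpa using ker_conj_mem g.2.1 ha⟩
  let π := QuotientGroup.mk' K'
  obtain ⟨k, hk⟩ := hQ.two_index
  let Qb := (Q.subgroupOf N).map π
  let Db := ((M ⊓ pairStab G d e).subgroupOf N).map π
  let Ab := (A.subgroupOf N).map π
  haveI : Qb.Normal := by
    haveI : (Q.subgroupOf N).Normal := ⟨fun a ha g => by
      rw [Subgroup.mem_subgroupOf] at ha ⊢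
      simpa using hQ.conj_mem _ g.2 _ ha⟩
    exact Subgroup.Normal.map inferInstance _ (QuotientGroup.mk'_surjective K')
  have hK0 : 0 < Nat.card (ker Ω M) := Nat.card_pos
  have hQb : Nat.card Qb ∣ 2 ^ k := by
    have h1 : K' ≤ Q.subgroupOf N := fun x hx => hQ.ker_le hx
    have hQle : Q ≤ N := hQ.le
    have hKle : ker Ω M ≤ N := hQ.ker_le.trans hQle
    have h2 := Subgroup.card_eq_card_quotient_mul_card_subgroup (K'.subgroupOf (Q.subgroupOf N))
    rw [Nat.card_congr (subgroupOfEquivOfLe h1).toEquiv, Nat.card_congr (subgroupOfEquivOfLe hKle).toEquiv,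
      Nat.card_congr (subgroupOfEquivOfLe hQle).toEquiv, hk, mul_comm] at h2
    rw [Nat.mul_right_cancel hK0 h2]
    have h4 : Nat.card (Q.subgroupOf N ⧸ K'.subgroupOf (Q.subgroupOf N)) =
        Nat.card (π.comp (Q.subgroupOf N).subtype).range := by
      rw [← Nat.card_congr (QuotientGroup.quotientKerEquivRange (π.comp (Q.subgroupOf N).subtype)).toEquiv]
      refine Nat.card_congr (QuotientGroup.quotientMulEquivOfEq ?_).toEquiv
      ext x
      rw [MonoidHom.mem_ker, Subgroup.mem_subgroupOf, MonoidHom.comp_apply, Subgroup.coe_subtype]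
      exact (QuotientGroup.eq_one_iff _).symm
    rw [h4, MonoidHom.range_comp, Subgroup.range_subtype]
  have hDb : Odd (Nat.card Db) := by
    refine (U.odd_pair he.symm).of_dvd_nat (((Subgroup.card_map_dvd _ _)).trans ?_)
    rw [Nat.card_congr (subgroupOfEquivOfLe (inf_le_inf_left M inf_le_left : M ⊓ pairStab G d e ≤ N)).toEquiv]
    exact Subgroup.card_dvd_of_le inf_le_right
  have hAb : Odd (Nat.card Ab) := by
    refine hodd.of_dvd_nat ((Subgroup.card_map_dvd _ _).trans ?_)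
    rw [Nat.card_congr (subgroupOfEquivOfLe hA).toEquiv]
  have hcop : ∀ S : Subgroup (N ⧸ K'), Odd (Nat.card S) → (Nat.card Qb).Coprime (Nat.card S) := fun S hS =>
    Nat.Coprime.coprime_dvd_left hQb (Nat.Coprime.pow_left _ (Nat.coprime_two_left.2 hS))
  have hdis : ∀ S : Subgroup (N ⧸ K'), Odd (Nat.card S) → ∀ s ∈ S, s ∈ Qb → s = 1 := fun S hS s hs hsq =>
    Subgroup.mem_bot.1 ((Subgroup.inf_eq_bot_of_coprime (hcop S hS)) ▸ ⟨hsq, hs⟩ : s ∈ (⊥ : Subgroup (N ⧸ K')))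
  let H' := (Qb ⊔ Ab) ⊓ Db
  have hH' : Odd (Nat.card H') := hDb.of_dvd_nat (Subgroup.card_dvd_of_le inf_le_right)
  have htop : ∀ g : N ⧸ K', ∃ q ∈ Qb, ∃ x ∈ Db, g = q * x := fun g => by
    obtain ⟨g, rfl⟩ := QuotientGroup.mk'_surjective K' g
    obtain ⟨q, hq, x, hx, hqx⟩ := U.exists_mul hQ hec he g.2.1 g.2.2
    refine ⟨π ⟨q, hQ.le hq⟩, ⟨_, hq, rfl⟩, π ⟨x, ⟨hx.1, (Subgroup.mem_inf.1 hx.2).1⟩⟩, ⟨_, hx, rfl⟩, ?_⟩
    rw [← map_mul]
    exact congrArg π (Subtype.ext hqx)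
  let ρ := QuotientGroup.mk' Qb
  have hinj : ∀ S : Subgroup (N ⧸ K'), Odd (Nat.card S) → Nat.card (S.map ρ) = Nat.card S := fun S hS => by
    have : Function.Injective (ρ.subgroupMap S) := by
      rw [← MonoidHom.ker_eq_bot_iff, eq_bot_iff]
      intro s hs
      have h1 : ρ (s : N ⧸ K') = 1 := congrArg Subtype.val (MonoidHom.mem_ker.1 hs)
      exact Subgroup.mem_bot.2 (Subtype.ext (hdis S hS s s.2 ((QuotientGroup.eq_one_iff _).1 h1)))
    exact (Nat.card_congr (Equiv.ofBijective _ ⟨this, ρ.subgroupMap_surjective S⟩)).symm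
  have himg : Ab.map ρ = H'.map ρ := by
    refine le_antisymm ?_ ((Subgroup.map_mono inf_le_left).trans ?_)
    · rintro _ ⟨a, ha, rfl⟩
      obtain ⟨q, hq, x, hx, rfl⟩ := htop a
      refine ⟨x, ⟨?_, hx⟩, ?_⟩
      · have h5 := mul_mem (InvMemClass.inv_mem (mem_sup_left (T := Ab) hq)) (mem_sup_right (S := Qb) ha)
        rwa [inv_mul_cancel_left] at h5
      · rw [map_mul, show ρ q = 1 from (QuotientGroup.eq_one_iff q).2 hq, one_mul]
    · rw [Subgroup.map_sup, QuotientGroup.map_mk'_self, bot_sup_eq]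
  have hcard : Nat.card Ab = Nat.card H' := by rw [← hinj Ab hAb, himg, hinj H' hH']
  have hle : Ab ≤ Qb ⊔ H' := by
    intro a ha
    obtain ⟨q, hq, x, hx, rfl⟩ := htop a
    refine mul_mem (mem_sup_left hq) (mem_sup_right ⟨?_, hx⟩)
    have h5 := mul_mem (InvMemClass.inv_mem (mem_sup_left (T := Ab) hq)) (mem_sup_right (S := Qb) ha)
    rwa [inv_mul_cancel_left] at h5
  obtain ⟨n, hn, hnH⟩ := Grp.exists_conj_of_le_sup (N := Qb) (H := H') (K := Ab)
    (by rw [Subgroup.normalizer_eq_top]; exact le_top) hle hcard (hcop H' hH')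
    (Or.inl (by
      haveI : Fact (Nat.Prime 2) := ⟨Nat.prime_two⟩
      obtain ⟨j, -, hj⟩ := (Nat.dvd_prime_pow Nat.prime_two).1 hQb
      haveI := (IsPGroup.of_card hj).isNilpotent
      infer_instance))
  obtain ⟨q, hq, rfl⟩ := hn
  have hqN : (q : G) ∈ M ∧ (q : G) • d = d := q.2
  refine ⟨(q : G) • e, mem_cen_smul hqN.1 hec, fun h => he (smul_left_cancel (q : G) (h.trans hqN.2.symm)),
    fun a ha => ?_⟩
  have h6 : π ⟨a, hA ha⟩ ∈ MulAut.conj (π q) • H' := hnH.symm ▸ ⟨_, ha, rfl⟩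
  obtain ⟨c, hc, hca⟩ := h6
  obtain ⟨x, hx, rfl⟩ := (Subgroup.mem_inf.1 hc).2
  have h7 : π (q * x * q⁻¹) = π ⟨a, hA ha⟩ := by
    rw [map_mul, map_mul, map_inv, ← hca]; rfl
  have h8 := Subgroup.mem_subgroupOf.1 (QuotientGroup.eq.1 h7.symm)
  rw [Subgroup.coe_mul, Subgroup.coe_inv, Subgroup.coe_mul, Subgroup.coe_mul, Subgroup.coe_inv] at h8
  have h9 := (mem_ker.1 h8).2 ((q : G) • e) (mem_cen_smul hqN.1 hec)
  have h10 : ((q : G) * x * (q : G)⁻¹) • ((q : G) • e) = (q : G) • e := by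
    rw [conj_smul_smul]
    exact congrArg ((q : G) • ·) (mem_pair.1 (Subgroup.mem_inf.1 hx).2).2
  rw [mul_smul, h10, inv_smul_eq_iff] at h9
  exact mem_stabilizer_iff.2 h9.symm

/-- `M` is transitive on its centres. -/
theorem exists_smul_cen (hS : Split Ω M) {c : Ω} (hc : c ∈ cen Ω M) (hd : d ∈ cen Ω M) :
    ∃ g ∈ M, g • c = d := by
  rcases eq_or_ne c d with rfl | hcd
  · exact ⟨1, one_mem M, one_smul G c⟩
  obtain ⟨i, hiM, hi2, hid⟩ := id hd
  have h1 : i • c ∈ cen Ω M := mem_cen_smul hiM hc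
  have h2 : i • c ≠ c := U.smul_ne_of_invAt ⟨hi2, hid⟩ hcd
  have h3 : i • c ≠ d := fun h => hcd (smul_left_cancel i (h.trans hid.symm))
  obtain ⟨Q', hQ'⟩ := hS _ h1
  obtain ⟨q, hq, hqc⟩ := hQ'.exists_move c hc h2.symm d hd (Ne.symm h3)
  exact ⟨q, (Subgroup.mem_inf.1 (hQ'.le hq)).1, hqc⟩

/-- A subgroup transitive on the involutions of `M` at a centre fixes at most one further centre. -/
theorem fix_centre_unique (hS : Split Ω M) (hM : (cen Ω M).Nontrivial) (hd : d ∈ cen Ω M) (hQ : SplitAt M d Q)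
    (h2 : TwoRank M) {A : Subgroup G} (hA : A ≤ M ⊓ stabilizer G d)
    (htr : ∀ s ∈ M, s ∈ invAt G d → ∀ t ∈ M, t ∈ invAt G d → ∃ x ∈ A, x * s * x⁻¹ = t)
    {f f' : Ω} (hf : f ∈ cen Ω M) (hfd : f ≠ d) (hAf : A ≤ stabilizer G f)
    (hf' : f' ∈ cen Ω M) (hfd' : f' ≠ d) (hAf' : A ≤ stabilizer G f') : f = f' := by
  by_contra hne
  obtain ⟨q, hq, hqf⟩ := hQ.exists_move f hf hfd f' hf' hfd'
  have hqK : q ∉ ker Ω M := fun h => hne (by rw [← hqf, (mem_ker.1 h).2 f hf])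
  -- elements of `Q` centralised by `A` modulo the kernel
  have hstep : ∀ a ∈ A, a * q * a⁻¹ * q⁻¹ ∈ ker Ω M := fun a ha => by
    refine hQ.inf_le f' hf' hfd' ⟨mul_mem (hQ.conj_mem a (hA ha) q hq) (Q.inv_mem hq), ?_⟩
    show (a * q * a⁻¹ * q⁻¹) • f' = f'
    rw [mul_smul, inv_smul_eq_iff.2 hqf.symm, mul_smul, mul_smul,
      inv_smul_eq_iff.2 (mem_stabilizer_iff.1 (hAf ha)).symm, hqf, mem_stabilizer_iff.1 (hAf' ha)]
  have hpow : ∀ j : ℕ, ∀ a ∈ A, a * q ^ j * a⁻¹ * (q ^ j)⁻¹ ∈ ker Ω M := by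
    intro j a ha
    induction j with
    | zero => simp
    | succ j ih =>
      have hqjM : q ^ j ∈ M := pow_mem (Subgroup.mem_inf.1 (hQ.le hq)).1 j
      have := mul_mem ih (ker_conj_mem hqjM (hstep a ha))
      rw [pow_succ]
      convert this using 1
      group
  obtain ⟨k, hk⟩ := hQ.two_index
  have hoddK := U.odd_ker hM
  -- the first two power whose square lands in the kernel
  have hex : ∃ l : ℕ, (q ^ (2 ^ l * Nat.card (ker Ω M))) = 1 := ⟨k, by
    rw [mul_comm, ← hk]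
    exact congrArg Subtype.val (pow_card_eq_one' (x := (⟨q, hq⟩ : Q)))⟩
  classical
  obtain ⟨l, hl, hlmin⟩ : ∃ l, q ^ (2 ^ l * Nat.card (ker Ω M)) = 1 ∧
      ∀ j < l, q ^ (2 ^ j * Nat.card (ker Ω M)) ≠ 1 := ⟨Nat.find hex, Nat.find_spec hex, fun j hj => Nat.find_min hex hj⟩
  have hl0 : l ≠ 0 := by
    rintro rfl
    rw [pow_zero, one_mul] at hl
    refine hqK ?_
    -- `q` has odd order, so it is a power of its square
    have h4 : ∀ x ∈ Q, x ^ Nat.card (ker Ω M) = 1 → x ∈ ker Ω M := fun x hx hx1 => by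
      haveI : ((ker Ω M).subgroupOf Q).Normal := ⟨fun a ha g => by
        rw [Subgroup.mem_subgroupOf] at ha ⊢
        simpa using ker_conj_mem (Subgroup.mem_inf.1 (hQ.le g.2)).1 ha⟩
      have h5 := pow_card_eq_one' (x := QuotientGroup.mk' ((ker Ω M).subgroupOf Q) ⟨x, hx⟩)
      have h6 : Nat.card (Q ⧸ (ker Ω M).subgroupOf Q) = 2 ^ k := by
        have h7 := Subgroup.card_eq_card_quotient_mul_card_subgroup ((ker Ω M).subgroupOf Q)
        rw [Nat.card_congr (subgroupOfEquivOfLe hQ.ker_le).toEquiv, hk, mul_comm] at h7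
        exact (Nat.mul_right_cancel Nat.card_pos h7).symm
      rw [h6] at h5
      have h8 : QuotientGroup.mk' ((ker Ω M).subgroupOf Q) ⟨x, hx⟩ ^ Nat.card (ker Ω M) = 1 := by
        rw [← map_pow, show (⟨x, hx⟩ : Q) ^ Nat.card (ker Ω M) = 1 from Subtype.ext hx1, map_one]
      have h9 := pow_gcd_eq_one.2 ⟨h5, h8⟩
      rw [Nat.Coprime.pow_left _ (Nat.coprime_two_left.2 hoddK) |>.gcd_eq_one, pow_one] at h9
      exact Subgroup.mem_subgroupOf.1 ((QuotientGroup.eq_one_iff _).1 h9)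
    exact h4 q hq hl
  obtain ⟨l, rfl⟩ := Nat.exists_eq_succ_of_ne_zero hl0
  obtain ⟨i, hi⟩ : ∃ i, i = q ^ (2 ^ l * Nat.card (ker Ω M)) := ⟨_, rfl⟩
  have hi2 : orderOf i = 2 := orderOf_two_iff.2 ⟨by
    rw [hi, ← pow_add, ← two_mul, ← mul_assoc, ← pow_succ']; exact hl, hi ▸ hlmin l (Nat.lt_succ_self l)⟩
  have hiQ : i ∈ Q := hi ▸ pow_mem hq _
  obtain ⟨hiM, hid⟩ := Subgroup.mem_inf.1 (hQ.le hiQ)
  have hfuse : ∀ s ∈ M, s ∈ invAt G d → s * i⁻¹ ∈ ker Ω M := fun s hsM hs => by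
    obtain ⟨x, hx, rfl⟩ := htr i hiM ⟨hi2, hid⟩ s hsM hs
    rw [hi]
    exact hpow _ x hx
  obtain ⟨x, hxM, y, hyM, hx2, hy2, hxy, hc⟩ := h2
  obtain ⟨c, hxc⟩ := U.exists_fix x hx2
  have hyc : y • c = c := U.fix_of_commute hx2 hxc hc.symm
  obtain ⟨g, hg, hgc⟩ := U.exists_smul_cen hS ⟨x, hxM, hx2, hxc⟩ hd
  have hmove : ∀ z ∈ M, orderOf z = 2 → z • c = c → (g * z * g⁻¹) * i⁻¹ ∈ ker Ω M := fun z hz hz2 hzc =>
    hfuse _ (mul_mem (mul_mem hg hz) (InvMemClass.inv_mem hg)) ⟨(orderOf_conj_eq g z).trans hz2, by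
      rw [← hgc, conj_smul_smul, hzc]⟩
  have hmem : g * (x * y) * g⁻¹ ∈ ker Ω M := by
    have h3 := mul_mem (hmove x hxM hx2 hxc) (InvMemClass.inv_mem (hmove y hyM hy2 hyc))
    convert h3 using 1
    rw [mul_inv_rev, inv_inv, mul_assoc (g * x * g⁻¹), ← mul_assoc i⁻¹ i, inv_mul_cancel, one_mul,
      show (g * y * g⁻¹)⁻¹ = g * y⁻¹ * g⁻¹ by group, inv_of_orderOf_two hy2]
    group
  have hxy2 : orderOf (g * (x * y) * g⁻¹) = 2 := by
    rw [orderOf_conj_eq]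
    refine orderOf_two_iff.2 ⟨?_, fun h => hxy ?_⟩
    · calc x * y * (x * y) = x * (y * x) * y := by group
        _ = x * (x * y) * y := by rw [← hc.eq]
        _ = (x * x) * (y * y) := by group
        _ = 1 := by rw [mul_self_of_orderOf_two hx2, mul_self_of_orderOf_two hy2, one_mul]
    rw [← inv_of_orderOf_two hy2]
    exact eq_inv_of_mul_eq_one_left h
  have h4 := Subgroup.orderOf_dvd_natCard _ hmem
  rw [hxy2] at h4
  exact Nat.not_even_iff_odd.2 hoddK (even_iff_two_dvd.2 h4)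

end Hyp

end Cfsg.Agent.Invol.Bender
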