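import Cfsg.Agent.Lib.Invol.Bender.Spec
import Cfsg.Agent.Lib.Invol.Bender.SplitFacts

/-!
# The inductive hypothesis for the subgroups of one group

A subgroup with at least two centres acts on its centres as a group in which every involution fixes exactly one
point; so the inductive hypothesis gives the split structure for all proper subgroups, and for the image of a point
stabiliser in any action of that kind.
-/

set_option autoImplicit false
set_option linter.unusedSectionVars false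

namespace Cfsg.Agent.Invol.Bender

open MulAction Subgroup

universe u v

variable {G : Type u} [Group G] {Ω : Type v} [MulAction G Ω]

/-- A subgroup acts on its centres. -/
def cenAct (Ω : Type v) [MulAction G Ω] (M : Subgroup G) : SubMulAction M Ω where
  carrier := cen Ω M
  smul_mem' g _ hx := mem_cen_smul g.2 hx

theorem cenAct_smul {M : Subgroup G} (g : M) (x : cenAct Ω M) : ((g • x : cenAct Ω M) : Ω) = (g : G) • (x : Ω) :=
  rfl

theorem twoRank_top {M : Subgroup G} (h : TwoRank M) : TwoRank (⊤ : Subgroup M) := by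
  obtain ⟨x, hx, y, hy, hx2, hy2, hxy, hc⟩ := h
  exact ⟨⟨x, hx⟩, mem_top _, ⟨y, hy⟩, mem_top _, by rw [← Subgroup.orderOf_coe]; exact hx2,
    by rw [← Subgroup.orderOf_coe]; exact hy2, fun e => hxy (congrArg Subtype.val e), Subtype.ext hc⟩

variable [Finite G]

theorem Hyp.hyp_cen (U : Hyp G Ω) {M : Subgroup G} (hM : (cen Ω M).Nontrivial) : Hyp M (cenAct Ω M) where
  transitive := by
    refine ⟨?_⟩
    rintro ⟨x, i, hiM, hi, hix⟩ ⟨y, s, hsM, hs, hsy⟩
    rcases eq_or_ne x y with rfl | hxy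
    · exact ⟨1, one_smul _ _⟩
    obtain ⟨n, hn⟩ := U.odd_product hi hs hix hsy hxy
    have hii := mul_self_of_orderOf_two hi
    obtain ⟨k, hk⟩ : ∃ k, k = (i * s) ^ (n : ℤ) := ⟨_, rfl⟩
    have hkM : k ∈ M := hk ▸ zpow_mem (mul_mem hiM hsM) _
    have hki : k * i * k⁻¹ = s := by
      rw [hk, ← zpow_neg, mul_assoc, mul_zpow_comm hi hs, neg_neg, ← mul_assoc, ← zpow_add]
      have h1 : (i * s) ^ ((n : ℤ) + n) = (i * s)⁻¹ := by
        rw [eq_inv_iff_mul_eq_one, ← zpow_add_one,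
          show (n : ℤ) + n + 1 = ((2 * n + 1 : ℕ) : ℤ) by push_cast; ring, zpow_natCast, ← hn, pow_orderOf_eq_one]
      rw [h1, mul_inv_rev, mul_assoc, inv_mul_cancel, mul_one, inv_of_orderOf_two hs]
    refine ⟨⟨k, hkM⟩, Subtype.ext (U.fix_unique s hs _ _ ?_ hsy)⟩
    show s • (k • x) = k • x
    rw [← hki, conj_smul_smul, hix]
  nontrivial := by
    obtain ⟨x, hx, y, hy, hxy⟩ := hM
    exact ⟨⟨x, hx⟩, ⟨y, hy⟩, fun e => hxy (congrArg Subtype.val e)⟩
  exists_inv := by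
    obtain ⟨x, ⟨i, hiM, hi, -⟩, -⟩ := hM
    exact ⟨⟨i, hiM⟩, by rw [← Subgroup.orderOf_coe]; exact hi⟩
  unique_fix i hi := by
    rw [← Subgroup.orderOf_coe] at hi
    obtain ⟨x, hx⟩ := U.exists_fix i hi
    exact ⟨⟨x, i, i.2, hi, hx⟩, Subtype.ext hx,
      fun y hy => Subtype.ext (U.fix_unique i hi _ _ (congrArg Subtype.val hy) hx)⟩

/-- Involutions of a subgroup in the subgroup. -/
theorem cen_top_cenAct (U : Hyp G Ω) (M : Subgroup G) (x : cenAct Ω M) :
    x ∈ cen (cenAct Ω M) (⊤ : Subgroup M) := by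
  obtain ⟨x, i, hiM, hi, hix⟩ := x
  exact ⟨⟨i, hiM⟩, mem_top _, by rw [← Subgroup.orderOf_coe]; exact hi, Subtype.ext hix⟩

/-- Split structures on the centres are split structures in the whole action. -/
theorem split_of_cenAct (U : Hyp G Ω) {M : Subgroup G} (h : Split (cenAct Ω M) (⊤ : Subgroup M)) : Split Ω M := by
  intro d hd
  obtain ⟨Q, hQ⟩ := h ⟨d, hd⟩ (cen_top_cenAct U M _)
  obtain ⟨Q', hQ'⟩ : ∃ Q' : Subgroup G, Q' = Q.map M.subtype := ⟨_, rfl⟩
  have hker : ∀ g : M, g ∈ ker (cenAct Ω M) (⊤ : Subgroup M) ↔ (g : G) ∈ ker Ω M := fun g => by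
    rw [mem_ker, mem_ker]
    refine ⟨fun h => ⟨g.2, fun x hx => congrArg Subtype.val (h.2 ⟨x, hx⟩ (cen_top_cenAct U M _))⟩,
      fun h => ⟨mem_top g, fun x _ => Subtype.ext (h.2 x.1 x.2)⟩⟩
  have hkmap : (ker (cenAct Ω M) (⊤ : Subgroup M)).map M.subtype = ker Ω M := by
    ext g
    constructor
    · rintro ⟨g, hg, rfl⟩; exact (hker g).1 hg
    · exact fun hg => ⟨⟨g, ker_le hg⟩, (hker _).2 hg, rfl⟩
  have hcard : ∀ A : Subgroup M, Nat.card (A.map M.subtype) = Nat.card A := fun A =>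
    (Nat.card_congr (A.equivMapOfInjective M.subtype M.subtype_injective).toEquiv).symm
  refine ⟨Q', hkmap ▸ hQ' ▸ Subgroup.map_mono hQ.ker_le, ?_, ?_, ?_, ?_, ?_, ?_⟩
  · rintro g hg
    rw [hQ'] at hg
    obtain ⟨g, hg, rfl⟩ := hg
    exact ⟨g.2, congrArg Subtype.val (mem_stabilizer_iff.1 (hQ.le hg).2)⟩
  · rintro g ⟨hgM, hgd⟩ x hx
    rw [hQ'] at hx ⊢
    obtain ⟨x, hx, rfl⟩ := hx
    exact ⟨⟨g, hgM⟩ * x * ⟨g, hgM⟩⁻¹, hQ.conj_mem _ ⟨mem_top _, Subtype.ext (mem_stabilizer_iff.1 hgd)⟩ x hx, rfl⟩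
  · obtain ⟨k, hk⟩ := hQ.two_index
    exact ⟨k, by rw [hQ', hcard, hk, ← hkmap, hcard]⟩
  · intro e he hed f hf hfd
    obtain ⟨q, hq, hqe⟩ := hQ.exists_move ⟨e, he⟩ (cen_top_cenAct U M _) (fun h => hed (congrArg Subtype.val h))
      ⟨f, hf⟩ (cen_top_cenAct U M _) (fun h => hfd (congrArg Subtype.val h))
    exact ⟨q, hQ' ▸ ⟨q, hq, rfl⟩, congrArg Subtype.val hqe⟩
  · rintro e he hed g ⟨hg, hge⟩
    rw [hQ'] at hg
    obtain ⟨g, hg, rfl⟩ := hg
    rw [← hkmap]
    exact ⟨g, hQ.inf_le ⟨e, he⟩ (cen_top_cenAct U M _) (fun h => hed (congrArg Subtype.val h))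
      ⟨hg, Subtype.ext hge⟩, rfl⟩
  · intro e he hed
    refine (U.odd_pair (Ne.symm hed)).of_dvd_nat (Subgroup.card_dvd_of_le inf_le_right)

section

variable {G : Type u} [Group G] [Finite G] {Ω : Type u} [MulAction G Ω]

/-- The inductive hypothesis gives the split structure of every proper subgroup. -/
theorem splitBelow_of_below (U : Hyp G Ω) (hb : Below.{u} (Nat.card G)) : SplitBelow G Ω := fun M hM hcen h2 =>
  split_of_cenAct U (hb M (cenAct Ω M)
    (lt_of_le_of_ne (Subgroup.card_le_card_group M) fun e => hM (Subgroup.eq_top_of_card_eq M e))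
    (U.hyp_cen hcen) (twoRank_top h2))

end

end Cfsg.Agent.Invol.Bender
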