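import Cfsg.Agent.Lib.Invol.Bender.Spec
import Cfsg.Agent.Lib.Invol.Bender.SplitFacts

/-!
# Centralisers of subgroups of a pair stabiliser

A nontrivial subgroup of a pair stabiliser centralising two involutions at `c` has all its fixed points as centres
of its centraliser; the split structure there makes the elements of two power order at `c` transitive on them.
-/

set_option autoImplicit false
set_option linter.unusedSectionVars false

namespace Cfsg.Agent.Invol.Bender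

open MulAction Subgroup

universe u v

variable {G : Type u} {Ω : Type v} [Group G] [MulAction G Ω] [Finite G]

/-- A subgroup of a pair stabiliser centralising an involution at `c` has the second point as a centre of its
centraliser. -/
theorem Hyp.mem_cen_centralizer (U : Hyp G Ω) (hC : ConjPair G Ω) {c b : Ω} (hcb : c ≠ b) {L : Subgroup G}
    (hLc : ∀ l ∈ L, l • c = c) (hLb : ∀ l ∈ L, l • b = b) {t : G} (ht : t ∈ invAt G c)
    (hLt : ∀ l ∈ L, Commute l t) : b ∈ cen Ω (centralizer (L : Set G)) := by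
  obtain ⟨w, hw⟩ := U.exists_swap_pair hcb
  obtain ⟨t', ht', hCw⟩ := hC c b hcb w hw
  obtain ⟨d, hd, hdt⟩ := U.exists_conj_invAt hcb ht' ht
  have hu : d * w * d⁻¹ ∈ swapAt G c b := U.swappers_conj hd hw
  have hLu : ∀ l ∈ L, Commute l (d * w * d⁻¹) := fun l hl => by
    have h1 : Commute (d⁻¹ * l * d) t' := by
      have h2 : l * (d * t' * d⁻¹) = d * t' * d⁻¹ * l := hdt ▸ (hLt l hl).eq
      show d⁻¹ * l * d * t' = t' * (d⁻¹ * l * d)
      calc d⁻¹ * l * d * t' = d⁻¹ * (l * (d * t' * d⁻¹)) * d := by group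
        _ = d⁻¹ * (d * t' * d⁻¹ * l) * d := by rw [h2]
        _ = _ := by group
    have h3 : (d⁻¹ * l * d) ∈ pairStab G c b :=
      mul_mem (mul_mem (InvMemClass.inv_mem hd) (mem_pair.2 ⟨hLc l hl, hLb l hl⟩)) hd
    have h4 := (hCw _ h3).2 h1
    show l * (d * w * d⁻¹) = d * w * d⁻¹ * l
    calc l * (d * w * d⁻¹) = d * (d⁻¹ * l * d * w) * d⁻¹ := by group
      _ = d * (w * (d⁻¹ * l * d)) * d⁻¹ := by rw [h4.eq]
      _ = _ := by group
  obtain ⟨u, hu, hLu⟩ : ∃ u ∈ swapAt G c b, ∀ l ∈ L, Commute l u := ⟨_, hu, hLu⟩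
  refine ⟨u * t * u⁻¹, ?_, (orderOf_conj_eq u t).trans ht.1, by rw [← hu.2, conj_smul_smul, ht.2]⟩
  have hum : u ∈ centralizer (L : Set G) := fun l hl => (hLu l hl).eq
  exact mul_mem (mul_mem hum fun l hl => (hLt l hl).eq) (InvMemClass.inv_mem hum)

/-- The fixed points of the subgroup are the centres of its centraliser. -/
theorem Hyp.cen_centralizer (U : Hyp G Ω) (hC : ConjPair G Ω) {c : Ω} {L : Subgroup G}
    (hLc : ∀ l ∈ L, l • c = c) {t : G} (ht : t ∈ invAt G c) (hLt : ∀ l ∈ L, Commute l t) {b : Ω} :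
    b ∈ cen Ω (centralizer (L : Set G)) ↔ ∀ l ∈ L, l • b = b := by
  constructor
  · rintro ⟨i, hi, hi2, hib⟩ l hl
    exact U.fix_of_commute hi2 hib (hi l hl)
  · intro hb
    rcases eq_or_ne c b with rfl | hcb
    · exact ⟨t, fun l hl => (hLt l hl).eq, ht.1, ht.2⟩
    · exact U.mem_cen_centralizer hC hcb hLc hb ht hLt

/-- What the split structure of the centraliser gives at `c`. -/
theorem Hyp.centralizer_split (U : Hyp G Ω) [FaithfulSMul G Ω] (hS : SplitBelow G Ω) (hC : ConjPair G Ω)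
    {c a : Ω} (hca : c ≠ a) {L : Subgroup G} (hne : L ≠ ⊥) (hLD : L ≤ pairStab G c a) {t t' : G}
    (ht : t ∈ invAt G c) (ht' : t' ∈ invAt G c) (htt : t ≠ t') (hcomm : Commute t t')
    (hLt : ∀ l ∈ L, Commute l t) (hLt' : ∀ l ∈ L, Commute l t') :
    ∃ Q, SplitAt (centralizer (L : Set G)) c Q ∧ c ∈ cen Ω (centralizer (L : Set G)) ∧
      (cen Ω (centralizer (L : Set G))).Nontrivial := by
  have hLc : ∀ l ∈ L, l • c = c := fun l hl => (mem_pair.1 (hLD hl)).1
  have hc : c ∈ cen Ω (centralizer (L : Set G)) := (U.cen_centralizer hC hLc ht hLt).2 hLc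
  have hnt : (cen Ω (centralizer (L : Set G))).Nontrivial :=
    ⟨c, hc, a, (U.cen_centralizer hC hLc ht hLt).2 (fun l hl => (mem_pair.1 (hLD hl)).2), hca⟩
  have hM : centralizer (L : Set G) ≠ ⊤ := fun htop => hne (L.eq_bot_iff_forall.2 fun l hl => by
    refine eq_of_smul_eq_smul (α := Ω) fun x => ?_
    obtain ⟨g, rfl⟩ := U.exists_smul_eq c x
    have hg : g ∈ centralizer (L : Set G) := htop ▸ mem_top g
    rw [one_smul, ← mul_smul, hg l hl, mul_smul, hLc l hl])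
  obtain ⟨Q, hQ⟩ := hS _ hM hnt ⟨t, fun l hl => (hLt l hl).eq, t', fun l hl => (hLt' l hl).eq, ht.1, ht'.1,
    htt, hcomm⟩ c hc
  exact ⟨Q, hQ, hc, hnt⟩

/-- A point other than `c` is the image of a given one under an element of two power order of `Q`. -/
theorem exists_two_move {M Q : Subgroup G} {c : Ω} (hQ : SplitAt M c Q) {x y : Ω} (hx : x ∈ cen Ω M) (hxc : x ≠ c)
    (hy : y ∈ cen Ω M) (hyc : y ≠ c) (hoddK : Odd (Nat.card (ker Ω M))) :
    ∃ q ∈ Q, (∃ e : ℕ, q ^ 2 ^ e = 1) ∧ q • x = y := by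
  obtain ⟨q, hq, hqx⟩ := hQ.exists_move x hx hxc y hy hyc
  obtain ⟨k, hk⟩ := hQ.two_index
  obtain ⟨M', hM'⟩ : ∃ r, r = Nat.card (ker Ω M) := ⟨_, rfl⟩
  rw [← hM'] at hk hoddK
  have hcop : Nat.Coprime M' (2 ^ k) := (Nat.coprime_two_right.2 hoddK).pow_right k
  obtain ⟨r, hr⟩ : ∃ r : ℕ, M' * r ≡ 1 [MOD 2 ^ k] := by
    rcases Nat.eq_zero_or_pos k with rfl | hk0
    · exact ⟨0, Nat.modEq_one⟩
    · obtain ⟨r, -, hr⟩ := Nat.exists_mul_mod_eq_one_of_coprime hcop (Nat.one_lt_two_pow hk0.ne')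
      exact ⟨r, hr.trans (Nat.mod_eq_of_lt (Nat.one_lt_two_pow hk0.ne')).symm⟩
  refine ⟨q ^ (M' * r), pow_mem hq _, ⟨k, ?_⟩, ?_⟩
  · have h1 : q ^ (M' * 2 ^ k) = 1 := by
      rw [← hk]
      exact congrArg Subtype.val (pow_card_eq_one' (x := (⟨q, hq⟩ : Q)))
    rw [← pow_mul, mul_right_comm, pow_mul, h1, one_pow]
  · haveI : ((ker Ω M).subgroupOf Q).Normal := ⟨fun z hz g => by
      rw [Subgroup.mem_subgroupOf] at hz ⊢
      simpa using ker_conj_mem (Subgroup.mem_inf.1 (hQ.le g.2)).1 hz⟩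
    have hcardq : Nat.card (Q ⧸ (ker Ω M).subgroupOf Q) = 2 ^ k := by
      have h7 := Subgroup.card_eq_card_quotient_mul_card_subgroup ((ker Ω M).subgroupOf Q)
      rw [Nat.card_congr (subgroupOfEquivOfLe hQ.ker_le).toEquiv, ← hM', hk, mul_comm M'] at h7
      exact (Nat.mul_right_cancel (hM' ▸ Nat.card_pos) h7).symm
    have h1 : QuotientGroup.mk' ((ker Ω M).subgroupOf Q) (⟨q, hq⟩ ^ (M' * r)) =
        QuotientGroup.mk' ((ker Ω M).subgroupOf Q) ⟨q, hq⟩ := by
      rw [map_pow]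
      conv_rhs => rw [← pow_one (QuotientGroup.mk' ((ker Ω M).subgroupOf Q) ⟨q, hq⟩)]
      exact pow_eq_pow_iff_modEq.2 (hr.of_dvd (hcardq ▸ orderOf_dvd_natCard _))
    have h2 := QuotientGroup.eq.1 h1
    rw [Subgroup.mem_subgroupOf, Subgroup.coe_mul, Subgroup.coe_inv, SubmonoidClass.coe_pow] at h2
    have h3 := (mem_ker.1 h2).2 x hx
    rw [mul_smul, inv_smul_eq_iff, hqx] at h3
    exact h3.symm

/-- The centres other than `c` are as many as the two power index of the kernel in `Q`. -/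
theorem card_cen_erase {M Q : Subgroup G} {c : Ω} (hQ : SplitAt M c Q) (hnt : (cen Ω M).Nontrivial) :
    ∃ k : ℕ, (cen Ω M \ {c}).ncard = 2 ^ k := by
  obtain ⟨k, hk⟩ := hQ.two_index
  refine ⟨k, ?_⟩
  obtain ⟨a, ha, hac⟩ := hnt.exists_ne c
  have horb : MulAction.orbit Q a = cen Ω M \ {c} := by
    ext y
    constructor
    · rintro ⟨⟨q, hq⟩, rfl⟩
      obtain ⟨hqM, hqc⟩ := Subgroup.mem_inf.1 (hQ.le hq)
      refine ⟨mem_cen_smul hqM ha, fun h => hac (smul_left_cancel q ?_)⟩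
      rw [mem_stabilizer_iff.1 hqc]
      exact h
    · rintro ⟨hy, hyc⟩
      obtain ⟨q, hq, hqy⟩ := hQ.exists_move a ha hac y hy hyc
      exact ⟨⟨q, hq⟩, hqy⟩
  have hstab : MulAction.stabilizer Q a = (ker Ω M).subgroupOf Q := by
    ext q
    rw [mem_stabilizer_iff, Subgroup.mem_subgroupOf]
    exact ⟨fun h => hQ.inf_le a ha hac ⟨q.2, h⟩, fun h => (mem_ker.1 h).2 a ha⟩
  have h1 : Nat.card (MulAction.orbit Q a) * Nat.card (MulAction.stabilizer Q a) = Nat.card Q := by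
    rw [← Nat.card_prod]
    exact Nat.card_congr (MulAction.orbitProdStabilizerEquivGroup Q a)
  rw [hstab, Nat.card_congr (subgroupOfEquivOfLe hQ.ker_le).toEquiv, horb, Nat.card_coe_set_eq, hk, mul_comm] at h1
  exact Nat.eq_of_mul_eq_mul_left Nat.card_pos h1

/-- If the elements of the centraliser fixing `c` and `a` are transitive on the involutions at `c` in it, then `Q`
centralises these involutions. -/
theorem Hyp.commute_of_mem (U : Hyp G Ω) (hW : InvComm G Ω) {M Q : Subgroup G} {c : Ω} (hQ : SplitAt M c Q)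
    (hnt : (cen Ω M).Nontrivial) (hinv : ∀ s ∈ invAt G c, s ∈ M)
    (htr : ∀ s ∈ invAt G c, ∀ t ∈ invAt G c, ∃ j ∈ M ⊓ stabilizer G c, j * s * j⁻¹ = t) :
    ∀ q ∈ Q, ∀ s ∈ invAt G c, Commute q s := by
  intro q hq s hs
  have hconj : ∀ g : G, g • c = c → ∀ x ∈ invAt G c, g * x * g⁻¹ ∈ invAt G c := fun g hg x hx =>
    ⟨(orderOf_conj_eq g x).trans hx.1, by conv_lhs => rw [← hg, conj_smul_smul, hx.2, hg]⟩
  have hkc : ∀ k ∈ ker Ω M, ∀ x ∈ invAt G c, Commute k x := fun k hk x hx => by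
    have hkc' : k • c = c := mem_stabilizer_iff.1 (Subgroup.mem_inf.1 (hQ.le (hQ.ker_le hk))).2
    have h1 : x * k * x⁻¹ * k⁻¹ ∈ ker Ω M :=
      mul_mem (ker_conj_mem (hinv x hx) hk) (InvMemClass.inv_mem hk)
    by_contra hne
    have h2 : orderOf (x * k * x⁻¹ * k⁻¹) = 2 := by
      have hy : k * x * k⁻¹ ∈ invAt G c := hconj k hkc' x hx
      have e : x * k * x⁻¹ * k⁻¹ = x * (k * x * k⁻¹) := by
        rw [inv_of_orderOf_two hx.1]; group
      refine orderOf_two_iff.2 ⟨?_, fun h => hne ?_⟩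
      · rw [e]
        calc x * (k * x * k⁻¹) * (x * (k * x * k⁻¹)) = x * ((k * x * k⁻¹) * x) * (k * x * k⁻¹) := by group
          _ = x * (x * (k * x * k⁻¹)) * (k * x * k⁻¹) := by rw [(hW c _ hy x hx).eq]
          _ = (x * x) * ((k * x * k⁻¹) * (k * x * k⁻¹)) := by group
          _ = 1 := by rw [mul_self_of_orderOf_two hx.1, mul_self_of_orderOf_two hy.1, one_mul]
      · rw [mul_inv_eq_one, mul_inv_eq_iff_eq_mul] at h
        exact h.symm
    have h3 := (U.odd_ker hnt).of_dvd_nat (Subgroup.orderOf_dvd_natCard _ h1)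
    rw [h2] at h3
    exact absurd h3 (by decide)
  -- a Sylow two subgroup of `Q` centralises one involution
  haveI : Fact (Nat.Prime 2) := ⟨Nat.prime_two⟩
  obtain ⟨P⟩ : Nonempty (Sylow 2 Q) := inferInstance
  have hQc : ∀ g ∈ Q, g • c = c := fun g hg => mem_stabilizer_iff.1 (Subgroup.mem_inf.1 (hQ.le hg)).2
  letI act : MulAction (P : Subgroup Q) (invAt G c) :=
    { smul := fun g x => ⟨((g : Q) : G) * x * ((g : Q) : G)⁻¹, hconj _ (hQc _ (g : Q).2) _ x.2⟩
      one_smul := fun x => Subtype.ext (by show (1 : G) * x * 1⁻¹ = x; group)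
      mul_smul := fun g g' x => Subtype.ext (by
        show ((g : Q) : G) * ((g' : Q) : G) * x * (((g : Q) : G) * ((g' : Q) : G))⁻¹ =
          ((g : Q) : G) * (((g' : Q) : G) * x * ((g' : Q) : G)⁻¹) * ((g : Q) : G)⁻¹
        group) }
  have hodd : ¬ 2 ∣ Nat.card (invAt G c) := by
    obtain ⟨e, he, hec⟩ := hnt.exists_ne c
    intro h
    have h2 := (U.odd_pair hec.symm)
    rw [← U.card_centralizer_invAt hec.symm hs] at h2
    exact Nat.not_even_iff_odd.2 (Nat.odd_mul.1 h2).2 (even_iff_two_dvd.2 h)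
  obtain ⟨⟨t₀, ht₀⟩, hfix⟩ := P.2.nonempty_fixed_point_of_prime_not_dvd_card (invAt G c) hodd
  have hP : ∀ g : Q, g ∈ (P : Subgroup Q) → Commute (g : G) t₀ := fun g hg =>
    mul_inv_eq_iff_eq_mul.1 (congrArg Subtype.val (hfix ⟨g, hg⟩))
  have hQ0 : ∀ g ∈ Q, Commute g t₀ := by
    intro g hg
    obtain ⟨C, hC⟩ : ∃ C, C = (centralizer ({t₀} : Set G)).subgroupOf Q := ⟨_, rfl⟩
    suffices hCt : C = ⊤ by
      have : (⟨g, hg⟩ : Q) ∈ C := hCt ▸ mem_top _
      rw [hC, Subgroup.mem_subgroupOf, mem_centralizer_singleton_iff] at this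
      exact this
    refine Subgroup.index_eq_one.1 (Nat.eq_one_of_dvd_coprimes ?_ (?_ : C.index ∣ 2 ^ hQ.two_index.choose)
      (dvd_refl C.index |>.trans (?_ : C.index ∣ (P : Subgroup Q).index)))
    · exact ((Nat.prime_two.coprime_iff_not_dvd).2 P.not_dvd_index).pow_left _
    · have h1 : (ker Ω M).subgroupOf Q ≤ C := fun k hk => by
        rw [hC, Subgroup.mem_subgroupOf, mem_centralizer_singleton_iff]
        exact hkc _ hk t₀ ht₀
      refine (Subgroup.index_dvd_of_le h1).trans (dvd_of_eq ?_)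
      have h7 := Subgroup.card_mul_index ((ker Ω M).subgroupOf Q)
      rw [Nat.card_congr (subgroupOfEquivOfLe hQ.ker_le).toEquiv, hQ.two_index.choose_spec] at h7
      exact Nat.eq_of_mul_eq_mul_left Nat.card_pos h7
    · refine Subgroup.index_dvd_of_le fun g hg => ?_
      rw [hC, Subgroup.mem_subgroupOf, mem_centralizer_singleton_iff]
      exact hP g hg
  obtain ⟨j, hj, rfl⟩ := htr t₀ ht₀ s hs
  have h1 := hQ0 _ (hQ.conj_mem j⁻¹ (InvMemClass.inv_mem hj) q hq)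
  show q * (j * t₀ * j⁻¹) = j * t₀ * j⁻¹ * q
  calc q * (j * t₀ * j⁻¹) = j * (j⁻¹ * q * j⁻¹⁻¹ * t₀) * j⁻¹ := by group
    _ = j * (t₀ * (j⁻¹ * q * j⁻¹⁻¹)) * j⁻¹ := by rw [h1.eq]
    _ = _ := by group

end Cfsg.Agent.Invol.Bender
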