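import Cfsg.Agent.Lib.Grp.Coprime
import Cfsg.Agent.Lib.Grp.SchurZassenhaus
import Cfsg.Agent.Lib.Grp.FrobeniusTheorem
import Cfsg.Agent.S0205

/-!
# Normal complements by transfer

A homomorphism of a subgroup into an abelian group, constant on fused elements and with image of order prime to the
index, extends to the whole group.  Hence an odd order Hall subgroup controlling its fusion in every normal subgroup
of odd index has a characteristic complement, and a transitive group in which nontrivial elements fix at most one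
point has a regular normal subgroup.
-/

set_option autoImplicit false
set_option linter.unusedSectionVars false

namespace Cfsg.Agent.Invol.Bender

open Subgroup MulAction MonoidHom
open scoped Pointwise

universe u v w

section Transfer

variable {H : Type u} [Group H] [Finite H] {A : Type v} [CommGroup A]

/-- A homomorphism of a subgroup that is constant on fused elements of prime power order, with image of order prime
to the index, has its kernel cut out by a normal subgroup covering the quotient. -/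
theorem exists_kernel_of_hom (D : Subgroup H) (φ : D →* A) (hcop : (Nat.card φ.range).Coprime D.index)
    (hfus : ∀ (x y : D) (ℓ k : ℕ), ℓ.Prime → ℓ ∣ Nat.card φ.range → orderOf x = ℓ ^ k →
      (∃ h : H, h * x * h⁻¹ = y) → φ x = φ y) :
    ∃ N : Subgroup H, N.Normal ∧ N ⊔ D = ⊤ ∧ N ⊓ D = φ.ker.map D.subtype := by
  classical
  obtain ⟨V, hV⟩ : ∃ V : H →* A, V = MonoidHom.transfer φ := ⟨_, rfl⟩
  -- prime power order elements
  have hpp : ∀ (x : D) (ℓ k : ℕ), ℓ.Prime → orderOf x = ℓ ^ k → V (x : H) = φ x ^ D.index := by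
    intro x ℓ k hℓ hx
    have key : ∀ (j : ℕ) (g : H) (hg : g⁻¹ * (x : H) ^ j * g ∈ D),
        φ ⟨g⁻¹ * (x : H) ^ j * g, hg⟩ = φ x ^ j := by
      intro j g hg
      rw [← map_pow]
      by_cases hdvd : ℓ ∣ Nat.card φ.range
      · obtain ⟨i, -, hi⟩ := (Nat.dvd_prime_pow hℓ).1 (hx ▸ orderOf_pow_dvd j : orderOf (x ^ j) ∣ ℓ ^ k)
        exact (hfus (x ^ j) ⟨_, hg⟩ ℓ i hℓ hdvd hi ⟨g⁻¹, by simp⟩).symm
      · have hone : ∀ z : D, orderOf z ∣ ℓ ^ k → φ z = 1 := fun z hz => by
          obtain ⟨i, -, hi⟩ := (Nat.dvd_prime_pow hℓ).1 hz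
          have h1 : orderOf (⟨φ z, z, rfl⟩ : φ.range) ∣ ℓ ^ i :=
            orderOf_dvd_of_pow_eq_one (Subtype.ext (by
              show φ z ^ ℓ ^ i = 1
              rw [← map_pow, ← hi, pow_orderOf_eq_one, map_one]))
          have h2 := Nat.eq_one_of_dvd_coprimes (((hℓ.coprime_iff_not_dvd).2 hdvd).pow_left i) h1
            (_root_.orderOf_dvd_natCard _)
          exact congrArg Subtype.val (orderOf_eq_one_iff.1 h2)
        have e1 : orderOf (⟨g⁻¹ * (x : H) ^ j * g, hg⟩ : D) = orderOf (x ^ j) := by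
          rw [← Subgroup.orderOf_coe, ← Subgroup.orderOf_coe]
          show orderOf (g⁻¹ * (x : H) ^ j * g) = orderOf ((x : H) ^ j)
          conv_lhs => rw [show g⁻¹ * (x : H) ^ j * g = g⁻¹ * (x : H) ^ j * g⁻¹⁻¹ by rw [inv_inv]]
          exact orderOf_conj_eq _ _
        rw [hone _ (e1 ▸ hx ▸ orderOf_pow_dvd j)]
        exact (hone (x ^ j) (hx ▸ orderOf_pow_dvd j)).symm
    have := Fintype.ofFinite (Quotient (orbitRel (zpowers (x : H)) (H ⧸ D)))
    rw [hV, transfer_eq_prod_quotient_orbitRel_zpowers_quot, index_eq_sum_minimalPeriod D (x : H),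
      ← Finset.prod_pow_eq_pow_sum]
    exact Finset.prod_congr rfl fun q _ => key _ _ _
  have hres : ∀ x : D, V (x : H) = φ x ^ D.index := by
    let E : Subgroup D := {
      carrier := {x | V (x : H) = φ x ^ D.index}
      one_mem' := by simp
      mul_mem' := fun {a b} ha hb => by
        show V ((a : H) * b) = φ (a * b) ^ D.index
        rw [map_mul, ha, hb, map_mul, mul_pow]
      inv_mem' := fun {a} ha => by
        show V ((a : H)⁻¹) = φ a⁻¹ ^ D.index
        rw [map_inv, ha, map_inv, inv_pow] }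
    have hE : (⊤ : Subgroup D) ≤ E := Grp.le_of_forall_sylow le_top fun q hq => by
      obtain ⟨X, hX⟩ := Grp.exists_isSylowIn q (⊤ : Subgroup D)
      refine ⟨X, hX, fun x hx => ?_⟩
      obtain ⟨k, hk⟩ := IsPGroup.iff_orderOf.1 hX.2.1 ⟨x, hx⟩
      rw [Subgroup.orderOf_mk] at hk
      exact hpp x q k hq.out hk
    exact fun x => hE (mem_top x)
  have hrange : ∀ h : H, V h ∈ φ.range := fun h => by
    have := Fintype.ofFinite (Quotient (orbitRel (zpowers h) (H ⧸ D)))
    rw [hV, transfer_eq_prod_quotient_orbitRel_zpowers_quot]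
    exact Subgroup.prod_mem _ fun q _ => ⟨_, rfl⟩
  obtain ⟨N, hN⟩ : ∃ N, N = V.ker := ⟨_, rfl⟩
  refine ⟨N, hN ▸ inferInstance, ?_, ?_⟩
  · rw [eq_top_iff]
    intro h _
    obtain ⟨z, hz⟩ := hrange h
    obtain ⟨m, hm⟩ := exists_pow_eq_self_of_coprime (x := (⟨φ z, z, rfl⟩ : φ.range)) (n := D.index)
      (hcop.symm.coprime_dvd_right (_root_.orderOf_dvd_natCard _))
    have h1 : V ((z ^ m : D) : H) = V h := by
      rw [hres, map_pow, ← pow_mul, mul_comm, pow_mul, ← hz]
      exact congrArg Subtype.val hm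
    have h2 : h * ((z ^ m : D) : H)⁻¹ ∈ N := by
      rw [hN, MonoidHom.mem_ker, map_mul, map_inv, h1, mul_inv_cancel]
    have h3 := Subgroup.mul_mem _ (Subgroup.mem_sup_left (T := D) h2)
      (Subgroup.mem_sup_right (S := N) (z ^ m : D).2)
    rwa [inv_mul_cancel_right] at h3
  · ext x
    constructor
    · rintro ⟨hxN, hxD⟩
      rw [hN] at hxN
      have h1 : φ ⟨x, hxD⟩ ^ D.index = 1 := (hres ⟨x, hxD⟩).symm.trans (MonoidHom.mem_ker.1 hxN)
      obtain ⟨m, hm⟩ := exists_pow_eq_self_of_coprime (x := (⟨φ ⟨x, hxD⟩, _, rfl⟩ : φ.range)) (n := D.index)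
        (hcop.symm.coprime_dvd_right (_root_.orderOf_dvd_natCard _))
      refine ⟨⟨x, hxD⟩, MonoidHom.mem_ker.2 ?_, rfl⟩
      have h2 := congrArg Subtype.val hm
      simp only [SubmonoidClass.coe_pow] at h2
      rw [← h2, h1, one_pow]
    · rintro ⟨y, hy, rfl⟩
      refine ⟨?_, y.2⟩
      rw [hN]
      exact MonoidHom.mem_ker.2 ((hres y).trans (by rw [MonoidHom.mem_ker.1 hy, one_pow]))

end Transfer

section Complement

variable {M : Type u} [Group M] [Finite M]

/-- The subgroup generated by the elements of order prime to `n`. -/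
def coprimeGen (M : Type*) [Group M] (n : ℕ) : Subgroup M :=
  Subgroup.closure {x : M | (orderOf x).Coprime n}

theorem coprimeGen_characteristic (n : ℕ) : (coprimeGen M n).Characteristic := by
  refine Subgroup.characteristic_iff_map_le.2 fun e => ?_
  rw [coprimeGen, MonoidHom.map_closure]
  refine (Subgroup.closure_le _).2 ?_
  rintro _ ⟨x, hx, rfl⟩
  refine Subgroup.subset_closure ?_
  show (orderOf (e x)).Coprime n
  rwa [show orderOf (e x) = orderOf x from orderOf_injective e.toMonoidHom e.injective x]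

/-- A prime dividing the index of `coprimeGen` divides `n`. -/
theorem dvd_of_dvd_index_coprimeGen {n q : ℕ} (hq : q.Prime) (h : q ∣ (coprimeGen M n).index) : q ∣ n := by
  by_contra hn
  have := Fact.mk hq
  obtain ⟨S⟩ : Nonempty (Sylow q M) := inferInstance
  refine S.not_dvd_index (h.trans (Subgroup.index_dvd_of_le fun x hx => Subgroup.subset_closure ?_))
  obtain ⟨k, hk⟩ := IsPGroup.iff_orderOf.1 S.isPGroup' ⟨x, hx⟩
  rw [Subgroup.orderOf_mk] at hk
  show (orderOf x).Coprime n
  rw [hk]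
  exact ((hq.coprime_iff_not_dvd).2 hn).pow_left k

/-- An odd Hall subgroup controlling its fusion in every normal subgroup of odd index has a characteristic
complement. -/
theorem exists_complement_of_fusion (K : Subgroup M) (hK : Odd (Nat.card K))
    (hcop : (Nat.card K).Coprime K.index)
    (hfus : ∀ N : Subgroup M, N.Normal → Odd N.index → ∀ x ∈ N ⊓ K, ∀ h ∈ N, h * x * h⁻¹ ∈ K →
      ∃ d ∈ N ⊓ K, d * x * d⁻¹ = h * x * h⁻¹) :
    ∃ Q : Subgroup M, Q.Characteristic ∧ Q ⊓ K = ⊥ ∧ Nat.card Q = K.index := by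
  classical
  obtain ⟨P, hP⟩ : ∃ P, P = coprimeGen M (Nat.card K) := ⟨_, rfl⟩
  have hPc : P.Characteristic := hP ▸ coprimeGen_characteristic _
  have hPn : P.Normal := inferInstance
  have hidx : ∀ q : ℕ, q.Prime → q ∣ P.index → q ∣ Nat.card K := fun q hq h =>
    dvd_of_dvd_index_coprimeGen hq (hP ▸ h)
  have hPodd : Odd P.index := Nat.not_even_iff_odd.1 fun he =>
    Nat.not_even_iff_odd.2 hK (even_iff_two_dvd.2 (hidx 2 Nat.prime_two (even_iff_two_dvd.1 he)))
  have htop : P ⊔ K = ⊤ := by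
    refine Subgroup.index_eq_one.1 ?_
    by_contra hne
    obtain ⟨q, hq, hqd⟩ := Nat.exists_prime_and_dvd hne
    exact hq.ne_one (Nat.eq_one_of_dvd_coprimes hcop
      (hidx q hq (hqd.trans (Subgroup.index_dvd_of_le le_sup_left)))
      (hqd.trans (Subgroup.index_dvd_of_le le_sup_right)))
  obtain ⟨L, hL⟩ : ∃ L, L = (P ⊓ K).subgroupOf P := ⟨_, rfl⟩
  have hLidx : L.index = K.index := by
    have h1 : (P ⊓ K).relIndex K = P.index := by
      rw [Subgroup.inf_relIndex_right, ← Subgroup.relIndex_sup_right, sup_comm, htop, Subgroup.relIndex_top_right]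
    have h2 := Subgroup.card_mul_index L
    have h3 := Subgroup.card_mul_index P
    have h4 := Subgroup.card_mul_index ((P ⊓ K).subgroupOf K)
    rw [Nat.card_congr (subgroupOfEquivOfLe (inf_le_right : P ⊓ K ≤ K)).toEquiv, ← Subgroup.relIndex, h1] at h4
    have h5 : Nat.card L = Nat.card ↥(P ⊓ K) := by
      rw [hL, Nat.card_congr (subgroupOfEquivOfLe (inf_le_left : P ⊓ K ≤ P)).toEquiv]
    rw [h5] at h2
    rw [← Subgroup.card_mul_index K, ← h2, ← h4] at h3
    have h6 : Nat.card ↥(P ⊓ K) * P.index * L.index = Nat.card ↥(P ⊓ K) * P.index * K.index := by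
      rw [← h3]; ring
    exact Nat.eq_of_mul_eq_mul_left (Nat.mul_pos Nat.card_pos (Nat.pos_of_ne_zero Subgroup.index_ne_zero_of_finite)) h6
  have hLK : Nat.card L ∣ Nat.card K := by
    rw [hL, Nat.card_congr (subgroupOfEquivOfLe (inf_le_left : P ⊓ K ≤ P)).toEquiv]
    exact Subgroup.card_dvd_of_le inf_le_right
  have hbot : L = ⊥ := by
    by_contra hne
    have : Nontrivial L := (Subgroup.nontrivial_iff_ne_bot L).2 hne
    have : Group.IsSolvable L := Cfsg.Agent.S0205.result (hK.of_dvd_nat hLK)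
    have hlt := Group.IsSolvable.commutator_lt_top_of_nontrivial L
    obtain ⟨φ, hφ⟩ : ∃ φ : L →* Abelianization L, φ = Abelianization.of := ⟨_, rfl⟩
    have hr : Nat.card φ.range ∣ Nat.card K :=
      (Subgroup.card_range_dvd φ).trans hLK
    obtain ⟨N, hNn, hNtop, hNinf⟩ := exists_kernel_of_hom (H := P) L φ
      (hLidx ▸ hcop.coprime_dvd_left hr) (by
        rintro x y ℓ k - - - ⟨h, hh⟩
        have hxm : ((x : P) : M) ∈ P ⊓ K := Subgroup.mem_subgroupOf.1 (hL ▸ x.2)
        have hym : ((y : P) : M) ∈ P ⊓ K := Subgroup.mem_subgroupOf.1 (hL ▸ y.2)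
        have hh' : (h : M) * (x : P) * (h : M)⁻¹ = ((y : P) : M) := congrArg Subtype.val hh
        obtain ⟨d, hd, hde⟩ := hfus P hPn hPodd _ hxm h h.2 (hh' ▸ hym.2)
        have hdL : (⟨d, hd.1⟩ : P) ∈ L := by rw [hL, Subgroup.mem_subgroupOf]; exact hd
        have e : y = ⟨_, hdL⟩ * x * (⟨_, hdL⟩ : L)⁻¹ := Subtype.ext (Subtype.ext (hde.trans hh').symm)
        rw [e, map_mul, map_mul, map_inv, mul_comm, inv_mul_cancel_left])
    -- the kernel contains all generators of `P`
    have hN : N = ⊤ := by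
      rw [eq_top_iff]
      have hgen : ∀ x ∈ P, ∀ hx : x ∈ P, (⟨x, hx⟩ : P) ∈ N := by
        intro x hxP hx
        have h0 : x ∈ (N.map P.subtype) := by
          rw [hP, coprimeGen] at hxP
          refine (Subgroup.closure_le _).2 (fun z hz => ?_) hxP
          have hzP : z ∈ P := hP ▸ Subgroup.subset_closure hz
          refine ⟨⟨z, hzP⟩, ?_, rfl⟩
          have h1 : orderOf (QuotientGroup.mk' N ⟨z, hzP⟩) ∣ orderOf z := by
            rw [← Subgroup.orderOf_mk z hzP]
            exact orderOf_map_dvd _ _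
          have h2 : orderOf (QuotientGroup.mk' N ⟨z, hzP⟩) ∣ Nat.card K := by
            refine (_root_.orderOf_dvd_natCard _).trans ?_
            rw [← Subgroup.index_eq_card, ← Subgroup.relIndex_top_right, ← hNtop, sup_comm,
              Subgroup.relIndex_sup_right]
            exact (Subgroup.relIndex_dvd_card _ _).trans hLK
          exact (QuotientGroup.eq_one_iff _).1 (orderOf_eq_one_iff.1 (Nat.eq_one_of_dvd_coprimes hz h1 h2))
        obtain ⟨y, hy, hye⟩ := h0
        exact (Subtype.ext hye : y = ⟨x, hx⟩) ▸ hy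
      exact fun x _ => hgen x x.2 x.2
    rw [hN, top_inf_eq] at hNinf
    refine hlt.ne (eq_top_iff.2 fun z _ => ?_)
    obtain ⟨z', hz', e⟩ := (SetLike.ext_iff.1 hNinf (z : P)).1 z.2
    rw [Subtype.ext e] at hz'
    rw [hφ] at hz'
    exact (QuotientGroup.eq_one_iff z).1 (MonoidHom.mem_ker.1 hz')
  refine ⟨P, hPc, ?_, ?_⟩
  · rw [hL, Subgroup.subgroupOf_eq_bot, disjoint_iff, inf_eq_left.2 inf_le_left] at hbot
    exact hbot
  · rw [← hLidx, hbot, Subgroup.index_bot]

/-- The complements of such a subgroup are conjugate. -/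
theorem exists_conj_complement {Q K L : Subgroup M} (hQn : Q.Normal) (hcop : (Nat.card K).Coprime K.index)
    (hQK : Q ⊓ K = ⊥) (hQ : Nat.card Q = K.index) (hK : Odd (Nat.card K)) (hL : Nat.card L = Nat.card K) :
    ∃ q ∈ Q, MulAut.conj q • K = L := by
  have hcmp : Subgroup.IsComplement' Q K :=
    Subgroup.isComplement'_of_disjoint_and_mul_eq_univ (disjoint_iff.2 hQK) (by
      rw [← Subgroup.normal_mul, Subgroup.coe_eq_univ]
      refine Subgroup.eq_top_of_card_eq _ ?_
      have h1 : Nat.card Q * Nat.card K ∣ Nat.card ↥(Q ⊔ K) :=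
        Nat.Coprime.mul_dvd_of_dvd_of_dvd (hQ ▸ hcop.symm) (Subgroup.card_dvd_of_le le_sup_left)
          (Subgroup.card_dvd_of_le le_sup_right)
      rw [hQ, mul_comm, Subgroup.card_mul_index] at h1
      exact Nat.dvd_antisymm (Subgroup.card_subgroup_dvd_card _) h1)
  exact Grp.exists_conj_of_le_sup (by rw [Subgroup.normalizer_eq_top]; exact le_top)
    (by rw [hcmp.sup_eq_top]; exact le_top) hL (hQ ▸ hcop.symm) (Or.inr (Cfsg.Agent.S0205.result hK))

end Complement

section Regular

variable {H : Type u} [Group H] [Finite H] {Φ : Type v} [MulAction H Φ] [Finite Φ]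

/-- A transitive group in which a nontrivial element fixes at most one point has a regular normal subgroup. -/
theorem exists_regular_of_frobenius (htr : ∀ x y : Φ, ∃ h : H, h • x = y) (z : Φ)
    (hfix : ∀ j ∈ stabilizer H z, j ≠ 1 → ∀ x : Φ, j • x = x → x = z) :
    ∃ N : Subgroup H, N.Normal ∧ (∀ x y : Φ, ∃ n ∈ N, n • x = y) ∧ ∀ n ∈ N, ∀ x : Φ, n • x = x → n = 1 := by
  classical
  have hfree : ∀ N : Subgroup H, N.Normal → N ⊓ stabilizer H z = ⊥ → ∀ n ∈ N, ∀ x : Φ, n • x = x → n = 1 := by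
    intro N hN hNJ n hn x hx
    obtain ⟨g, hg⟩ := htr z x
    have h1 : g⁻¹ * n * g ∈ N ⊓ stabilizer H z := ⟨by simpa using hN.conj_mem n hn g⁻¹, mem_stabilizer_iff.2 (by
      rw [mul_smul, mul_smul, hg, hx, inv_smul_eq_iff, hg])⟩
    rw [hNJ, Subgroup.mem_bot] at h1
    calc n = g * (g⁻¹ * n * g) * g⁻¹ := by group
      _ = 1 := by rw [h1]; group
  by_cases hbot : stabilizer H z = ⊥
  · exact ⟨⊤, inferInstance, fun x y => (htr x y).elim fun h e => ⟨h, mem_top h, e⟩,
      hfree ⊤ inferInstance (by rw [top_inf_eq, hbot])⟩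
  by_cases htop : stabilizer H z = ⊤
  · have hone : ∀ x : Φ, x = z := fun x => by
      obtain ⟨g, hg⟩ := htr z x
      rw [← hg]
      exact mem_stabilizer_iff.1 (htop ▸ mem_top g)
    exact ⟨⊥, inferInstance, fun x y => ⟨1, one_mem _, by rw [one_smul, hone x, hone y]⟩,
      hfree ⊥ inferInstance (bot_inf_eq _)⟩
  have hcompl : Cfsg.IsFrobeniusComplement (stabilizer H z) := by
    refine ⟨hbot, htop, fun g hg => ?_⟩
    rw [eq_bot_iff]
    rintro j ⟨hj1, hj2⟩
    rw [Subgroup.mem_bot]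
    by_contra hne
    change j ∈ MulAut.conj g • stabilizer H z at hj2
    rw [Subgroup.mem_pointwise_smul_iff_inv_smul_mem, mem_stabilizer_iff] at hj2
    have h1 : j • (g • z) = g • z := by
      rw [show (MulAut.conj g)⁻¹ • j = g⁻¹ * j * g from by simp, mul_smul, mul_smul, inv_smul_eq_iff] at hj2
      exact hj2
    exact hg (mem_stabilizer_iff.2 (hfix j hj1 hne _ h1))
  have := Fintype.ofFinite H
  obtain ⟨N, -, hN, hNJ, -⟩ := Grp.frobenius_kernel_spec hcompl
  refine ⟨N, hN, fun x y => ?_, hfree N hN hNJ.disjoint.eq_bot⟩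
  obtain ⟨g, hg⟩ := htr z y
  obtain ⟨k, hk⟩ := htr x z
  have hmem : g * k ∈ (N : Set H) * (stabilizer H x : Set H) := by
    rw [← Subgroup.normal_mul, Subgroup.coe_eq_univ.2 ?_]
    · trivial
    obtain ⟨f, hf⟩ := htr z x
    refine eq_top_iff.2 fun a _ => ?_
    have h1 : f⁻¹ * a * f ∈ N ⊔ stabilizer H z := hNJ.sup_eq_top.symm ▸ mem_top _
    have h2 : a ∈ (N ⊔ stabilizer H z).map (MulAut.conj f).toMonoidHom := ⟨_, h1, by simp [mul_assoc]⟩
    rw [Subgroup.map_sup] at h2
    refine SetLike.le_def.1 (sup_le_sup ?_ ?_) h2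
    · rintro _ ⟨b, hb, rfl⟩
      exact hN.conj_mem b hb f
    · rintro _ ⟨b, hb, rfl⟩
      show (f * b * f⁻¹) • x = x
      rw [← hf, mul_smul, mul_smul, inv_smul_smul, mem_stabilizer_iff.1 hb]
  obtain ⟨n, hn, j, hj, hnj⟩ := hmem
  refine ⟨n, hn, ?_⟩
  have h2 := congrArg (· • x) hnj
  simp only [mul_smul] at h2
  rwa [mem_stabilizer_iff.1 hj, hk, hg] at h2

/-- The case of a cyclic point stabiliser. -/
theorem exists_regular_of_cyclic (htr : ∀ x y : Φ, ∃ h : H, h • x = y) (z : Φ) (_hJ : IsCyclic (stabilizer H z))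
    (hfix : ∀ j ∈ stabilizer H z, j ≠ 1 → ∀ x : Φ, j • x = x → x = z) :
    ∃ N : Subgroup H, N.Normal ∧ (∀ x y : Φ, ∃ n ∈ N, n • x = y) ∧ ∀ n ∈ N, ∀ x : Φ, n • x = x → n = 1 :=
  exists_regular_of_frobenius htr z hfix

end Regular

end Cfsg.Agent.Invol.Bender
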