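import Cfsg.Agent.Lib.Invol.Bender.Semi
import Cfsg.Agent.Lib.Invol.Bender.CentralSplit
import Cfsg.Agent.Lib.Invol.Bender.BelowFacts
import Cfsg.Agent.Lib.Invol.Bender.RegularLemmas

/-!
# The regular normal subgroup of a point stabiliser

With the semilinear structure of a pair stabiliser and the split structure of centralisers, transfer produces a
normal subgroup of a point stabiliser which is regular on the other points.
-/

set_option autoImplicit false
set_option linter.unusedSectionVars false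

namespace Cfsg.Agent.Invol.Bender

open MulAction Subgroup
open scoped Pointwise

universe u v

variable {G : Type u} {Ω : Type v} [Group G] [MulAction G Ω] [Finite G]

/-- The two power elements lie in every normal subgroup of odd index. -/
theorem mem_of_two_pow {X : Type*} [Group X] {N : Subgroup X} (hN : N.Normal) (hodd : Odd N.index) {q : X}
    {s : ℕ} (hq : q ^ 2 ^ s = 1) : q ∈ N := by
  refine (QuotientGroup.eq_one_iff q).1 (orderOf_eq_one_iff.1 ?_)
  refine Nat.eq_one_of_dvd_coprimes ((Nat.coprime_two_right.2 hodd).pow_right s) ?_ ?_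
  · rw [Subgroup.index_eq_card]; exact orderOf_dvd_natCard _
  · exact orderOf_dvd_of_pow_eq_one (by rw [← QuotientGroup.mk_pow, hq, QuotientGroup.mk_one])

/-- A two power element of odd order is trivial. -/
theorem eq_one_of_two_pow_of_odd {x : G} (hodd : Odd (orderOf x)) {s : ℕ} (hx : x ^ 2 ^ s = 1) : x = 1 :=
  orderOf_eq_one_iff.1 (Nat.eq_one_of_dvd_coprimes ((Nat.coprime_two_right.2 hodd).pow_right s) dvd_rfl
    (orderOf_dvd_of_pow_eq_one hx))

/-- In a normal Hall subgroup lie all elements killed by its order. -/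
theorem mem_of_pow_card {X : Type*} [Group X] {N : Subgroup X} (hN : N.Normal) (hcop : (Nat.card N).Coprime N.index)
    {g : X} (hg : g ^ Nat.card N = 1) : g ∈ N := by
  refine (QuotientGroup.eq_one_iff g).1 (orderOf_eq_one_iff.1 ?_)
  refine Nat.eq_one_of_dvd_coprimes hcop ?_ ?_
  · exact orderOf_dvd_of_pow_eq_one (by rw [← QuotientGroup.mk_pow, hg, QuotientGroup.mk_one])
  · rw [Subgroup.index_eq_card]; exact orderOf_dvd_natCard _

theorem card_subgroupOf_inf (A B : Subgroup G) : Nat.card (A.subgroupOf B) = Nat.card ↥(B ⊓ A) := by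
  rw [inf_comm, ← Subgroup.subgroupOf_map_subtype, Subgroup.card_map_of_injective B.subtype_injective]

/-- Two elements of a cyclic group of the same order generate the same subgroup. -/
theorem mem_zpowers_of_orderOf {z f f' : G} (hf : f ∈ zpowers z) (hf' : f' ∈ zpowers z)
    (ho : orderOf f' = orderOf f) : f' ∈ zpowers f := by
  obtain ⟨d, hd⟩ : orderOf f ∣ orderOf z := orderOf_dvd_of_mem_zpowers hf
  have hf0 : 0 < orderOf f := orderOf_pos f
  have hd0 : d ≠ 0 := fun h => (orderOf_pos z).ne' (by rw [hd, h, mul_zero])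
  have hle : ∀ g, g ∈ zpowers z → orderOf g = orderOf f → g ∈ zpowers (z ^ d) := by
    intro g hg hgo
    obtain ⟨i, rfl⟩ := (Submonoid.mem_powers_iff _ _).1
      ((isOfFinOrder_of_finite z).mem_powers_iff_mem_zpowers.2 hg)
    have h1 : orderOf z ∣ i * orderOf f := by
      rw [orderOf_dvd_iff_pow_eq_one, pow_mul, ← hgo, pow_orderOf_eq_one]
    rw [hd, mul_comm i] at h1
    obtain ⟨e, rfl⟩ := Nat.dvd_of_mul_dvd_mul_left hf0 h1
    rw [pow_mul]
    exact pow_mem (mem_zpowers _) _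
  have hcard : Nat.card (zpowers (z ^ d)) = orderOf f := by
    rw [Nat.card_zpowers, orderOf_pow' z hd0, hd, Nat.gcd_mul_left_left, Nat.mul_div_cancel _ (Nat.pos_of_ne_zero hd0)]
  have heq : zpowers f = zpowers (z ^ d) :=
    Subgroup.eq_of_le_of_card_ge (zpowers_le.2 (hle f hf rfl)) (by rw [hcard, Nat.card_zpowers])
  rw [heq]
  exact hle f' hf' ho

/-- If an element of odd prime order fixes two power many points of an orbit, the orbit has size prime to its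
order. -/
theorem not_dvd_index_stabilizer {l : ℕ} (hl : l.Prime) (hl2 : l ≠ 2) {M : Subgroup G} {a : Ω} {x : G}
    (hxM : x ∈ M) (hxl : orderOf x = l) {k : ℕ} (hk : {b ∈ MulAction.orbit M a | x • b = b}.ncard = 2 ^ k) :
    ¬ l ∣ ((stabilizer G a).subgroupOf M).index := by
  haveI : Fact l.Prime := ⟨hl⟩
  intro hdvd
  have hst : (stabilizer G a).subgroupOf M = stabilizer M a := by
    ext m
    rw [mem_subgroupOf, mem_stabilizer_iff, mem_stabilizer_iff]
    rfl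
  rw [hst, index_stabilizer, ← Nat.card_coe_set_eq] at hdvd
  haveI : Finite (MulAction.orbit M a) := (Set.finite_range _).to_subtype
  obtain ⟨L, hL⟩ : ∃ L : Subgroup M, L = zpowers ⟨x, hxM⟩ := ⟨_, rfl⟩
  have hLp : IsPGroup l L := IsPGroup.of_card (n := 1) (by
    rw [hL, Nat.card_zpowers, Subgroup.orderOf_mk, hxl, pow_one])
  have hfix : Nat.card (fixedPoints L (MulAction.orbit M a)) = 2 ^ k := by
    rw [← hk, ← Nat.card_coe_set_eq]
    refine Nat.card_congr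
      { toFun := fun b => ⟨b.1.1, b.1.2, congrArg Subtype.val (b.2 ⟨⟨x, hxM⟩, hL ▸ mem_zpowers _⟩)⟩
        invFun := fun b => ⟨⟨b.1, b.2.1⟩, fun g => Subtype.ext ?_⟩
        left_inv := fun _ => rfl
        right_inv := fun _ => rfl }
    show ((g : M) : G) • (b : Ω) = b
    have hg : ((g : M) : G) ∈ zpowers x := by
      obtain ⟨g, hg⟩ := g
      rw [hL] at hg
      obtain ⟨i, rfl⟩ := mem_zpowers_iff.1 hg
      rw [SubgroupClass.coe_zpow]
      exact zpow_mem (mem_zpowers x) i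
    exact mem_stabilizer_iff.1 (zpowers_le.2 (mem_stabilizer_iff.2 b.2.2) hg)
  have h1 := hLp.card_modEq_card_fixedPoints (MulAction.orbit M a)
  rw [hfix] at h1
  have h2 : l ∣ 2 ^ k := (Nat.modEq_zero_iff_dvd).1 (h1.symm.trans (Nat.modEq_zero_iff_dvd.2 hdvd))
  exact hl2 ((Nat.prime_dvd_prime_iff_eq hl Nat.prime_two).1 (hl.dvd_of_dvd_pow h2))

/-- The recognition of the regular normal subgroup. -/
theorem hasRegular_of {c a : Ω} (hca : c ≠ a) {Q : Subgroup G} (hQc : Q ≤ stabilizer G c)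
    (hQn : ∀ h ∈ stabilizer G c, ∀ x ∈ Q, h * x * h⁻¹ ∈ Q) (hQa : Q ⊓ stabilizer G a = ⊥)
    (htr : ∀ b : Ω, b ≠ c → ∃ q ∈ Q, q • a = b) : HasRegular G Ω c := by
  refine ⟨Q, hQc, hQn, fun x y hx hy => ?_, fun q hq x hx hqx => ?_⟩
  · obtain ⟨p, hp, rfl⟩ := htr x hx
    obtain ⟨r, hr, rfl⟩ := htr y hy
    exact ⟨r * p⁻¹, mul_mem hr (InvMemClass.inv_mem hp), by rw [mul_smul, inv_smul_smul]⟩
  · obtain ⟨p, hp, rfl⟩ := htr x hx
    have h1 : p⁻¹ * q * p ∈ Q ⊓ stabilizer G a := Subgroup.mem_inf.2 ⟨mul_mem (mul_mem (InvMemClass.inv_mem hp) hq) hp,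
      mem_stabilizer_iff.2 (by rw [mul_smul, mul_smul, hqx, inv_smul_smul])⟩
    rw [hQa, mem_bot] at h1
    calc q = p * (p⁻¹ * q * p) * p⁻¹ := by group
      _ = 1 := by rw [h1]; group

/-- A characteristic subgroup of a normal subgroup of the stabiliser is normalised by it. -/
theorem conj_mem_map_of_characteristic {M : Subgroup G} {Q : Subgroup M} (hQ : Q.Characteristic) {h : G}
    (hM : ∀ m ∈ M, h * m * h⁻¹ ∈ M) (hM' : ∀ m ∈ M, h⁻¹ * m * h ∈ M) {x : G} (hx : x ∈ Q.map M.subtype) :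
    h * x * h⁻¹ ∈ Q.map M.subtype := by
  obtain ⟨y, hy, rfl⟩ := hx
  let e : M ≃* M :=
    { toFun := fun m => ⟨h * m * h⁻¹, hM m m.2⟩
      invFun := fun m => ⟨h⁻¹ * m * h, hM' m m.2⟩
      left_inv := fun m => Subtype.ext (by show h⁻¹ * (h * m * h⁻¹) * h = (m : G); group)
      right_inv := fun m => Subtype.ext (by show h * (h⁻¹ * m * h) * h⁻¹ = (m : G); group)
      map_mul' := fun m m' => Subtype.ext (by
        show h * ((m : G) * m') * h⁻¹ = h * m * h⁻¹ * (h * m' * h⁻¹)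
        group) }
  have h1 : e y ∈ Q.map e.toMonoidHom := ⟨y, hy, rfl⟩
  exact ⟨e y, (characteristic_iff_map_le.1 hQ e) h1, rfl⟩

/-- The kernel on the centres centralises the involutions of the subgroup at `c`. -/
theorem Hyp.commute_ker (U : Hyp G Ω) (hW : InvComm G Ω) {M : Subgroup G} (hnt : (cen Ω M).Nontrivial) {c : Ω}
    {k : G} (hk : k ∈ ker Ω M) (hkc : k • c = c) {t : G} (ht : t ∈ invAt G c) (htM : t ∈ M) : Commute k t := by
  have h1 : t * k * t⁻¹ * k⁻¹ ∈ ker Ω M := mul_mem (ker_conj_mem htM hk) (InvMemClass.inv_mem hk)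
  have hy : k * t * k⁻¹ ∈ invAt G c :=
    ⟨(orderOf_conj_eq k t).trans ht.1, by conv_lhs => rw [← hkc, conj_smul_smul, ht.2, hkc]⟩
  by_contra hne
  have e : t * k * t⁻¹ * k⁻¹ = t * (k * t * k⁻¹) := by rw [inv_of_orderOf_two ht.1]; group
  have h2 : orderOf (t * k * t⁻¹ * k⁻¹) = 2 := by
    refine orderOf_two_iff.2 ⟨?_, fun h => hne ?_⟩
    · rw [e]
      calc t * (k * t * k⁻¹) * (t * (k * t * k⁻¹)) = t * ((k * t * k⁻¹) * t) * (k * t * k⁻¹) := by group
        _ = t * (t * (k * t * k⁻¹)) * (k * t * k⁻¹) := by rw [(hW c _ hy t ht).eq]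
        _ = (t * t) * ((k * t * k⁻¹) * (k * t * k⁻¹)) := by group
        _ = 1 := by rw [mul_self_of_orderOf_two ht.1, mul_self_of_orderOf_two hy.1, one_mul]
    · rw [mul_inv_eq_one, mul_inv_eq_iff_eq_mul] at h
      exact h.symm
  have h3 := (U.odd_ker hnt).of_dvd_nat (Subgroup.orderOf_dvd_natCard _ h1)
  rw [h2] at h3
  exact absurd h3 (by decide)

/-- The split structure of the centraliser of an element centralising two involutions at `c`. -/
theorem Hyp.element_split (U : Hyp G Ω) [FaithfulSMul G Ω] (hS : SplitBelow G Ω) (hW : InvComm G Ω)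
    (hC : ConjPair G Ω) {c a : Ω} (hca : c ≠ a) {x : G} (hx : x ∈ pairStab G c a) (hx1 : x ≠ 1) {t t' : G}
    (ht : t ∈ invAt G c) (ht' : t' ∈ invAt G c) (htt : t ≠ t') (hxt : Commute x t) (hxt' : Commute x t') :
    ∃ Q, SplitAt (centralizer (zpowers x : Set G)) c Q ∧ (cen Ω (centralizer (zpowers x : Set G))).Nontrivial ∧
      ∀ b : Ω, b ∈ cen Ω (centralizer (zpowers x : Set G)) ↔ x • b = b := by
  have hL : ∀ {y : G}, Commute x y → ∀ l ∈ zpowers x, Commute l y := fun hy l hl => by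
    obtain ⟨i, rfl⟩ := mem_zpowers_iff.1 hl
    exact hy.zpow_left i
  obtain ⟨Q, hQ, -, hnt⟩ := U.centralizer_split hS hC hca (zpowers_ne_bot.2 hx1) (zpowers_le.2 hx) ht ht' htt
    (hW c t ht t' ht') (hL hxt) (hL hxt')
  refine ⟨Q, hQ, hnt, fun b => ?_⟩
  rw [U.cen_centralizer hC (fun l hl => (mem_pair.1 ((zpowers_le.2 hx) hl)).1) ht (hL hxt)]
  exact ⟨fun h => h x (mem_zpowers x), fun h l hl =>
    mem_stabilizer_iff.1 (zpowers_le.2 (mem_stabilizer_iff.2 h) hl)⟩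

/-- The stabiliser of `c` has a regular normal subgroup when some nontrivial element of the pair stabiliser
centralises all involutions at `c`. -/
theorem Hyp.hasRegular_ker (U : Hyp G Ω) [FaithfulSMul G Ω] (hS : SplitBelow G Ω)
    (h2 : ∀ c a c' a' : Ω, c ≠ a → c' ≠ a' → ∃ g : G, g • c = c' ∧ g • a = a') (hW : InvComm G Ω)
    (hC : ConjPair G Ω) {c a : Ω} (hca : c ≠ a) {w : G} {n : ℕ} {J : Subgroup G} (S : SemiData c a w n J)
    (hK : fixKer G c a ≠ ⊥) : HasRegular G Ω c := by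
  classical
  obtain ⟨M, hM⟩ : ∃ M, M = stabilizer G c ⊓ centralizer (invAt G c) := ⟨_, rfl⟩
  obtain ⟨K, hKdef⟩ : ∃ K, K = fixKer G c a := ⟨_, rfl⟩
  have hKmem : ∀ g, g ∈ K ↔ g • c = c ∧ g • a = a ∧ ∀ t ∈ invAt G c, Commute g t := by
    intro g
    rw [hKdef, fixKer, Subgroup.mem_inf, mem_pair, mem_centralizer_iff, and_assoc]
    exact and_congr_right fun _ => and_congr_right fun _ =>
      ⟨fun h t ht => (h t ht).symm, fun h t ht => (h t ht).symm⟩
  have hMmem : ∀ g, g ∈ M ↔ g • c = c ∧ ∀ t ∈ invAt G c, Commute g t := by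
    intro g
    rw [hM, Subgroup.mem_inf, mem_stabilizer_iff, mem_centralizer_iff]
    exact and_congr_right fun _ => ⟨fun h t ht => (h t ht).symm, fun h t ht => (h t ht).symm⟩
  have hMn : ∀ h ∈ stabilizer G c, ∀ m ∈ M, h * m * h⁻¹ ∈ M := by
    intro h hh m hm
    obtain ⟨hmc, hmt⟩ := (hMmem m).1 hm
    have hhc := mem_stabilizer_iff.1 hh
    have hic := mem_stabilizer_iff.1 (InvMemClass.inv_mem hh)
    refine (hMmem _).2 ⟨by rw [mul_smul, mul_smul, hic, hmc, hhc], fun t ht => ?_⟩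
    have h1 : h⁻¹ * t * h ∈ invAt G c :=
      ⟨by rw [show h⁻¹ * t * h = h⁻¹ * t * h⁻¹⁻¹ by rw [inv_inv]]; exact (orderOf_conj_eq _ _).trans ht.1,
        by rw [mul_smul, mul_smul, hhc, ht.2, hic]⟩
    show h * m * h⁻¹ * t = t * (h * m * h⁻¹)
    calc h * m * h⁻¹ * t = h * (m * (h⁻¹ * t * h)) * h⁻¹ := by group
      _ = h * (h⁻¹ * t * h * m) * h⁻¹ := by rw [(hmt _ h1).eq]
      _ = _ := by group
  have hMc : ∀ m ∈ M, m • c = c := fun m hm => ((hMmem m).1 hm).1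
  have hneC : ∀ m ∈ M, m • a ≠ c := fun m hm h => hca (smul_left_cancel m ((hMc m hm).trans h.symm))
  have hKM : M ⊓ stabilizer G a = K := by
    ext g
    rw [Subgroup.mem_inf, hMmem, hKmem, mem_stabilizer_iff]
    exact ⟨fun h => ⟨h.1.1, h.2, h.1.2⟩, fun h => ⟨⟨h.1, h.2.2⟩, h.2.1⟩⟩
  obtain ⟨t, ht⟩ : ∃ t, t ∈ invAt G c := (U.invol_at c).imp fun t h => h
  obtain ⟨t', ht', htt⟩ : ∃ t' ∈ invAt G c, t' ≠ t := by
    refine Set.exists_ne_of_one_lt_ncard ?_ t
    rw [S.card_inv]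
    have : 2 ^ 2 ≤ 2 ^ n := Nat.pow_le_pow_right (by omega) S.two_le
    omega
  -- the split structure of the centraliser of a part of the kernel
  have hmove : ∀ L : Subgroup G, L ≤ K → L ≠ ⊥ → ∃ Q, SplitAt (centralizer (L : Set G)) c Q ∧
      (cen Ω (centralizer (L : Set G))).Nontrivial ∧
      (∀ b, b ∈ cen Ω (centralizer (L : Set G)) ↔ ∀ l ∈ L, l • b = b) ∧ Q ≤ M := by
    intro L hLK hne
    have hLc : ∀ l ∈ L, l • c = c := fun l hl => ((hKmem l).1 (hLK hl)).1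
    have hLt : ∀ s ∈ invAt G c, ∀ l ∈ L, Commute l s := fun s hs l hl => ((hKmem l).1 (hLK hl)).2.2 s hs
    obtain ⟨Q, hQ, -, hnt⟩ := U.centralizer_split hS hC hca hne
      (hLK.trans (hKdef ▸ (inf_le_left : fixKer G c a ≤ pairStab G c a))) ht ht' htt.symm (hW c t ht t' ht')
      (hLt t ht) (hLt t' ht')
    refine ⟨Q, hQ, hnt, fun b => U.cen_centralizer hC hLc ht (hLt t ht), fun q hq => (hMmem q).2
      ⟨mem_stabilizer_iff.1 (Subgroup.mem_inf.1 (hQ.le hq)).2,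
        U.commute_of_mem hW hQ hnt (fun s hs l hl => (hLt s hs l hl).eq) (fun s hs r hr => ?_) q hq⟩⟩
    obtain ⟨j, hj, hjs⟩ := S.J_trans s hs r hr
    exact ⟨j, ⟨fun l hl => (S.commute_J l (hKdef ▸ hLK hl) j hj).eq,
      mem_stabilizer_iff.2 (mem_pair.1 ((S.mem_J j).1 hj).1).1⟩, hjs⟩
  have hKodd : Odd (Nat.card K) :=
    (U.odd_pair hca).of_dvd_nat (Subgroup.card_dvd_of_le (hKdef ▸ inf_le_left))
  obtain ⟨Kₘ, hKm⟩ : ∃ Kₘ, Kₘ = (stabilizer G a).subgroupOf M := ⟨_, rfl⟩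
  have hcardK : Nat.card Kₘ = Nat.card K := by rw [hKm, card_subgroupOf_inf, hKM]
  have hKmK : ∀ m : M, m ∈ Kₘ ↔ (m : G) ∈ K := fun m => by
    rw [hKm, mem_subgroupOf, ← hKM, Subgroup.mem_inf]
    exact ⟨fun h => ⟨m.2, h⟩, fun h => h.2⟩
  have hcop : (Nat.card Kₘ).Coprime Kₘ.index := by
    refine Nat.coprime_of_dvd fun l hl hlK hli => ?_
    haveI : Fact l.Prime := ⟨hl⟩
    obtain ⟨x, hx⟩ := exists_prime_orderOf_dvd_card' (G := Kₘ) l hlK
    have hxK : ((x : M) : G) ∈ K := (hKmK _).1 x.2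
    have hxo : orderOf ((x : M) : G) = l := by rw [Subgroup.orderOf_coe, Subgroup.orderOf_coe, hx]
    have hx1 : ((x : M) : G) ≠ 1 := fun h => by rw [h, orderOf_one] at hxo; exact hl.ne_one hxo.symm
    obtain ⟨Q, hQ, hnt, hcen, hQM⟩ := hmove (zpowers ((x : M) : G)) (zpowers_le.2 hxK) (zpowers_ne_bot.2 hx1)
    obtain ⟨k, hk⟩ := card_cen_erase hQ hnt
    have hfx : ∀ b : Ω, (∀ l ∈ zpowers ((x : M) : G), l • b = b) ↔ ((x : M) : G) • b = b := fun b =>
      ⟨fun h => h _ (mem_zpowers _), fun h l hl =>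
        mem_stabilizer_iff.1 (zpowers_le.2 (mem_stabilizer_iff.2 h) hl)⟩
    refine not_dvd_index_stabilizer hl ?_ (x : M).2 hxo (k := k) ?_ (hKm ▸ hli)
    · rintro rfl
      exact Nat.not_even_iff_odd.2 hKodd (even_iff_two_dvd.2 (hcardK ▸ hlK))
    · rw [← hk]
      congr 1
      ext b
      rw [Set.mem_diff, Set.mem_singleton_iff, hcen, hfx]
      constructor
      · rintro ⟨⟨m, rfl⟩, hb⟩
        exact ⟨hb, hneC _ m.2⟩
      · rintro ⟨hb, hbc⟩
        obtain ⟨q, hq, hqb⟩ := hQ.exists_move a ((hcen a).2 ((hfx a).2 ((hKmem _).1 hxK).2.1)) hca.symm b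
          ((hcen b).2 ((hfx b).2 hb)) hbc
        exact ⟨⟨⟨q, hQM hq⟩, hqb⟩, hb⟩
  obtain ⟨P, hPc, hPK, hPcard⟩ := exists_complement_of_fusion Kₘ (hcardK ▸ hKodd) hcop (by
    intro N hN hNodd x hx h hh hhx
    obtain ⟨hxN, hxK⟩ := hx
    rcases eq_or_ne x 1 with rfl | hx1
    · exact ⟨1, one_mem _, by group⟩
    have hxK' : (x : G) ∈ K := (hKmK _).1 hxK
    have hyK : ((h * x * h⁻¹ : M) : G) ∈ K := (hKmK _).1 hhx
    obtain ⟨Q, hQ, hnt, hcen, hQM⟩ := hmove (zpowers (x : G)) (zpowers_le.2 hxK')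
      (zpowers_ne_bot.2 fun e => hx1 (Subtype.ext e))
    have hfx : ∀ b : Ω, (x : G) • b = b → ∀ l ∈ zpowers (x : G), l • b = b := fun b hb l hl =>
      mem_stabilizer_iff.1 (zpowers_le.2 (mem_stabilizer_iff.2 hb) hl)
    have hb : (x : G) • ((h⁻¹ : M) : G) • a = ((h⁻¹ : M) : G) • a := by
      have h1 := ((hKmem _).1 hyK).2.1
      rw [Subgroup.coe_mul, Subgroup.coe_mul, mul_smul, mul_smul, InvMemClass.coe_inv] at h1
      rw [InvMemClass.coe_inv]
      exact eq_inv_smul_iff.2 h1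
    obtain ⟨q, hq, ⟨s, hqs⟩, hqa⟩ := exists_two_move hQ ((hcen a).2 (hfx a ((hKmem _).1 hxK').2.1)) hca.symm
      ((hcen _).2 (hfx _ hb)) (hneC _ (h⁻¹ : M).2) (U.odd_ker hnt)
    have hqN : (⟨q, hQM hq⟩ : M) ∈ N := mem_of_two_pow hN hNodd (Subtype.ext hqs)
    refine ⟨h * ⟨q, hQM hq⟩, Subgroup.mem_inf.2 ⟨mul_mem hh hqN, ?_⟩, Subtype.ext ?_⟩
    · rw [hKm, mem_subgroupOf, mem_stabilizer_iff, Subgroup.coe_mul, mul_smul, hqa, InvMemClass.coe_inv,
        smul_inv_smul]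
    · have hc : Commute (x : G) q := (Subgroup.mem_inf.1 (hQ.le hq)).1 (x : G) (mem_zpowers _)
      simp only [Subgroup.coe_mul, InvMemClass.coe_inv]
      calc (h : G) * q * x * ((h : G) * q)⁻¹ = h * (q * x) * q⁻¹ * (h : G)⁻¹ := by group
        _ = h * (x * q) * q⁻¹ * (h : G)⁻¹ := by rw [hc.eq]
        _ = _ := by group)
  haveI hPn : P.Normal := inferInstance
  have hsup : P ⊔ Kₘ = ⊤ := by
    refine Subgroup.eq_top_of_card_eq _ (Nat.dvd_antisymm (Subgroup.card_subgroup_dvd_card _) ?_)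
    have h1 : Nat.card P * Nat.card Kₘ ∣ Nat.card ↥(P ⊔ Kₘ) :=
      Nat.Coprime.mul_dvd_of_dvd_of_dvd (hPcard ▸ hcop.symm) (Subgroup.card_dvd_of_le le_sup_left)
        (Subgroup.card_dvd_of_le le_sup_right)
    rwa [hPcard, mul_comm, Subgroup.card_mul_index] at h1
  -- orbits of the complement
  have horb : ∀ m ∈ M, ∃ q ∈ P.map M.subtype, q • a = m • a := by
    intro m hm
    have h1 : (⟨m, hm⟩ : M) ∈ (P : Set M) * (Kₘ : Set M) := by
      rw [← Subgroup.normal_mul, hsup]; exact mem_top _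
    obtain ⟨p, hp, k, hk, hpk⟩ := h1
    refine ⟨p, ⟨p, hp, rfl⟩, ?_⟩
    have e : m = (p : G) * (k : G) := (congrArg Subtype.val hpk).symm
    rw [e, mul_smul, ((hKmem _).1 ((hKmK k).1 hk)).2.1]
  refine hasRegular_of hca (Q := P.map M.subtype) ?_ (fun h hh x hx => ?_) ?_ (fun b hb => ?_)
  · rintro _ ⟨p, -, rfl⟩
    exact mem_stabilizer_iff.2 (hMc _ p.2)
  · refine conj_mem_map_of_characteristic hPc (hMn h hh) (fun m hm => ?_) hx
    simpa using hMn h⁻¹ (InvMemClass.inv_mem hh) m hm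
  · rw [eq_bot_iff]
    rintro _ ⟨⟨p, hp, rfl⟩, hpa⟩
    have h1 : p ∈ P ⊓ Kₘ := ⟨hp, by rw [hKm]; exact mem_subgroupOf.2 hpa⟩
    rw [hPK, mem_bot] at h1
    rw [h1, map_one]
    exact one_mem _
  obtain ⟨g, hgc, hga⟩ := h2 c a c b hca hb.symm
  have hg : g ∈ stabilizer G c := mem_stabilizer_iff.2 hgc
  -- the conjugate complement
  obtain ⟨L, hL⟩ : ∃ L : Subgroup G, L = K.map (MulAut.conj g).toMonoidHom := ⟨_, rfl⟩
  have hLM : L ≤ M := by
    rw [hL]
    rintro _ ⟨k, hk, rfl⟩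
    exact hMn g hg k ((hKM.symm ▸ hk : k ∈ M ⊓ stabilizer G a)).1
  have hLcard : Nat.card (L.subgroupOf M) = Nat.card Kₘ := by
    rw [Nat.card_congr (subgroupOfEquivOfLe hLM).toEquiv, hL,
      Subgroup.card_map_of_injective (MulAut.conj g).injective, hcardK]
  obtain ⟨q, -, hqL⟩ := exists_conj_complement hPn hcop hPK hPcard (hcardK ▸ hKodd) hLcard
  obtain ⟨g', hg'⟩ : ∃ g', g' = (q : G)⁻¹ * g := ⟨_, rfl⟩
  have hfix : ∀ k ∈ K, k • g' • a = g' • a := by
    intro k hk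
    have h1 : q * ⟨k, ((hKM.symm ▸ hk : k ∈ M ⊓ stabilizer G a)).1⟩ * q⁻¹ ∈ L.subgroupOf M := by
      rw [← hqL]
      exact Subgroup.smul_mem_pointwise_smul _ _ _ ((hKmK _).2 hk)
    rw [mem_subgroupOf, Subgroup.coe_mul, Subgroup.coe_mul, InvMemClass.coe_inv, hL] at h1
    obtain ⟨k', hk', he⟩ := h1
    have he' : g * k' * g⁻¹ = (q : G) * k * (q : G)⁻¹ := he
    have hk'' : k = g' * k' * g'⁻¹ := by
      rw [hg']
      calc k = (q : G)⁻¹ * ((q : G) * k * (q : G)⁻¹) * q := by group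
        _ = (q : G)⁻¹ * (g * k' * g⁻¹) * q := by rw [he']
        _ = _ := by group
    rw [hk'', mul_smul, mul_smul, inv_smul_smul, ((hKmem k').1 hk').2.1]
  have hg'a : g' • a ≠ c := fun h => by
    rw [hg', mul_smul, hga, inv_smul_eq_iff, hMc _ q.2] at h
    exact hb h
  obtain ⟨Q, hQ, -, hcen, hQM⟩ := hmove K le_rfl (hKdef ▸ hK)
  obtain ⟨r, hr, hra⟩ := hQ.exists_move a ((hcen a).2 fun l hl => ((hKmem l).1 hl).2.1) hca.symm (g' • a)
    ((hcen _).2 hfix) hg'a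
  obtain ⟨p, hp, hpa⟩ := horb (q * r) (mul_mem q.2 (hQM hr))
  exact ⟨p, hp, by rw [hpa, mul_smul, hra, hg', mul_smul, smul_inv_smul, hga]⟩

section NoKer

variable {c a : Ω} {w : G} {n : ℕ} {J : Subgroup G}

/-- The centraliser in the pair stabiliser of an involution at `c` is cyclic, of the same order for all of them. -/
theorem SemiData.cyclic_centralizer (S : SemiData c a w n J) (hC : ConjPair G Ω) (hca : c ≠ a)
    (hw : w ∈ swapAt G c a) (hK : fixKer G c a = ⊥) :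
    ∃ x₀ ∈ pairStab G c a, Commute x₀ w ∧ ∀ t ∈ invAt G c, ∃ z ∈ pairStab G c a, Commute z t ∧
      orderOf z = orderOf x₀ ∧ ∀ x ∈ pairStab G c a, Commute x t → x ∈ zpowers z := by
  obtain ⟨x₀, hx₀, hx₀w, hgen⟩ := S.gen
  obtain ⟨t₀, ht₀, hC₀⟩ := hC c a hca w hw
  refine ⟨x₀, hx₀, hx₀w, fun t ht => ?_⟩
  obtain ⟨j, hj, hjt⟩ := S.J_trans t₀ ht₀ t ht
  have hjD : j ∈ pairStab G c a := ((S.mem_J j).1 hj).1
  refine ⟨j * x₀ * j⁻¹, mul_mem (mul_mem hjD hx₀) (InvMemClass.inv_mem hjD), ?_, orderOf_conj_eq j x₀,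
    fun x hx hxt => ?_⟩
  · rw [← hjt]
    show j * x₀ * j⁻¹ * (j * t₀ * j⁻¹) = j * t₀ * j⁻¹ * (j * x₀ * j⁻¹)
    calc j * x₀ * j⁻¹ * (j * t₀ * j⁻¹) = j * (x₀ * t₀) * j⁻¹ := by group
      _ = j * (t₀ * x₀) * j⁻¹ := by rw [((hC₀ x₀ hx₀).1 hx₀w).eq]
      _ = _ := by group
  · have h1 : j⁻¹ * x * j ∈ pairStab G c a := mul_mem (mul_mem (InvMemClass.inv_mem hjD) hx) hjD
    have h2 : Commute (j⁻¹ * x * j) t₀ := by
      rw [← hjt] at hxt
      show j⁻¹ * x * j * t₀ = t₀ * (j⁻¹ * x * j)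
      calc j⁻¹ * x * j * t₀ = j⁻¹ * (x * (j * t₀ * j⁻¹)) * j := by group
        _ = j⁻¹ * (j * t₀ * j⁻¹ * x) * j := by rw [hxt.eq]
        _ = _ := by group
    obtain ⟨i, hi⟩ := hgen _ h1 ((hC₀ _ h1).2 h2)
    rw [hK, mem_bot, inv_mul_eq_one] at hi
    have e : x = (j * x₀ * j⁻¹) ^ i := by rw [conj_pow, hi]; group
    rw [e]
    exact pow_mem (mem_zpowers _) _

theorem SemiData.orderOf_count (S : SemiData c a w n J) (hK : fixKer G c a = ⊥) {x : G}
    (hx : x ∈ pairStab G c a) {t : G} (ht : t ∈ invAt G c) (hxt : Commute x t) :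
    orderOf x ∣ n ∧ {s ∈ invAt G c | Commute x s}.ncard + 1 = 2 ^ (n / orderOf x) := by
  obtain ⟨o, hon, hiff, hcount⟩ := S.count x hx t ht hxt
  have ho : o = orderOf x := by
    refine Nat.dvd_antisymm ((hiff _).1 (by rw [pow_orderOf_eq_one]; exact one_mem _)) ?_
    have h1 := (hiff o).2 dvd_rfl
    rw [hK, mem_bot] at h1
    exact orderOf_dvd_of_pow_eq_one h1
  exact ho ▸ ⟨hon, hcount⟩

/-- An element of smaller order centralising one involution at `c` centralises a second one. -/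
theorem SemiData.exists_second (S : SemiData c a w n J) (hK : fixKer G c a = ⊥) {x : G}
    (hx : x ∈ pairStab G c a) {t : G} (ht : t ∈ invAt G c) (hxt : Commute x t) (hlt : orderOf x < n) :
    ∃ t' ∈ invAt G c, t ≠ t' ∧ Commute x t' := by
  obtain ⟨⟨e, he⟩, hcount⟩ := S.orderOf_count hK hx ht hxt
  have hpos := orderOf_pos x
  have he2 : 2 ≤ n / orderOf x := by
    rw [he, Nat.mul_div_cancel_left _ hpos]
    rcases Nat.lt_or_ge e 2 with h | h
    · interval_cases e <;> simp_all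
    · exact h
  have h4 : 2 ^ 2 ≤ 2 ^ (n / orderOf x) := Nat.pow_le_pow_right (by omega) he2
  obtain ⟨t', ⟨ht', hxt'⟩, hne⟩ := Set.exists_ne_of_one_lt_ncard (s := {s ∈ invAt G c | Commute x s}) (by omega) t
  exact ⟨t', ht', hne.symm, hxt'⟩

/-- Outside the exceptional case an element of order `n` centralising an involution forces `n` composite. -/
theorem SemiData.not_prime (S : SemiData c a w n J) (hC : ConjPair G Ω) (hca : c ≠ a) (hw : w ∈ swapAt G c a)
    (hK : fixKer G c a = ⊥) (hnex : ¬ Exceptional (G := G) c a) {x : G} (hx : x ∈ pairStab G c a) {t : G}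
    (ht : t ∈ invAt G c) (hxt : Commute x t) (hxn : orderOf x = n) : ¬ n.Prime := by
  intro hn
  obtain ⟨x₀, hx₀, hx₀w, hcyc⟩ := S.cyclic_centralizer hC hca hw hK
  refine hnex ⟨hK, n, hn, S.card_inv, fun v hv => ?_⟩
  obtain ⟨z, hz, hzt, hzo, hzall⟩ := hcyc t ht
  have hx0n : orderOf x₀ = n := by
    rw [← hzo]
    exact Nat.dvd_antisymm (S.orderOf_count hK hz ht hzt).1 (hxn ▸ orderOf_dvd_of_mem_zpowers (hzall x hx hxt))
  obtain ⟨s, hs, hCs⟩ := hC c a hca v hv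
  obtain ⟨y, hy, hys, hyo, hyall⟩ := hcyc s hs
  have heq : pairStab G c a ⊓ centralizer ({v} : Set G) = zpowers y := by
    refine le_antisymm (fun g hg => hyall g hg.1 ((hCs g hg.1).1 (mem_centralizer_singleton_iff.1 hg.2)))
      (zpowers_le.2 ⟨hy, mem_centralizer_singleton_iff.2 ((hCs y hy).2 hys).eq⟩)
  rw [heq, Nat.card_zpowers, hyo, hx0n]

/-- The commutators of a pair stabiliser lie in `J` when no element centralises all involutions at `c`. -/
theorem SemiData.commutator_mem (S : SemiData c a w n J) (hK : fixKer G c a = ⊥) {g h : G}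
    (hg : g ∈ pairStab G c a) (hh : h ∈ pairStab G c a) : g * h * g⁻¹ * h⁻¹ ∈ J := by
  obtain ⟨x₀, -, -, hgen⟩ := S.gen
  have hpow : ∀ x ∈ pairStab G c a, Commute x w → ∃ i : ℕ, x = x₀ ^ i := fun x hx hxw => by
    obtain ⟨i, hi⟩ := hgen x hx hxw
    rw [hK, mem_bot, inv_mul_eq_one] at hi
    exact ⟨i, hi.symm⟩
  obtain ⟨j, hj, x, hx, hxw, rfl⟩ := S.exists_mul g hg
  obtain ⟨j', hj', x', hx', hxw', rfl⟩ := S.exists_mul h hh
  have hxx : Commute x x' := by
    obtain ⟨i, rfl⟩ := hpow x hx hxw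
    obtain ⟨i', rfl⟩ := hpow x' hx' hxw'
    exact (Commute.refl x₀).pow_pow i i'
  have e : j * x * (j' * x') * (j * x)⁻¹ * (j' * x')⁻¹ = j * (x * j' * x⁻¹) * (x' * j⁻¹ * x'⁻¹) * j'⁻¹ := by
    calc j * x * (j' * x') * (j * x)⁻¹ * (j' * x')⁻¹ = j * (x * j' * x⁻¹) * (x * x') * x⁻¹ * j⁻¹ * x'⁻¹ * j'⁻¹ := by
          group
      _ = j * (x * j' * x⁻¹) * (x' * x) * x⁻¹ * j⁻¹ * x'⁻¹ * j'⁻¹ := by rw [hxx.eq]
      _ = _ := by group
  rw [e]
  exact mul_mem (mul_mem (mul_mem hj (S.J_normal x hx j' hj')) (S.J_normal x' hx' _ (InvMemClass.inv_mem hj)))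
    (InvMemClass.inv_mem hj')

theorem SemiData.eq_one_of_commute (S : SemiData c a w n J) (hF : RealFree G Ω) (hca : c ≠ a)
    (hw : w ∈ swapAt G c a) {j : G} (hj : j ∈ J) {t : G} (ht : t ∈ invAt G c) (hjt : Commute j t) : j = 1 := by
  by_contra hne
  exact (hF c a hca w hw j ((S.mem_J j).1 hj).1 ((S.mem_J j).1 hj).2 hne).2 t ht hjt

/-- An element centralising an involution at `c` is centralised by an element moving `a` to any of its fixed
points. -/
theorem Hyp.exists_move_commute (U : Hyp G Ω) [FaithfulSMul G Ω] (hS : SplitBelow G Ω) (hW : InvComm G Ω)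
    (hF : RealFree G Ω) (hC : ConjPair G Ω) (hca : c ≠ a) (hw : w ∈ swapAt G c a) (S : SemiData c a w n J)
    (hK : fixKer G c a = ⊥) (hnex : ¬ Exceptional (G := G) c a) {x : G} (hx : x ∈ pairStab G c a) (hx1 : x ≠ 1)
    {t : G} (ht : t ∈ invAt G c) (hxt : Commute x t) {b : Ω} (hbc : b ≠ c) (hxb : x • b = b) :
    ∃ q : G, q • c = c ∧ q • a = b ∧ Commute q x := by
  classical
  have hxa : x • a = a := (mem_pair.1 hx).2
  have hxc : x • c = c := (mem_pair.1 hx).1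
  -- the move for elements of small order
  have hsmall : ∀ y ∈ pairStab G c a, y ≠ 1 → Commute y t → orderOf y < n → y • b = b →
      ∃ Q, SplitAt (centralizer (zpowers y : Set G)) c Q ∧ (cen Ω (centralizer (zpowers y : Set G))).Nontrivial ∧
        a ∈ cen Ω (centralizer (zpowers y : Set G)) ∧ b ∈ cen Ω (centralizer (zpowers y : Set G)) := by
    intro y hy hy1 hyt hlt hyb
    obtain ⟨t', ht', hne, hyt'⟩ := S.exists_second hK hy ht hyt hlt
    obtain ⟨Q, hQ, hnt, hcen⟩ := U.element_split hS hW hC hca hy hy1 ht ht' hne hyt hyt'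
    exact ⟨Q, hQ, hnt, (hcen a).2 (mem_pair.1 hy).2, (hcen b).2 hyb⟩
  have hxdvd := (S.orderOf_count hK hx ht hxt).1
  have hn0 : 0 < n := by have := S.two_le; omega
  rcases lt_or_eq_of_le (Nat.le_of_dvd hn0 hxdvd) with hlt | hxn
  · obtain ⟨Q, hQ, -, haC, hbC⟩ := hsmall x hx hx1 hxt hlt hxb
    obtain ⟨q, hq, hqa⟩ := hQ.exists_move a haC hca.symm b hbC hbc
    obtain ⟨hqM, hqc⟩ := Subgroup.mem_inf.1 (hQ.le hq)
    exact ⟨q, mem_stabilizer_iff.1 hqc, hqa, Commute.symm (hqM x (mem_zpowers x))⟩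
  · have hnp := S.not_prime hC hca hw hK hnex hx ht hxt hxn
    obtain ⟨l, hl, hln⟩ := Nat.exists_prime_and_dvd (show n ≠ 1 by have := S.two_le; omega)
    have hlt : n / l < n := Nat.div_lt_self hn0 hl.one_lt
    have hol : orderOf (x ^ l) = n / l := by
      rw [orderOf_pow' x hl.ne_zero, hxn, Nat.gcd_eq_right hln]
    have hxl1 : x ^ l ≠ 1 := fun h => by
      rw [h, orderOf_one] at hol
      exact hnp ((Nat.eq_of_dvd_of_div_eq_one hln hol.symm) ▸ hl)
    obtain ⟨Q, hQ, hnt, haC, hbC⟩ := hsmall (x ^ l) (pow_mem hx l) hxl1 (hxt.pow_left l) (hol ▸ hlt)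
      (mem_stabilizer_iff.1 (pow_mem (mem_stabilizer_iff.2 hxb : x ∈ stabilizer G b) l))
    obtain ⟨C, hCdef⟩ : ∃ C, C = centralizer (zpowers (x ^ l) : Set G) := ⟨_, rfl⟩
    rw [← hCdef] at hQ hnt haC hbC
    obtain ⟨q, hq, ⟨s, hqs⟩, hqa⟩ := exists_two_move hQ haC hca.symm hbC hbc (U.odd_ker hnt)
    obtain ⟨hqC, hqc'⟩ := Subgroup.mem_inf.1 (hQ.le hq)
    have hqc : q • c = c := mem_stabilizer_iff.1 hqc'
    have hcomC : ∀ {y : G}, Commute y (x ^ l) → y ∈ C := fun hy => by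
      rw [hCdef]
      intro r hr
      obtain ⟨i, rfl⟩ := mem_zpowers_iff.1 hr
      exact (hy.zpow_right i).symm.eq
    have htC : t ∈ C := hcomC (hxt.pow_left l).symm
    have hxC : x ∈ C := hcomC (Commute.self_pow x l)
    obtain ⟨x₀, -, -, hcyc⟩ := S.cyclic_centralizer hC hca hw hK
    obtain ⟨z, hz, hzt, -, hzall⟩ := hcyc t ht
    have hzn := (S.orderOf_count hK hz ht hzt).1
    have hkerz : ∀ k ∈ ker Ω C, k ∈ zpowers z ∧ k ∈ pairStab G c a ∧ Commute k t := by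
      intro k hk
      have hkc : k • c = c := mem_stabilizer_iff.1 (Subgroup.mem_inf.1 (hQ.le (hQ.ker_le hk))).2
      have hkD : k ∈ pairStab G c a := mem_pair.2 ⟨hkc, (mem_ker.1 hk).2 a haC⟩
      have hkt := U.commute_ker hW hnt hk hkc ht htC
      exact ⟨hzall k hkD hkt, hkD, hkt⟩
    have hkerdvd : ∀ k ∈ ker Ω C, orderOf k ∣ n := fun k hk =>
      (orderOf_dvd_of_mem_zpowers (hkerz k hk).1).trans hzn
    have hkconj : ∀ k ∈ ker Ω C, q * k * q⁻¹ ∈ ker Ω C := fun k hk => ker_conj_mem hqC hk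
    -- `q` centralises the kernel elements of small order
    have hksmall : ∀ f ∈ ker Ω C, orderOf f < n → Commute q f := by
      intro f hf hflt
      rcases eq_or_ne f 1 with rfl | hf1
      · exact Commute.one_right q
      obtain ⟨hfz, hfD, hft⟩ := hkerz f hf
      obtain ⟨hf'z, hf'D, hf't⟩ := hkerz _ (hkconj f hf)
      have hmem : q * f * q⁻¹ ∈ zpowers f := mem_zpowers_of_orderOf hfz hf'z (orderOf_conj_eq q f)
      obtain ⟨Q', hQ', -, haC', hbC'⟩ := hsmall f hfD hf1 hft hflt ((mem_ker.1 hf).2 b hbC)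
      obtain ⟨q', hq', hqa'⟩ := hQ'.exists_move a haC' hca.symm b hbC' hbc
      obtain ⟨hqM', hqc''⟩ := Subgroup.mem_inf.1 (hQ'.le hq')
      have hcom : Commute (q * f * q⁻¹) q' := hqM' _ hmem
      have hδ : q'⁻¹ * q ∈ pairStab G c a := mem_pair.2
        ⟨by rw [mul_smul, hqc, inv_smul_eq_iff, mem_stabilizer_iff.1 hqc''],
          by rw [mul_smul, hqa, inv_smul_eq_iff, hqa']⟩
      have e : q'⁻¹ * q * f * (q'⁻¹ * q)⁻¹ * f⁻¹ = q * f * q⁻¹ * f⁻¹ := by
        calc q'⁻¹ * q * f * (q'⁻¹ * q)⁻¹ * f⁻¹ = q'⁻¹ * ((q * f * q⁻¹) * q') * f⁻¹ := by group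
          _ = q'⁻¹ * (q' * (q * f * q⁻¹)) * f⁻¹ := by rw [hcom.eq]
          _ = _ := by group
      have h1 := S.commutator_mem hK hδ hfD
      rw [e] at h1
      have h3 := S.eq_one_of_commute hF hca hw h1 ht (hf't.mul_left hft.inv_left)
      rw [mul_inv_eq_one] at h3
      exact mul_inv_eq_iff_eq_mul.1 h3
    have hkodd : ∀ k ∈ ker Ω C, Odd (orderOf k) := fun k hk =>
      (U.odd_ker hnt).of_dvd_nat (Subgroup.orderOf_dvd_natCard _ hk)
    have hkcomm : ∀ k ∈ ker Ω C, ∀ k' ∈ ker Ω C, Commute k k' := fun k hk k' hk' => by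
      obtain ⟨i, rfl⟩ := mem_zpowers_iff.1 (hkerz k hk).1
      obtain ⟨i', rfl⟩ := mem_zpowers_iff.1 (hkerz k' hk').1
      exact ((Commute.refl z).zpow_zpow i i')
    -- `q` centralises the whole kernel
    have hkall : ∀ f ∈ ker Ω C, Commute q f := by
      intro f hf
      rcases lt_or_eq_of_le (Nat.le_of_dvd hn0 (hkerdvd f hf)) with hflt | hfn
      · exact hksmall f hf hflt
      obtain ⟨g, hg⟩ : ∃ g, g = q * f * q⁻¹ * f⁻¹ := ⟨_, rfl⟩
      have hgk : g ∈ ker Ω C := hg ▸ mul_mem (hkconj f hf) (InvMemClass.inv_mem hf)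
      have hfl : Commute q (f ^ l) := hksmall _ (pow_mem hf l) (by
        rw [orderOf_pow' f hl.ne_zero, hfn, Nat.gcd_eq_right hln]; exact hlt)
      have hgl : g ^ l = 1 := by
        rw [hg, Commute.mul_pow (hkcomm _ (hkconj f hf) _ (InvMemClass.inv_mem hf)) l, conj_pow, inv_pow, hfl.eq]
        group
      have hgq : Commute q g := hksmall g hgk
        ((Nat.le_of_dvd hl.pos (orderOf_dvd_of_pow_eq_one hgl)).trans_lt
          ((Nat.le_of_dvd hn0 hln).lt_of_ne fun h => hnp (h ▸ hl)))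
      have hit : ∀ r : ℕ, q ^ r * f * (q ^ r)⁻¹ = g ^ r * f := by
        intro r
        induction r with
        | zero => simp
        | succ r ih =>
          have h1 : q * f * q⁻¹ = g * f := by rw [hg]; group
          calc q ^ (r + 1) * f * (q ^ (r + 1))⁻¹ = q * (q ^ r * f * (q ^ r)⁻¹) * q⁻¹ := by
                rw [pow_succ' q]; group
            _ = q * (g ^ r * f) * q⁻¹ := by rw [ih]
            _ = (q * g ^ r) * (f * q⁻¹) := by group
            _ = (g ^ r * q) * (f * q⁻¹) := by rw [(hgq.pow_right r).eq]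
            _ = g ^ r * (q * f * q⁻¹) := by group
            _ = g ^ (r + 1) * f := by rw [h1, pow_succ, mul_assoc]
      have h2 := hit (2 ^ s)
      rw [hqs, one_mul, inv_one, mul_one] at h2
      have hg1 : g = 1 := eq_one_of_two_pow_of_odd (hkodd g hgk) (mul_eq_right.1 h2.symm)
      rw [hg, mul_inv_eq_one] at hg1
      exact mul_inv_eq_iff_eq_mul.1 hg1
    -- hence `q` centralises `x`
    refine ⟨q, hqc, hqa, ?_⟩
    obtain ⟨e, he⟩ : ∃ e, e = q⁻¹ * (x * q * x⁻¹) := ⟨_, rfl⟩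
    have hek : e ∈ ker Ω C := by
      refine hQ.inf_le a haC hca.symm (Subgroup.mem_inf.2 ⟨?_, mem_stabilizer_iff.2 ?_⟩)
      · exact he ▸ mul_mem (InvMemClass.inv_mem hq) (hQ.conj_mem x ⟨hxC, mem_stabilizer_iff.2 hxc⟩ q hq)
      · rw [he, mul_smul, mul_smul, mul_smul, inv_smul_eq_iff.2 hxa.symm, hqa, hxb, inv_smul_eq_iff, hqa]
    have h1 : x * q * x⁻¹ = q * e := by rw [he]; group
    have h2 : (x * q * x⁻¹) ^ 2 ^ s = 1 := by rw [conj_pow, hqs]; group
    rw [h1, (hkall e hek).mul_pow, hqs, one_mul] at h2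
    have he1 := eq_one_of_two_pow_of_odd (hkodd e hek) h2
    rw [he, inv_mul_eq_one] at he1
    exact (mul_inv_eq_iff_eq_mul.1 he1.symm).symm

/-- Fusion in the point stabiliser of elements of the pair stabiliser happens within a coset of `J`. -/
theorem Hyp.fusion_mod (U : Hyp G Ω) [FaithfulSMul G Ω] (hS : SplitBelow G Ω) (hW : InvComm G Ω)
    (hF : RealFree G Ω) (hC : ConjPair G Ω) (hca : c ≠ a) (hw : w ∈ swapAt G c a) (S : SemiData c a w n J)
    (hK : fixKer G c a = ⊥) (hnex : ¬ Exceptional (G := G) c a) {x h : G} (hx : x ∈ pairStab G c a)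
    (hh : h • c = c) (hy : h * x * h⁻¹ ∈ pairStab G c a) : x⁻¹ * (h * x * h⁻¹) ∈ J := by
  rcases eq_or_ne x 1 with rfl | hx1
  · convert one_mem J using 1
    group
  have hxb : x • h⁻¹ • a = h⁻¹ • a := by
    have h1 := (mem_pair.1 hy).2
    rw [mul_smul, mul_smul] at h1
    exact eq_inv_smul_iff.2 h1
  have hbc : h⁻¹ • a ≠ c := fun e => hca.symm (by rw [inv_smul_eq_iff.1 e, hh])
  have hD : ∀ d : G, d ∈ pairStab G c a → x⁻¹ * (d * x * d⁻¹) ∈ J := by
    intro d hd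
    have h1 := S.commutator_mem hK (InvMemClass.inv_mem hx) hd
    have h2 : x⁻¹ * (d * x * d⁻¹) = x⁻¹ * d * x⁻¹⁻¹ * d⁻¹ := by group
    rw [h2]
    exact h1
  by_cases hxJ : zpowers x ⊓ J = ⊥
  · obtain ⟨t, ht, hxt⟩ := S.fix_vector hK x hx hxJ
    obtain ⟨q, hqc, hqa, hqx⟩ := U.exists_move_commute hS hW hF hC hca hw S hK hnex hx hx1 ht hxt hbc hxb
    have e : h * x * h⁻¹ = h * q * x * (h * q)⁻¹ := by
      calc h * x * h⁻¹ = h * (x * q) * q⁻¹ * h⁻¹ := by group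
        _ = h * (q * x) * q⁻¹ * h⁻¹ := by rw [hqx.eq]
        _ = _ := by group
    rw [e]
    exact hD _ (mem_pair.2 ⟨by rw [mul_smul, hqc, hh], by rw [mul_smul, hqa, smul_inv_smul]⟩)
  · obtain ⟨j, hj, hj1⟩ : ∃ j ∈ zpowers x ⊓ J, j ≠ 1 := by
      by_contra hno
      push Not at hno
      exact hxJ ((Subgroup.eq_bot_iff_forall _).2 hno)
    have hjb : j • h⁻¹ • a = h⁻¹ • a :=
      mem_stabilizer_iff.1 (zpowers_le.2 (mem_stabilizer_iff.2 hxb) hj.1)
    refine hD h (mem_pair.2 ⟨hh, ?_⟩)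
    rcases S.fix_only j hj.2 hj1 _ hjb with e | e
    · exact absurd e hbc
    · exact (inv_smul_eq_iff.1 e).symm

/-- The stabiliser of `c` has a regular normal subgroup outside the exceptional case when no element of the pair
stabiliser centralises all involutions at `c`. -/
theorem Hyp.hasRegular_fusion (U : Hyp G Ω) [FaithfulSMul G Ω] (hS : SplitBelow G Ω)
    (h2 : ∀ c a c' a' : Ω, c ≠ a → c' ≠ a' → ∃ g : G, g • c = c' ∧ g • a = a') (hW : InvComm G Ω)
    (hF : RealFree G Ω) (hC : ConjPair G Ω) (hca : c ≠ a) (hw : w ∈ swapAt G c a) (S : SemiData c a w n J)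
    (hK : fixKer G c a = ⊥) (hnex : ¬ Exceptional (G := G) c a) : HasRegular G Ω c := by
  classical
  obtain ⟨H, hH⟩ : ∃ H, H = stabilizer G c := ⟨_, rfl⟩
  have hHc : ∀ g, g ∈ H ↔ g • c = c := fun g => hH ▸ mem_stabilizer_iff
  have hD : H ⊓ stabilizer G a = pairStab G c a := hH ▸ rfl
  have hne : ∀ g ∈ H, g • a ≠ c := fun g hg h => hca (smul_left_cancel g (((hHc g).1 hg).trans h.symm))
  have htrans : ∀ b : Ω, b ≠ c → ∃ g ∈ H, g • a = b := fun b hb => by
    obtain ⟨g, hgc, hga⟩ := h2 c a c b hca hb.symm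
    exact ⟨g, (hHc g).2 hgc, hga⟩
  have hJD : ∀ j ∈ J, j ∈ pairStab G c a := fun j hj => ((S.mem_J j).1 hj).1
  have hoddD : Odd (Nat.card ↥(pairStab G c a)) := U.odd_pair hca
  have hl2 : ∀ x ∈ pairStab G c a, ∀ l : ℕ, orderOf x = l → l ≠ 2 := by
    rintro x hx l rfl h
    have := hoddD.of_dvd_nat (Subgroup.orderOf_dvd_natCard _ hx)
    rw [h] at this
    exact absurd this (by decide)
  -- the first transfer
  obtain ⟨Dh, hDh⟩ : ∃ Dh, Dh = (stabilizer G a).subgroupOf H := ⟨_, rfl⟩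
  have hDmem : ∀ d : Dh, ((d : H) : G) ∈ pairStab G c a := fun d => hD ▸
    ⟨(d : H).2, mem_subgroupOf.1 (hDh ▸ d.2)⟩
  obtain ⟨ι, hι⟩ : ∃ ι : Dh →* G, ι = H.subtype.comp Dh.subtype := ⟨_, rfl⟩
  have hιv : ∀ d : Dh, ι d = ((d : H) : G) := fun d => by rw [hι]; rfl
  obtain ⟨Jd, hJd⟩ : ∃ Jd, Jd = J.comap ι := ⟨_, rfl⟩
  have hJdmem : ∀ d : Dh, d ∈ Jd ↔ ((d : H) : G) ∈ J := fun d => by rw [hJd, mem_comap, hιv]
  haveI : Jd.Normal := ⟨fun j hj g => by
    rw [hJdmem] at hj ⊢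
    exact S.J_normal _ (hDmem g) _ hj⟩
  letI : CommGroup (Dh ⧸ Jd) :=
    { (inferInstance : Group (Dh ⧸ Jd)) with
      mul_comm := fun p r => by
        induction p using QuotientGroup.induction_on with
        | _ g =>
          induction r using QuotientGroup.induction_on with
          | _ k =>
            rw [← QuotientGroup.mk_mul, ← QuotientGroup.mk_mul, QuotientGroup.eq, hJdmem]
            have h1 := S.commutator_mem hK (InvMemClass.inv_mem (hDmem k)) (InvMemClass.inv_mem (hDmem g))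
            simp only [Subgroup.coe_mul, InvMemClass.coe_inv, inv_inv] at h1 ⊢
            convert h1 using 1
            group }
  obtain ⟨φ, hφ⟩ : ∃ φ : Dh →* Dh ⧸ Jd, φ = QuotientGroup.mk' Jd := ⟨_, rfl⟩
  obtain ⟨x₀, hx₀, hx₀w, hgen⟩ := S.gen
  have hcop1 : (Nat.card φ.range).Coprime Dh.index := by
    refine Nat.coprime_of_dvd fun l hl hlr hli => ?_
    obtain ⟨X, hX⟩ : ∃ X : Dh, ((X : H) : G) = x₀ := by
      have h1 : x₀ ∈ H ⊓ stabilizer G a := hD.symm ▸ hx₀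
      exact ⟨⟨⟨x₀, h1.1⟩, by rw [hDh, mem_subgroupOf]; exact h1.2⟩, rfl⟩
    have hrange : φ.range ≤ zpowers (φ X) := by
      rintro _ ⟨d, rfl⟩
      obtain ⟨j, hj, x, hx, hxw, hd⟩ := S.exists_mul _ (hDmem d)
      obtain ⟨i, hi⟩ := hgen x hx hxw
      rw [hK, mem_bot, inv_mul_eq_one] at hi
      have h1 : φ d = φ (X ^ i) := by
        rw [hφ, QuotientGroup.mk'_apply, QuotientGroup.mk'_apply, eq_comm, QuotientGroup.eq, hJdmem]
        simp only [Subgroup.coe_mul, InvMemClass.coe_inv, SubmonoidClass.coe_pow, hX, hd, hi]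
        have h2 := S.J_normal _ (InvMemClass.inv_mem hx) j hj
        convert h2 using 1
        group
      rw [h1, map_pow]
      exact pow_mem (mem_zpowers _) _
    have hlx : l ∣ orderOf x₀ := by
      refine hlr.trans ((Subgroup.card_dvd_of_le hrange).trans ?_)
      rw [Nat.card_zpowers, ← hX, Subgroup.orderOf_coe, Subgroup.orderOf_coe]
      exact orderOf_map_dvd φ X
    obtain ⟨x, hxdef⟩ : ∃ x, x = x₀ ^ (orderOf x₀ / l) := ⟨_, rfl⟩
    have hxo : orderOf x = l := by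
      obtain ⟨d, hd⟩ := hlx
      have hd0 : 0 < d := Nat.pos_of_mul_pos_left (hd ▸ orderOf_pos x₀ : 0 < l * d)
      rw [hxdef, hd, Nat.mul_div_cancel_left _ hl.pos, orderOf_pow' _ hd0.ne', hd,
        Nat.gcd_mul_left_left, Nat.mul_div_cancel _ hd0]
    have hx1 : x ≠ 1 := fun h => by rw [h, orderOf_one] at hxo; exact hl.ne_one hxo.symm
    have hxD : x ∈ pairStab G c a := hxdef ▸ pow_mem hx₀ _
    have hxw : Commute x w := hxdef ▸ hx₀w.pow_left _
    obtain ⟨t, ht, hCw⟩ := hC c a hca w hw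
    have hxt : Commute x t := (hCw x hxD).1 hxw
    have hlt : orderOf x < n := by
      refine (Nat.le_of_dvd (by have := S.two_le; omega) (S.orderOf_count hK hxD ht hxt).1).lt_of_ne fun h => ?_
      exact S.not_prime hC hca hw hK hnex hxD ht hxt h (h ▸ hxo.symm ▸ hl)
    obtain ⟨t', ht', htt, hxt'⟩ := S.exists_second hK hxD ht hxt hlt
    obtain ⟨Q, hQ, hnt, hcen⟩ := U.element_split hS hW hC hca hxD hx1 ht ht' htt hxt hxt'
    obtain ⟨k, hk⟩ := card_cen_erase hQ hnt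
    refine not_dvd_index_stabilizer hl (hl2 x hxD l hxo) ((hD.symm ▸ hxD : x ∈ H ⊓ stabilizer G a)).1 hxo
      (k := k) ?_ (hDh ▸ hli)
    rw [← hk]
    congr 1
    ext b
    rw [Set.mem_diff, Set.mem_singleton_iff, hcen]
    constructor
    · rintro ⟨⟨m, rfl⟩, hb⟩
      exact ⟨hb, hne _ m.2⟩
    · rintro ⟨hb, hbc⟩
      obtain ⟨g, hg, hga⟩ := htrans b hbc
      exact ⟨⟨⟨g, hg⟩, hga⟩, hb⟩
  obtain ⟨N, hNn, hNtop, hNinf⟩ := exists_kernel_of_hom Dh φ hcop1 (by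
    rintro p r - - - - - ⟨h, hh⟩
    rw [hφ, QuotientGroup.mk'_apply, QuotientGroup.mk'_apply, QuotientGroup.eq, hJdmem]
    have hh' : (h : G) * ((p : H) : G) * (h : G)⁻¹ = ((r : H) : G) := congrArg Subtype.val hh
    simp only [Subgroup.coe_mul, InvMemClass.coe_inv]
    rw [← hh']
    exact U.fusion_mod hS hW hF hC hca hw S hK hnex (hDmem p) ((hHc _).1 h.2) (hh' ▸ hDmem r))
  -- the kernel as a subgroup of `G`
  obtain ⟨H₁, hH₁⟩ : ∃ H₁, H₁ = N.map H.subtype := ⟨_, rfl⟩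
  have hH₁H : H₁ ≤ H := hH₁ ▸ Subgroup.map_subtype_le _
  have hH₁J : H₁ ⊓ stabilizer G a = J := by
    ext g
    constructor
    · rintro ⟨hg1, hga⟩
      rw [hH₁] at hg1
      obtain ⟨p, hp, rfl⟩ := hg1
      have h1 : p ∈ N ⊓ Dh := ⟨hp, by rw [hDh]; exact mem_subgroupOf.2 hga⟩
      rw [hNinf] at h1
      obtain ⟨d, hd, rfl⟩ := h1
      have hd' : φ d = 1 := hd
      rw [hφ, QuotientGroup.mk'_apply, QuotientGroup.eq_one_iff, hJdmem] at hd'
      exact hd'
    · intro hg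
      have h1 : g ∈ H ⊓ stabilizer G a := hD.symm ▸ hJD g hg
      obtain ⟨d, hd⟩ : ∃ d : Dh, (d : H) = ⟨g, h1.1⟩ :=
        ⟨⟨⟨g, h1.1⟩, by rw [hDh, mem_subgroupOf]; exact h1.2⟩, rfl⟩
      have h3 : (d : H) ∈ N ⊓ Dh := by
        rw [hNinf]
        refine ⟨d, (?_ : φ d = 1), rfl⟩
        rw [hφ, QuotientGroup.mk'_apply, QuotientGroup.eq_one_iff, hJdmem, hd]
        exact hg
      exact ⟨hH₁ ▸ ⟨⟨g, h1.1⟩, hd ▸ h3.1, rfl⟩, h1.2⟩
  have hH₁n : ∀ h ∈ H, ∀ g ∈ H₁, h * g * h⁻¹ ∈ H₁ := by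
    intro h hh g hg
    rw [hH₁] at hg ⊢
    obtain ⟨p, hp, rfl⟩ := hg
    exact ⟨⟨h, hh⟩ * p * ⟨h, hh⟩⁻¹, hNn.conj_mem p hp _, rfl⟩
  have hH₁tr : ∀ b : Ω, b ≠ c → ∃ g ∈ H₁, g • a = b := by
    intro b hb
    obtain ⟨g, hg, hga⟩ := htrans b hb
    haveI := hNn
    have h1 : (⟨g, hg⟩ : H) ∈ (N : Set H) * (Dh : Set H) := by
      rw [← Subgroup.normal_mul, hNtop]; exact mem_top _
    obtain ⟨p, hp, d, hd, hpd⟩ := h1
    refine ⟨p, hH₁ ▸ ⟨p, hp, rfl⟩, ?_⟩
    have e : (p : G) * (d : G) = g := congrArg Subtype.val hpd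
    rw [← hga, ← e, mul_smul, mem_stabilizer_iff.1 (mem_subgroupOf.1 (hDh ▸ hd : d ∈ (stabilizer G a).subgroupOf H))]
  -- the second transfer
  obtain ⟨D₁, hD₁⟩ : ∃ D₁, D₁ = (stabilizer G a).subgroupOf H₁ := ⟨_, rfl⟩
  have hD₁J : ∀ p : H₁, p ∈ D₁ ↔ (p : G) ∈ J := fun p => by
    rw [hD₁, mem_subgroupOf, ← hH₁J, Subgroup.mem_inf]
    exact ⟨fun h => ⟨p.2, h⟩, fun h => h.2⟩
  haveI := S.J_cyclic
  letI : CommGroup D₁ :=
    { (inferInstance : Group D₁) with
      mul_comm := fun p r => Subtype.ext (Subtype.ext (by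
        have h := congrArg (Subtype.val : J → G)
          ((IsCyclic.commutative (α := J)).is_comm.comm ⟨_, (hD₁J p).1 p.2⟩ ⟨_, (hD₁J r).1 r.2⟩)
        exact h)) }
  have hcardD₁ : Nat.card D₁ = 2 ^ n - 1 := by rw [hD₁, card_subgroupOf_inf, hH₁J, S.card_J]
  have hcop2 : (Nat.card D₁).Coprime D₁.index := by
    refine Nat.coprime_of_dvd fun l hl hlc hli => ?_
    haveI : Fact l.Prime := ⟨hl⟩
    obtain ⟨x, hx⟩ := exists_prime_orderOf_dvd_card' (G := D₁) l hlc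
    have hxJ : ((x : H₁) : G) ∈ J := (hD₁J _).1 x.2
    have hxo : orderOf ((x : H₁) : G) = l := by rw [Subgroup.orderOf_coe, Subgroup.orderOf_coe, hx]
    have hx1 : ((x : H₁) : G) ≠ 1 := fun h => by rw [h, orderOf_one] at hxo; exact hl.ne_one hxo.symm
    refine not_dvd_index_stabilizer hl (hl2 _ (hJD _ hxJ) l hxo) (x : H₁).2 hxo (k := 0) ?_ (hD₁ ▸ hli)
    rw [pow_zero, Set.ncard_eq_one]
    refine ⟨a, Set.eq_singleton_iff_unique_mem.2 ⟨⟨mem_orbit_self a, (mem_pair.1 (hJD _ hxJ)).2⟩, ?_⟩⟩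
    rintro b ⟨⟨m, rfl⟩, hb⟩
    exact (S.fix_only _ hxJ hx1 _ hb).resolve_left (hne _ (hH₁H m.2))
  have hrange2 : (MonoidHom.id D₁).range = ⊤ := MonoidHom.range_eq_top.2 Function.surjective_id
  obtain ⟨P, hPn, hPtop, hPinf⟩ := exists_kernel_of_hom D₁ (MonoidHom.id D₁) (by
    rw [hrange2, Subgroup.card_top]; exact hcop2) (by
    rintro p r - - - - - ⟨h, hh⟩
    show p = r
    have hh' : (h : G) * ((p : H₁) : G) * (h : G)⁻¹ = ((r : H₁) : G) := congrArg Subtype.val hh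
    rcases eq_or_ne p 1 with rfl | hp1
    · refine Subtype.ext (Subtype.ext ?_)
      rw [← hh']
      simp
    have hpJ : ((p : H₁) : G) ∈ J := (hD₁J _).1 p.2
    have hp1' : ((p : H₁) : G) ≠ 1 := fun e => hp1 (Subtype.ext (Subtype.ext e))
    have hpb : ((p : H₁) : G) • (h : G)⁻¹ • a = (h : G)⁻¹ • a := by
      have h1 := (mem_pair.1 (hJD _ ((hD₁J _).1 r.2))).2
      rw [← hh', mul_smul, mul_smul] at h1
      exact eq_inv_smul_iff.2 h1
    have hha : (h : G) • a = a :=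
      (inv_smul_eq_iff.1 ((S.fix_only _ hpJ hp1' _ hpb).resolve_left
        (hne _ (H.inv_mem (hH₁H h.2))))).symm
    have hhD : h ∈ D₁ := by rw [hD₁, mem_subgroupOf]; exact hha
    have h3 : (⟨h, hhD⟩ : D₁) * p * (⟨h, hhD⟩ : D₁)⁻¹ = r := Subtype.ext hh
    rw [← h3, mul_comm (⟨h, hhD⟩ : D₁) p, mul_inv_cancel_right])
  haveI := hPn
  have hPinf' : P ⊓ D₁ = ⊥ := by
    rw [hPinf, (MonoidHom.ker_eq_bot_iff _).2 Function.injective_id, Subgroup.map_bot]
  have hPidx : P.index = Nat.card D₁ := by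
    have h1 := Subgroup.relIndex_sup_right D₁ P
    rw [sup_comm, hPtop, Subgroup.relIndex_top_right] at h1
    rw [h1, ← Subgroup.inf_relIndex_right, hPinf', Subgroup.relIndex_bot_left]
  have hPcard : Nat.card P = D₁.index := by
    have h1 := (Subgroup.card_mul_index P).trans (Subgroup.card_mul_index D₁).symm
    rw [hPidx, mul_comm (Nat.card D₁)] at h1
    exact Nat.eq_of_mul_eq_mul_right Nat.card_pos h1
  refine hasRegular_of hca (Q := P.map H₁.subtype) ?_ ?_ ?_ (fun b hb => ?_)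
  · rintro _ ⟨p, -, rfl⟩
    exact hH ▸ hH₁H p.2
  · rintro h hh _ ⟨p, hp, rfl⟩
    have hhH : h ∈ H := hH.symm ▸ hh
    refine ⟨⟨h * p * h⁻¹, hH₁n h hhH p p.2⟩, mem_of_pow_card hPn ?_ (Subtype.ext ?_), rfl⟩
    · rw [hPcard, hPidx]; exact hcop2.symm
    · rw [SubmonoidClass.coe_pow, OneMemClass.coe_one]
      show (h * (p : G) * h⁻¹) ^ Nat.card P = 1
      rw [conj_pow, show (p : G) ^ Nat.card P = 1 from
        congrArg (Subtype.val ∘ Subtype.val) (pow_card_eq_one' (x := (⟨p, hp⟩ : P))), mul_one, mul_inv_cancel]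
  · rw [eq_bot_iff]
    rintro _ ⟨⟨p, hp, rfl⟩, hpa⟩
    have h1 : p ∈ P ⊓ D₁ := ⟨hp, by rw [hD₁]; exact mem_subgroupOf.2 hpa⟩
    rw [hPinf', mem_bot] at h1
    rw [h1, map_one]
    exact one_mem _
  · obtain ⟨g, hg, hga⟩ := hH₁tr b hb
    have h1 : (⟨g, hg⟩ : H₁) ∈ (P : Set H₁) * (D₁ : Set H₁) := by
      rw [← Subgroup.normal_mul, hPtop]; exact mem_top _
    obtain ⟨p, hp, d, hd, hpd⟩ := h1
    refine ⟨p, ⟨p, hp, rfl⟩, ?_⟩
    have e : (p : G) * (d : G) = g := congrArg Subtype.val hpd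
    rw [← hga, ← e, mul_smul,
      mem_stabilizer_iff.1 (mem_subgroupOf.1 (hD₁ ▸ hd : d ∈ (stabilizer G a).subgroupOf H₁))]

end NoKer

/-- The stabiliser of a point has a normal subgroup regular on the other points, given the character theoretic
fact about the exceptional case. -/
theorem hasRegular {G Ω : Type u} [Group G] [Finite G] [MulAction G Ω] [FaithfulSMul G Ω] (U : Hyp G Ω)
    (hr : TwoRank (⊤ : Subgroup G)) (hb : Below.{u} (Nat.card G))
    (h2 : ∀ c a c' a' : Ω, c ≠ a → c' ≠ a' → ∃ g : G, g • c = c' ∧ g • a = a') (hW : InvComm G Ω)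
    (hF : RealFree G Ω) (hC : ConjPair G Ω)
    (hEx : ∀ c a : Ω, c ≠ a → Exceptional (G := G) c a →
      ∀ h ∈ stabilizer G c, ∃ x ∈ pairStab G c a, ∀ t ∈ invAt G c, Commute (x⁻¹ * h) t)
    (c : Ω) : HasRegular G Ω c := by
  have := U.nontrivial
  obtain ⟨a, hac⟩ := exists_ne c
  have hca : c ≠ a := hac.symm
  obtain ⟨w, hw⟩ := U.exists_swap_pair hca
  obtain ⟨n, J, S⟩ := U.semiData hr hW hF hC hca hw
  have hS := splitBelow_of_below U hb
  by_cases hK : fixKer G c a = ⊥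
  · by_cases hex : Exceptional (G := G) c a
    · refine hasRegular_of hca (Q := stabilizer G c ⊓ centralizer (invAt G c)) inf_le_left (fun h hh x hx => ?_)
        (by rw [← hK, fixKer, pairStab, inf_right_comm]) (fun b hb' => ?_)
      · obtain ⟨hxc, hxt⟩ := Subgroup.mem_inf.1 hx
        refine Subgroup.mem_inf.2 ⟨mul_mem (mul_mem hh hxc) (InvMemClass.inv_mem hh), fun t ht => ?_⟩
        have hhc := mem_stabilizer_iff.1 hh
        have hic := mem_stabilizer_iff.1 (InvMemClass.inv_mem hh)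
        have h1 : h⁻¹ * t * h ∈ invAt G c :=
          ⟨by rw [show h⁻¹ * t * h = h⁻¹ * t * h⁻¹⁻¹ by rw [inv_inv]]; exact (orderOf_conj_eq _ _).trans ht.1,
            by rw [mul_smul, mul_smul, hhc, ht.2, hic]⟩
        have h3 := hxt _ h1
        calc t * (h * x * h⁻¹) = h * ((h⁻¹ * t * h) * x) * h⁻¹ := by group
          _ = h * (x * (h⁻¹ * t * h)) * h⁻¹ := by rw [h3]
          _ = _ := by group
      · obtain ⟨h, hhc, hha⟩ := h2 c a c b hca hb'.symm
        obtain ⟨x, hx, hxt⟩ := hEx c a hca hex h (mem_stabilizer_iff.2 hhc)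
        obtain ⟨hxc, hxa⟩ := mem_pair.1 hx
        have hxc' : x⁻¹ • c = c := by rw [inv_smul_eq_iff, hxc]
        have hxa' : x⁻¹ • a = a := by rw [inv_smul_eq_iff, hxa]
        refine ⟨h * x⁻¹, ⟨mem_stabilizer_iff.2 (by rw [mul_smul, hxc', hhc]), fun t ht => ?_⟩,
          by rw [mul_smul, hxa', hha]⟩
        have h1 : x⁻¹ * t * x ∈ invAt G c := by
          have := U.invAt_conj (InvMemClass.inv_mem hx) ht
          rwa [inv_inv] at this
        have h3 := (hxt _ h1).eq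
        calc t * (h * x⁻¹) = x * ((x⁻¹ * t * x) * (x⁻¹ * h)) * x⁻¹ := by group
          _ = x * ((x⁻¹ * h) * (x⁻¹ * t * x)) * x⁻¹ := by rw [h3]
          _ = _ := by group
    · exact U.hasRegular_fusion hS h2 hW hF hC hca hw S hK hex
  · exact U.hasRegular_ker hS h2 hW hC hca S hK

end Cfsg.Agent.Invol.Bender
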