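import Cfsg.Agent.Lib.Invol.Bender.BelowFacts
import Cfsg.Agent.Lib.Transfer.RankOne.Basic

/-!
# The image of the action, and the rank one set-up given by a split structure

The kernel of the action has odd order, the image inherits the hypotheses, and a split structure of a faithful
action with two commuting involutions is a rank one set-up.
-/

set_option autoImplicit false
set_option linter.unusedSectionVars false

namespace Cfsg.Agent.Invol.Bender

open MulAction Subgroup

universe u v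

variable {G : Type u} [Group G] [Finite G] {Ω : Type v} [MulAction G Ω]

/-- The permutation group induced on the points. -/
abbrev image (G : Type u) [Group G] (Ω : Type v) [MulAction G Ω] : Subgroup (Equiv.Perm Ω) :=
  (MulAction.toPermHom G Ω).range

/-- The map onto the permutation group. -/
def toImage (G : Type u) [Group G] (Ω : Type v) [MulAction G Ω] : G →* image G Ω :=
  (MulAction.toPermHom G Ω).rangeRestrict

theorem toImage_smul (g : G) (x : Ω) : toImage G Ω g • x = g • x := rfl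

theorem toImage_surjective : Function.Surjective (toImage G Ω) :=
  (MulAction.toPermHom G Ω).rangeRestrict_surjective

theorem toImage_eq_one {g : G} : toImage G Ω g = 1 ↔ ∀ x : Ω, g • x = x := by
  constructor
  · intro h x
    rw [← toImage_smul, h, one_smul]
  · intro h
    exact Subtype.ext (Equiv.ext h)

instance image_finite : Finite (image G Ω) := Finite.of_surjective _ (toImage_surjective (G := G) (Ω := Ω))

theorem cen_top (U : Hyp G Ω) (x : Ω) : x ∈ cen Ω (⊤ : Subgroup G) :=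
  let ⟨t, ht, htx⟩ := U.invol_at x
  ⟨t, mem_top t, ht, htx⟩

theorem cen_top_nontrivial (U : Hyp G Ω) : (cen Ω (⊤ : Subgroup G)).Nontrivial := by
  haveI := U.nontrivial
  obtain ⟨x, y, hxy⟩ := exists_pair_ne Ω
  exact ⟨x, cen_top U x, y, cen_top U y, hxy⟩

theorem mem_ker_top (U : Hyp G Ω) {g : G} : g ∈ ker Ω (⊤ : Subgroup G) ↔ ∀ x : Ω, g • x = x := by
  rw [mem_ker]
  exact ⟨fun h x => h.2 x (cen_top U x), fun h => ⟨mem_top g, fun x _ => h x⟩⟩

/-- An involution of the image has an involution preimage. -/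
theorem exists_invol_preimage (U : Hyp G Ω) {i : image G Ω} (hi : orderOf i = 2) :
    ∃ g : G, orderOf g = 2 ∧ toImage G Ω g = i := by
  obtain ⟨g, rfl⟩ := toImage_surjective i
  obtain ⟨e, m, hm, hg⟩ := Nat.exists_eq_pow_mul_and_not_dvd (orderOf_pos g).ne' 2 (by omega)
  obtain ⟨r, rfl⟩ : Odd m := Nat.odd_iff.2 (Nat.two_dvd_ne_zero.1 hm)
  -- the two part of `g`
  have h2 : (g ^ (2 * r + 1)) ^ 2 ^ e = 1 := by
    rw [← pow_mul, mul_comm, ← hg, pow_orderOf_eq_one]
  have himg : toImage G Ω (g ^ (2 * r + 1)) = toImage G Ω g := by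
    rw [map_pow, pow_succ, pow_mul, ← hi, pow_orderOf_eq_one, one_pow, one_mul]
  obtain ⟨x, hx⟩ : ∃ x, x = g ^ (2 * r + 1) := ⟨_, rfl⟩
  rw [← hx] at h2 himg
  obtain ⟨k, hk, hord⟩ := (Nat.dvd_prime_pow Nat.prime_two).1 (orderOf_dvd_of_pow_eq_one h2)
  rcases k with _ | _ | k
  · rw [pow_zero, orderOf_eq_one_iff] at hord
    rw [hord, map_one] at himg
    rw [← himg, orderOf_one] at hi
    exact absurd hi (by norm_num)
  · exact ⟨x, by rw [hord, pow_one], himg⟩
  · -- a square would be in the kernel, of odd order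
    exfalso
    have hker : x ^ 2 ∈ ker Ω (⊤ : Subgroup G) := (mem_ker_top U).2 (toImage_eq_one.1 (by
      rw [map_pow, himg, ← hi, pow_orderOf_eq_one]))
    have h3 := (U.odd_ker (cen_top_nontrivial U)).of_dvd_nat (Subgroup.orderOf_dvd_natCard _ hker)
    rw [orderOf_pow, hord, Nat.gcd_eq_right ⟨2 ^ (k + 1), by ring⟩] at h3
    rw [show (2 : ℕ) ^ (k + 1 + 1) / 2 = 2 ^ (k + 1) by rw [pow_succ]; omega] at h3
    exact Nat.not_even_iff_odd.2 h3 ((even_iff_two_dvd).2 ⟨2 ^ k, by ring⟩)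

theorem orderOf_toImage (U : Hyp G Ω) {t : G} (ht : orderOf t = 2) : orderOf (toImage G Ω t) = 2 := by
  refine orderOf_two_iff.2 ⟨by rw [← map_mul, mul_self_of_orderOf_two ht, map_one], fun h => ?_⟩
  obtain ⟨x, y, hxy⟩ := U.nontrivial.exists_pair_ne
  have h1 := toImage_eq_one.1 h
  exact hxy (U.fix_unique t ht x y (h1 x) (h1 y))

theorem Hyp.image (U : Hyp G Ω) : Hyp (Bender.image G Ω) Ω where
  transitive := ⟨fun x y => let ⟨g, hg⟩ := U.exists_smul_eq x y; ⟨toImage G Ω g, hg⟩⟩
  nontrivial := U.nontrivial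
  exists_inv := U.exists_inv.imp' (toImage G Ω) fun _ => orderOf_toImage U
  unique_fix i hi := by
    obtain ⟨g, hg, rfl⟩ := exists_invol_preimage U hi
    exact U.unique_fix g hg

theorem twoRank_image (U : Hyp G Ω) (hr : TwoRank (⊤ : Subgroup G)) :
    TwoRank (⊤ : Subgroup (image G Ω)) := by
  obtain ⟨x, -, y, -, hx, hy, hxy, hc⟩ := hr
  refine ⟨toImage G Ω x, mem_top _, toImage G Ω y, mem_top _, orderOf_toImage U hx, orderOf_toImage U hy,
    fun h => ?_, hc.map _⟩
  have h1 : toImage G Ω (x * y) = 1 := by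
    rw [map_mul, h, ← map_mul, mul_self_of_orderOf_two hy, map_one]
  have h2 : orderOf (x * y) = 2 := orderOf_two_iff.2 ⟨by
    calc x * y * (x * y) = x * (y * x) * y := by group
      _ = x * (x * y) * y := by rw [← hc.eq]
      _ = (x * x) * (y * y) := by group
      _ = 1 := by rw [mul_self_of_orderOf_two hx, mul_self_of_orderOf_two hy, one_mul],
    fun e => hxy (by rw [← inv_of_orderOf_two hy]; exact eq_inv_of_mul_eq_one_left e)⟩
  have h3 := orderOf_toImage U h2
  rw [h1, orderOf_one] at h3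
  exact absurd h3 (by norm_num)

/-- A split structure of the image gives one of the group. -/
theorem split_of_image (U : Hyp G Ω) (h : Split Ω (⊤ : Subgroup (image G Ω))) : Split Ω (⊤ : Subgroup G) := by
  have U' := U.image
  intro d _
  obtain ⟨Q, hQ⟩ := h d (cen_top U' d)
  have hk : ∀ g : G, g ∈ ker Ω (⊤ : Subgroup G) ↔ toImage G Ω g ∈ ker Ω (⊤ : Subgroup (image G Ω)) := fun g => by
    rw [mem_ker_top U, mem_ker_top U']
    rfl
  refine ⟨Q.comap (toImage G Ω), fun g hg => hQ.ker_le ((hk g).1 hg),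
    fun g hg => ⟨mem_top g, mem_stabilizer_iff.2 (mem_stabilizer_iff.1 (hQ.le hg).2)⟩, ?_, ?_, ?_, ?_, ?_⟩
  · intro g hg x hx
    show toImage G Ω (g * x * g⁻¹) ∈ Q
    rw [map_mul, map_mul, map_inv]
    exact hQ.conj_mem _ ⟨mem_top _, mem_stabilizer_iff.2 (mem_stabilizer_iff.1 hg.2)⟩ _ hx
  · obtain ⟨k, hk'⟩ := hQ.two_index
    refine ⟨k, ?_⟩
    have h1 : Nat.card (ker Ω (⊤ : Subgroup (image G Ω))) = 1 := by
      rw [Subgroup.card_eq_one, eq_bot_iff]
      intro g hg
      obtain ⟨g, rfl⟩ := toImage_surjective g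
      exact Subgroup.mem_bot.2 (toImage_eq_one.2 ((mem_ker_top U').1 hg))
    have h2 : ker Ω (⊤ : Subgroup G) = (toImage G Ω).ker := by
      ext g
      rw [mem_ker_top U, MonoidHom.mem_ker, toImage_eq_one]
    rw [h2, ← one_mul (2 ^ k), ← h1, ← hk', mul_comm]
    have h3 := Subgroup.card_eq_card_quotient_mul_card_subgroup
      ((toImage G Ω).ker.subgroupOf (Q.comap (toImage G Ω)))
    have h4 : (toImage G Ω).ker ≤ Q.comap (toImage G Ω) := fun g hg => by
      rw [Subgroup.mem_comap, MonoidHom.mem_ker.1 hg]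
      exact one_mem Q
    rw [Nat.card_congr (subgroupOfEquivOfLe h4).toEquiv] at h3
    have h5 : Nat.card Q =
        Nat.card (↥(Q.comap (toImage G Ω)) ⧸ (toImage G Ω).ker.subgroupOf (Q.comap (toImage G Ω))) := by
      have e : ((toImage G Ω).subgroupComap Q).ker = (toImage G Ω).ker.subgroupOf (Q.comap (toImage G Ω)) := by
        ext g
        rw [MonoidHom.mem_ker, Subgroup.mem_subgroupOf, MonoidHom.mem_ker, Subtype.ext_iff]
        rfl
      rw [← e]
      exact (Nat.card_congr (QuotientGroup.quotientKerEquivOfSurjective _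
        (MonoidHom.subgroupComap_surjective_of_surjective _ Q toImage_surjective)).toEquiv).symm
    rw [h3, h5, mul_comm]
  · intro e he hed f hf hfd
    obtain ⟨q, hq, hqe⟩ := hQ.exists_move e (cen_top U' e) hed f (cen_top U' f) hfd
    obtain ⟨g, rfl⟩ := toImage_surjective q
    exact ⟨g, hq, hqe⟩
  · intro e he hed g hg
    exact (hk g).2 (hQ.inf_le e (cen_top U' e) hed ⟨hg.1, mem_stabilizer_iff.2 (mem_stabilizer_iff.1 hg.2)⟩)
  · exact fun e _ hed => (U.odd_pair (Ne.symm hed)).of_dvd_nat (Subgroup.card_dvd_of_le inf_le_right)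

/-- A faithful action with a split structure and two commuting involutions is a rank one set-up. -/
theorem exists_rankOne (U : Hyp G Ω) [FaithfulSMul G Ω] (hr : TwoRank (⊤ : Subgroup G))
    (hS : Split Ω (⊤ : Subgroup G)) {c a : Ω} (hca : c ≠ a) {v : G} (hv : v ∈ swapAt G c a) :
    ∃ Q, Transfer.RankOne.Hyp G Ω c v Q := by
  obtain ⟨Q, hQ⟩ := hS c (cen_top U c)
  have hker : ker Ω (⊤ : Subgroup G) = ⊥ := by
    rw [eq_bot_iff]
    exact fun g hg => Subgroup.mem_bot.2 (FaithfulSMul.eq_of_smul_eq_smul fun x : Ω => by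
      rw [(mem_ker_top U).1 hg x, one_smul])
  have hQle : Q ≤ stabilizer G c := hQ.le.trans inf_le_right
  refine ⟨Q, ⟨?_, mul_self_of_orderOf_two hv.1, ?_, ?_, hQle, ?_, ?_, ?_, ?_, ?_⟩, ?_⟩
  · haveI := U.finite_points
    rw [is_two_pretransitive_iff]
    intro b₁ b₂ c₁ c₂ hb hc
    obtain ⟨g₁, hg₁⟩ := U.exists_smul_eq b₁ c
    obtain ⟨g₂, hg₂⟩ := U.exists_smul_eq c₁ c
    obtain ⟨q, hq, hqe⟩ := hQ.exists_move _ (cen_top U (g₁ • b₂))
      (fun e => hb (smul_left_cancel g₁ (hg₁.trans e.symm))) _ (cen_top U (g₂ • c₂))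
      (fun e => hc (smul_left_cancel g₂ (hg₂.trans e.symm)))
    refine ⟨g₂⁻¹ * q * g₁, ?_, ?_⟩
    · rw [mul_smul, mul_smul, hg₁, mem_stabilizer_iff.1 (hQle hq), ← hg₂, inv_smul_smul]
    · rw [mul_smul, mul_smul, hqe, inv_smul_smul]
  · intro e
    rw [e] at hv
    exact absurd hv.1 (by rw [orderOf_one]; norm_num)
  · intro e
    exact hca ((mem_stabilizer_iff.1 e).symm.trans hv.2)
  · exact fun h hh x hx => hQ.conj_mem h ⟨mem_top h, hh⟩ x hx
  · rw [eq_bot_iff, ← hker, hv.2]
    exact hQ.inf_le a (cen_top U a) hca.symm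
  · rw [hv.2]
    refine le_antisymm (sup_le hQle inf_le_left) fun g hg => ?_
    obtain ⟨q, hq, x, hx, rfl⟩ := U.exists_mul hQ (cen_top U a) hca.symm (mem_top g) (mem_stabilizer_iff.1 hg)
    exact mul_mem (Subgroup.mem_sup_left hq) (Subgroup.mem_sup_right (Subgroup.mem_inf.1 hx).2)
  · obtain ⟨t, ht, htc⟩ := U.invol_at c
    rw [even_iff_two_dvd, ← ht]
    exact Subgroup.orderOf_dvd_natCard _ (U.inv_mem (cen_top_nontrivial U) hQ (mem_top t) ⟨ht, htc⟩)
  · rw [hv.2]
    exact U.odd_pair hca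
  · obtain ⟨x, -, y, -, hx, hy, hxy, hc⟩ := hr
    exact ⟨x, y, fun e => by rw [e, orderOf_one] at hx; norm_num at hx,
      fun e => by rw [e, orderOf_one] at hy; norm_num at hy, hxy, mul_self_of_orderOf_two hx,
      mul_self_of_orderOf_two hy, hc.eq⟩

end Cfsg.Agent.Invol.Bender
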