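import Cfsg.Agent.Lib.Invol.Bender.Count
import Cfsg.Agent.Lib.Grp.Coprime

/-!
# Interfaces of the proof of Bender's theorem

The notions which connect the parts of the proof: improper pairs, the axioms of a goodness predicate on
`p`-subgroups together with what they imply, and the three facts about inverted elements, centralisers and
involutions from which the regular normal subgroup is built.
-/

set_option autoImplicit false

namespace Cfsg.Agent.Invol.Bender

open MulAction Subgroup

universe u

/-- The subgroup generated by the involutions at two points. -/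
def pairGen (G : Type*) {Ω : Type*} [Group G] [MulAction G Ω] (c a : Ω) : Subgroup G :=
  Subgroup.closure (invAt G c ∪ invAt G a)

/-- The involutions at any two points generate the group. -/
def Improper (G Ω : Type*) [Group G] [MulAction G Ω] : Prop :=
  ∀ c a : Ω, c ≠ a → pairGen G c a = ⊤

variable {G : Type*} [Group G]

variable (G) (Ω : Type*) [MulAction G Ω]

/-- The axioms of a goodness predicate. -/
structure Goodness (p : ℕ) (Good : Ω → Subgroup G → Prop) : Prop where
  mono : ∀ (h : Ω) (W W' : Subgroup G), W ≤ W' → IsPGroup p W' → W' ≤ stabilizer G h → Good h W → Good h W'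
  conj : ∀ (g : G) (h : Ω) (W : Subgroup G), W ≤ stabilizer G h → Good h W →
    Good (g • h) (W.map (MulAut.conj g).toMonoidHom)
  cent : ∀ (f x : Ω) (W : Subgroup G) (i : G), IsPGroup p W → W ≤ stabilizer G f → W ≤ stabilizer G x → x ≠ f →
    i ∈ invAt G f → i ∈ Subgroup.normalizer (W : Set G) → ¬ Good f W
  full : ∀ (h k : Ω), h ≠ k → ∀ W : Subgroup G, Grp.IsSylowIn p W (pairStab G h k) → Good h W

/-- What the goodness axioms imply. -/
structure CoreConcl (p : ℕ) (Good : Ω → Subgroup G → Prop) : Prop where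
  two_trans : ∀ c a c' a' : Ω, c ≠ a → c' ≠ a' → ∃ g : G, g • c = c' ∧ g • a = a'
  fix_two : ∀ (h : Ω) (W : Subgroup G), IsPGroup p W → W ≤ stabilizer G h → Good h W →
    ∀ x y : Ω, W ≤ stabilizer G x → W ≤ stabilizer G y → x ≠ h → y ≠ h → x = y
  sylow : ∀ (c a : Ω), c ≠ a → ∀ W : Subgroup G, Grp.IsSylowIn p W (pairStab G c a) →
    Grp.IsSylowIn p W (⊤ : Subgroup G)

/-- Two involutions with a common fixed point commute. -/
def InvComm : Prop := ∀ c : Ω, ∀ s ∈ invAt G c, ∀ t ∈ invAt G c, Commute s t

/-- An element of a pair stabiliser inverted by a swapper fixes only the pair and centralises no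
involution at one of its points. -/
def RealFree : Prop :=
  ∀ c a : Ω, c ≠ a → ∀ v ∈ swapAt G c a, ∀ j ∈ pairStab G c a, v * j * v⁻¹ = j⁻¹ → j ≠ 1 →
    (∀ x : Ω, j • x = x → x = c ∨ x = a) ∧ ∀ t ∈ invAt G c, ¬ Commute j t

/-- The centraliser of a swapper in the pair stabiliser is the centraliser of an involution at the point. -/
def ConjPair : Prop :=
  ∀ c a : Ω, c ≠ a → ∀ v ∈ swapAt G c a, ∃ t ∈ invAt G c, ∀ x ∈ pairStab G c a, Commute x v ↔ Commute x t

/-- The conclusion: a normal subgroup of a point stabiliser, regular on the other points. -/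
def HasRegular (c : Ω) : Prop :=
  ∃ Q : Subgroup G, Q ≤ stabilizer G c ∧ (∀ h ∈ stabilizer G c, ∀ x ∈ Q, h * x * h⁻¹ ∈ Q) ∧
    (∀ x y : Ω, x ≠ c → y ≠ c → ∃ q ∈ Q, q • x = y) ∧ ∀ q ∈ Q, ∀ x : Ω, x ≠ c → q • x = x → q = 1

/-- The inductive hypothesis: the theorem for all groups of smaller order. -/
def Below (n : ℕ) : Prop :=
  ∀ (G' Ω' : Type u) [Group G'] [Finite G'] [MulAction G' Ω'], Nat.card G' < n → Hyp G' Ω' →
    TwoRank (⊤ : Subgroup G') → Split Ω' (⊤ : Subgroup G')

end Cfsg.Agent.Invol.Bender
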