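import Cfsg.Agent.Lib.Invol.Bender.Block
import Cfsg.Agent.Lib.Invol.Bender.Spec

/-!
# The core lemma

A goodness predicate on `p`-subgroups forces good subgroups to fix exactly two points, the Sylow `p`-subgroups of
pair stabilisers to be Sylow subgroups of the group, and double transitivity.
-/

set_option autoImplicit false
set_option linter.unusedSectionVars false

namespace Cfsg.Agent.Invol.Bender

open MulAction Subgroup
open scoped Pointwise

universe u v

variable {G : Type u} [Group G] [Finite G] {Ω : Type v} [MulAction G Ω]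

/-- A commuting pair of involutions at one point puts a group of odd order which they normalise in its stabiliser. -/
theorem le_stabilizer_of_four (U : Hyp G Ω) {x y : G} {e : Ω} (hx : x ∈ invAt G e) (hy : y ∈ invAt G e) (hne : x ≠ y)
    (hxy : Commute x y) :
    ∀ (n : ℕ) (X : Subgroup G), Nat.card X = n → Odd (Nat.card X) → x ∈ normalizer (X : Set G) →
      y ∈ normalizer (X : Set G) → X ≤ stabilizer G e := by
  intro n
  induction n using Nat.strong_induction_on with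
  | _ n ih =>
  intro X hn hX hxX hyX
  by_cases hbot : X = ⊥
  · rw [hbot]; exact bot_le
  have hD := ih _ (hn ▸ card_derived_lt hX hbot) _ rfl
    (hX.of_dvd_nat (Subgroup.card_dvd_of_le (commutator_le_self X))) (mem_normalizer_derived hxX)
    (mem_normalizer_derived hyX)
  have hder : ∀ a ∈ X, ∀ b ∈ X, (a * b * a⁻¹ * b⁻¹) • e = e := fun a ha b hb =>
    mem_stabilizer_iff.1 (hD (Subgroup.commutator_mem_commutator ha hb))
  have hz2 : orderOf (x * y) = 2 := orderOf_two_iff.2 ⟨by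
    calc x * y * (x * y) = x * (y * x) * y := by group
      _ = x * (x * y) * y := by rw [hxy.eq]
      _ = (x * x) * (y * y) := by group
      _ = 1 := by rw [mul_self_of_orderOf_two hx.1, mul_self_of_orderOf_two hy.1, one_mul],
    mul_ne_one_of_ne hx.1 hne⟩
  have hze : (x * y) • e = e := by rw [mul_smul, hy.2, hx.2]
  have hzX : x * y ∈ normalizer (X : Set G) := mul_mem hxX hyX
  have hfix : ∀ a ∈ X, a • e = e → ∀ b ∈ X, (b * a * b⁻¹) • e = e := fun a ha hae b hb => by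
    rw [show b * a * b⁻¹ = (b * a * b⁻¹ * a⁻¹) * a by group, mul_smul, hae, hder b hb a ha]
  intro a ha
  have h1 := invert_mod hx.1 (fun c hc => U.commute_fix hx hc) hX hxX hder ha
  have h2 := invert_mod hy.1 (fun c hc => U.commute_fix hy hc) hX hyX hder ha
  have h3 := invert_mod hz2 (fun c hc => U.commute_fix ⟨hz2, hze⟩ hc) hX hzX hder ha
  -- modulo the stabiliser the product both inverts and centralises `a`
  let Xe : Subgroup X := (stabilizer G e).subgroupOf X
  haveI : Xe.Normal := ⟨fun a ha b => by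
    rw [Subgroup.mem_subgroupOf, mem_stabilizer_iff] at ha ⊢
    simpa using hfix a a.2 ha b b.2⟩
  let π : X →* X ⧸ Xe := QuotientGroup.mk' Xe
  have hπ : ∀ {a : X}, π a = 1 ↔ (a : G) • e = e := fun {a} =>
    (QuotientGroup.eq_one_iff a).trans (by rw [Subgroup.mem_subgroupOf, mem_stabilizer_iff])
  have hya : y * a * y⁻¹ ∈ X := conj_mem_of_normalizer hyX ha
  have hxya : x * (y * a * y⁻¹) * x⁻¹ ∈ X := conj_mem_of_normalizer hxX hya
  have e1 : π ⟨y * a * y⁻¹, hya⟩ * π ⟨a, ha⟩ = 1 := by rw [← map_mul, hπ]; exact h2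
  have e2 : π ⟨x * (y * a * y⁻¹) * x⁻¹, hxya⟩ * π ⟨y * a * y⁻¹, hya⟩ = 1 := by
    rw [← map_mul, hπ]
    exact invert_mod hx.1 (fun c hc => U.commute_fix hx hc) hX hxX hder hya
  have e3 : π ⟨x * (y * a * y⁻¹) * x⁻¹, hxya⟩ * π ⟨a, ha⟩ = 1 := by
    rw [← map_mul, hπ, Subgroup.coe_mul]
    show (x * (y * a * y⁻¹) * x⁻¹ * a) • e = e
    rw [show x * (y * a * y⁻¹) * x⁻¹ = (x * y) * a * (x * y)⁻¹ by group]
    exact h3
  obtain ⟨A, hA⟩ : ∃ A, A = π ⟨a, ha⟩ := ⟨_, rfl⟩
  obtain ⟨B, hB⟩ : ∃ B, B = π ⟨y * a * y⁻¹, hya⟩ := ⟨_, rfl⟩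
  obtain ⟨C, hC⟩ : ∃ C, C = π ⟨x * (y * a * y⁻¹) * x⁻¹, hxya⟩ := ⟨_, rfl⟩
  rw [← hA, ← hB] at e1
  rw [← hB, ← hC] at e2
  rw [← hA, ← hC] at e3
  have hBA : B = A⁻¹ := eq_inv_of_mul_eq_one_left e1
  have hCA : C = A⁻¹ := eq_inv_of_mul_eq_one_left e3
  rw [hBA, hCA, ← mul_inv_rev, inv_eq_one] at e2
  have hA1 : A = 1 := by
    by_contra hne
    have h4 := (hX.of_dvd_nat (Subgroup.card_quotient_dvd_card Xe)).of_dvd_nat (orderOf_dvd_natCard A)
    rw [orderOf_two_iff.2 ⟨e2, hne⟩] at h4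
    exact absurd h4 (by decide)
  rw [hA, hπ] at hA1
  exact mem_stabilizer_iff.2 hA1

namespace Hyp

variable (U : Hyp G Ω)
include U

/-- A group of 2-rank one acting so that no involution fixes a point of `Φ`: each orbit of the odd part is moved by
every involution, all in the same way. -/
theorem exists_orbit_pairing {N : Subgroup G} (hone : BS.TwoRankOne N) {Φ : Set Ω}
    (hinv : ∀ g ∈ N, ∀ x ∈ Φ, g • x ∈ Φ) (hfree : ∀ i ∈ N, orderOf i = 2 → ∀ x ∈ Φ, i • x ≠ x) :
    ∃ O : Subgroup G, O ≤ N ∧ Odd (Nat.card O) ∧ N ≤ normalizer (O : Set G) ∧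
      (∀ i ∈ N, orderOf i = 2 → ∀ j ∈ N, orderOf j = 2 → i * j ∈ O) ∧
      (∀ i ∈ N, orderOf i = 2 → ∀ g ∈ N, i * g * i⁻¹ * g⁻¹ ∈ O) ∧
      ∀ i ∈ N, orderOf i = 2 → ∀ x ∈ Φ, i • x ∉ orbit O x := by
  classical
  by_cases hex : ∃ z ∈ N, orderOf z = 2
  swap
  · push Not at hex
    exact ⟨⊥, bot_le, by simp, le_top.trans (Subgroup.normalizer_eq_top (H := (⊥ : Subgroup G))).ge,
      fun i hi hi2 => absurd hi2 (hex i hi), fun i hi hi2 => absurd hi2 (hex i hi),
      fun i hi hi2 => absurd hi2 (hex i hi)⟩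
  obtain ⟨z, hz, hz2⟩ := hex
  obtain ⟨K, hKn, hKodd, hKz⟩ := BS.exists_odd_normal hone (z := (⟨z, hz⟩ : N)) (by rw [← orderOf_coe]; exact hz2)
  haveI := hKn
  have hcentral : ∀ i : N, orderOf i = 2 → i * (⟨z, hz⟩ : N) ∈ K := by
    intro i hi
    -- the square and the order of the product
    obtain ⟨m, hm⟩ := BS.odd_orderOf_mul hone hi (v := (⟨z, hz⟩ : N)) (by rw [← orderOf_coe]; exact hz2)
    have hsq : (i * (⟨z, hz⟩ : N)) ^ 2 ∈ K := by
      have h1 := hKz i⁻¹
      have e : (i * (⟨z, hz⟩ : N)) ^ 2 = i * ((⟨z, hz⟩ : N) * i⁻¹ * (⟨z, hz⟩ : N)⁻¹ * i⁻¹⁻¹) * i⁻¹ := by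
        rw [pow_two, inv_of_orderOf_two hi, inv_of_orderOf_two hi,
          inv_of_orderOf_two (show orderOf (⟨z, hz⟩ : N) = 2 by rw [← orderOf_coe]; exact hz2)]
        simp only [mul_assoc, mul_self_of_orderOf_two hi, mul_one]
      rw [e]
      exact hKn.conj_mem _ h1 i
    have : i * (⟨z, hz⟩ : N) = ((i * (⟨z, hz⟩ : N)) ^ 2) ^ (m + 1) := by
      rw [← pow_mul, show 2 * (m + 1) = orderOf (i * (⟨z, hz⟩ : N)) + 1 by omega, pow_succ, pow_orderOf_eq_one,
        one_mul]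
    rw [this]
    exact pow_mem hsq _
  obtain ⟨O, hO⟩ : ∃ O, O = K.map N.subtype := ⟨_, rfl⟩
  have hOodd : Odd (Nat.card O) := by
    rw [hO, Subgroup.card_map_of_injective N.subtype_injective]; exact hKodd
  have hNO : N ≤ normalizer (O : Set G) := fun x hx => mem_normalizer_fintype fun y hy => by
    rw [hO] at hy ⊢
    obtain ⟨w, hw, rfl⟩ := hy
    exact ⟨⟨x, hx⟩ * w * ⟨x, hx⟩⁻¹, hKn.conj_mem w hw _, rfl⟩
  have hcoe : ∀ (i : G) (hi : i ∈ N), orderOf i = 2 → orderOf (⟨i, hi⟩ : N) = 2 := fun i hi h => by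
    rw [← orderOf_coe]; exact h
  have hprod : ∀ i ∈ N, orderOf i = 2 → i * z ∈ O := fun i hi h => hO ▸ ⟨_, hcentral ⟨i, hi⟩ (hcoe i hi h), rfl⟩
  have hall : ∀ i ∈ N, orderOf i = 2 → ∀ j ∈ N, orderOf j = 2 → i * j ∈ O := fun i hi h j hj h' => by
    have h1 := O.mul_mem (hprod i hi h) (O.inv_mem (hprod j hj h'))
    rwa [mul_inv_rev, inv_of_orderOf_two hz2, inv_of_orderOf_two h', mul_assoc, ← mul_assoc z z,
      mul_self_of_orderOf_two hz2, one_mul] at h1
  have hON : O ≤ N := hO ▸ map_subtype_le K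
  refine ⟨O, hON, hOodd, hNO, hall, fun i hi h g hg => ?_, fun i hi h x hx hmem => ?_⟩
  · have h1 := hall i hi h (g * i * g⁻¹) (mul_mem (mul_mem hg hi) (N.inv_mem hg)) ((orderOf_conj_eq g i).trans h)
    convert h1 using 1
    rw [inv_of_orderOf_two h]
    group
  · -- an involution normalising an orbit of odd size fixes one of its points
    haveI : Fact (Nat.Prime 2) := ⟨Nat.prime_two⟩
    haveI := U.finite_points
    obtain ⟨S, hS⟩ : ∃ S, S = orbit O x := ⟨_, rfl⟩
    rw [← hS] at hmem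
    have hi' : ∀ y ∈ S, i • y ∈ S := by
      intro y hy
      rw [hS] at hy hmem ⊢
      obtain ⟨⟨o, ho⟩, rfl⟩ := hy
      obtain ⟨⟨q, hq⟩, hq'⟩ := hmem
      refine ⟨⟨i * o * i⁻¹ * q, O.mul_mem (conj_mem_of_normalizer (hNO hi) ho) hq⟩, ?_⟩
      show (i * o * i⁻¹ * q) • x = i • (o • x)
      rw [mul_smul, show q • x = i • x from hq', conj_smul_smul]
    have hfreeS : ∀ y ∈ S, i • y ≠ y := fun y hy => by
      rw [hS] at hy
      obtain ⟨⟨o, ho⟩, rfl⟩ := hy
      exact hfree i hi h _ (hinv o (hON ho) x hx)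
    have hodd : Odd (Nat.card S) := by
      rw [hS, Nat.card_congr (orbitEquivQuotientStabilizer O x), ← Subgroup.index_eq_card]
      exact hOodd.of_dvd_nat (Subgroup.index_dvd_card _)
    have := Fintype.ofFinite S
    have h0 : ∑ _y : S, (1 : ZMod 2) = 0 :=
      Finset.sum_involution (fun y _ => ⟨i • (y : Ω), hi' y y.2⟩) (fun _ _ => CharTwo.add_self_eq_zero _)
        (fun y _ _ e => hfreeS y y.2 (congrArg Subtype.val e)) (fun _ _ => Finset.mem_univ _)
        (fun y _ => Subtype.ext (by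
          show i • i • (y : Ω) = y
          rw [← mul_smul, mul_self_of_orderOf_two h, one_smul]))
    simp only [Finset.sum_const, Finset.card_univ, nsmul_one] at h0
    rw [Nat.card_eq_fintype_card] at hodd
    obtain ⟨k, hk⟩ := hodd
    rw [hk] at h0
    push_cast at h0
    rw [show (2 : ZMod 2) = 0 from rfl, zero_mul, zero_add] at h0
    exact one_ne_zero h0

end Hyp

/-- The points fixed by a subgroup. -/
def fixSet (W : Subgroup G) : Set Ω := {x | W ≤ stabilizer G x}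

theorem smul_mem_fixSet {W : Subgroup G} {g : G} (hg : g ∈ normalizer (W : Set G)) {x : Ω}
    (hx : x ∈ fixSet W) : g • x ∈ fixSet W := fun w hw => by
  have h1 := mem_stabilizer_iff.1 (hx (conj_mem_of_normalizer' hg hw))
  rw [mul_smul, mul_smul, inv_smul_eq_iff] at h1
  exact mem_stabilizer_iff.2 h1

theorem map_conj_eq {W : Subgroup G} {g : G} (hg : g ∈ normalizer (W : Set G)) :
    W.map (MulAut.conj g).toMonoidHom = W := by
  refine le_antisymm ?_ ?_
  · rintro _ ⟨x, hx, rfl⟩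
    exact conj_mem_of_normalizer hg hx
  · exact fun x hx => ⟨g⁻¹ * x * g, conj_mem_of_normalizer' hg hx, by simp [mul_assoc]⟩

theorem eq_of_perm_pair {g : G} (hodd : Odd (orderOf g)) {c a : Ω}
    (hc : g • c = c ∨ g • c = a) (ha : g • a = c ∨ g • a = a) : g • c = c ∧ g • a = a := by
  have key : ∀ {x y : Ω}, g • x = y → g • y = x → x = y := by
    intro x y hxy hyx
    obtain ⟨k, hk⟩ := hodd
    have h2 : ∀ j : ℕ, (g ^ (2 * j)) • x = x := by
      intro j
      induction j with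
      | zero => simp
      | succ j ih => rw [show 2 * (j + 1) = 1 + (1 + 2 * j) by ring, pow_add, pow_add, pow_one, mul_smul, mul_smul,
          ih, hxy, hyx]
    have h3 := congrArg (g • ·) (h2 k)
    simp only [← mul_smul, ← pow_succ', ← hk, pow_orderOf_eq_one, one_smul] at h3
    rw [h3, hxy]
  rcases hc with hc | hc
  · rcases ha with ha | ha
    · have := smul_left_cancel g (hc.trans ha.symm)
      exact ⟨hc, by rw [← this, hc]⟩
    · exact ⟨hc, ha⟩
  · rcases ha with ha | ha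
    · obtain rfl := key hc ha
      exact ⟨hc, ha⟩
    · have := smul_left_cancel g (hc.trans ha.symm)
      exact ⟨by rw [this, ha], ha⟩

variable {p : ℕ} [hp : Fact p.Prime]

/-- A subgroup which is not Sylow in an overgroup is properly contained in a `p`-subgroup of the normaliser there. -/
theorem exists_larger {W D : Subgroup G} (hW : IsPGroup p W) (hWD : W ≤ D) (hnot : ¬ Grp.IsSylowIn p W D) :
    ∃ Z : Subgroup G, W < Z ∧ Z ≤ D ∧ IsPGroup p Z ∧ Z ≤ normalizer (W : Set G) := by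
  obtain ⟨S, hS⟩ := (hW.of_equiv (subgroupOfEquivOfLe hWD).symm).exists_le_sylow
  obtain ⟨R, hR⟩ : ∃ R, R = (S : Subgroup D).map D.subtype := ⟨_, rfl⟩
  have hWR : W ≤ R := fun x hx => hR ▸ ⟨⟨x, hWD hx⟩, hS (mem_subgroupOf.2 hx), rfl⟩
  have hRp : IsPGroup p R := hR ▸ S.isPGroup'.map _
  have hRD : R ≤ D := hR ▸ map_subtype_le _
  refine ⟨R ⊓ normalizer (W : Set G), lt_of_le_of_ne (le_inf hWR le_normalizer) fun e => hnot ?_,
    inf_le_left.trans hRD, hRp.to_le inf_le_left, inf_le_right⟩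
  have hWR' : W = R := by
    refine le_antisymm hWR ?_
    haveI := hRp.isNilpotent
    have h1 : W.subgroupOf R = ⊤ := by
      by_contra hne
      have hlt' := Group.normalizerCondition_of_isNilpotent (G := R) (W.subgroupOf R) (lt_top_iff_ne_top.2 hne)
      refine hlt'.not_ge fun x hx => ?_
      rw [mem_subgroupOf, e]
      refine ⟨x.2, mem_normalizer_fintype fun y hy => ?_⟩
      exact mem_subgroupOf.1 (conj_mem_of_normalizer hx (x := ⟨y, hWR hy⟩) (mem_subgroupOf.2 hy))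
    exact subgroupOf_eq_top.1 h1
  rw [hWR', hR]
  exact Grp.isSylowIn_iff.2 ⟨S, rfl⟩

variable (U : Hyp G Ω)
include U

/-- A Sylow subgroup of a pair stabiliser is normalised by a swapper. -/
theorem exists_swapper_normalizer {c a : Ω} (hca : c ≠ a) {W : Subgroup G}
    (hW : Grp.IsSylowIn p W (pairStab G c a)) :
    ∃ w ∈ swapAt G c a, w ∈ normalizer (W : Set G) := by
  obtain ⟨w₀, hw₀⟩ := U.exists_swap_pair hca
  have hw₀n : w₀ ∈ normalizer (pairStab G c a : Set G) := mem_normalizer_fintype fun y hy => by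
    obtain ⟨h1, h2⟩ := mem_pair.1 hy
    refine mem_pair.2 ⟨?_, ?_⟩
    · conv_lhs => rw [← swap_symm hw₀.1 hw₀.2]
      rw [conj_smul_smul, h2, swap_symm hw₀.1 hw₀.2]
    · conv_lhs => rw [← hw₀.2]
      rw [conj_smul_smul, h1, hw₀.2]
  obtain ⟨Y₀, hY₀, hwY₀⟩ := Grp.exists_invariant_sylow (Subgroup.zpowers w₀) (pairStab G c a)
    (zpowers_le_normalizer hw₀n) (coprime_two_odd hw₀.1 (U.odd_pair hca)) (Or.inl inferInstance) p
  obtain ⟨y, hy, hyY⟩ := hY₀.conj hW
  obtain ⟨hyc, hya⟩ := mem_pair.1 hy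
  refine ⟨y * w₀ * y⁻¹, ⟨(orderOf_conj_eq y w₀).trans hw₀.1, ?_⟩, mem_normalizer_fintype fun z hz => ?_⟩
  · conv_lhs => rw [← hyc]
    rw [conj_smul_smul, hw₀.2, hya]
  · rw [← hyY] at hz ⊢
    obtain ⟨z₀, hz₀, rfl⟩ := hz
    refine ⟨w₀ * z₀ * w₀⁻¹, conj_mem_of_normalizer (hwY₀ (mem_zpowers w₀)) hz₀, ?_⟩
    simp [mul_assoc]

variable {Good : Ω → Subgroup G → Prop}

/-- The centre of an involution normalising a Sylow subgroup of a pair it interchanges is moved by it. -/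
theorem centre_moved (hg : Goodness G Ω p Good) {i : G} {e c : Ω} (hi : i ∈ invAt G e) (hce : c ≠ e)
    {W : Subgroup G} (hW : Grp.IsSylowIn p W (pairStab G c (i • c))) (hiW : i ∈ normalizer (W : Set G)) :
    ¬ W ≤ stabilizer G e := by
  intro hWe
  have hcb : c ≠ i • c := fun h => hce (U.fix_eq hi h.symm)
  have hWc : W ≤ stabilizer G c := hW.1.trans inf_le_left
  have hle : W ≤ pairStab G e c := le_inf hWe hWc
  have hcard : Nat.card (pairStab G c (i • c)) = Nat.card (pairStab G e c) := U.card_triangle hi.1 hi.2 rfl hcb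
  refine hg.cent e c W i hW.2.1 hWe hWc hce hi hiW (hg.full e c hce.symm W ⟨hle, hW.2.1, ?_⟩)
  have h1 := Subgroup.card_mul_index (W.subgroupOf (pairStab G e c))
  have h2 := Subgroup.card_mul_index (W.subgroupOf (pairStab G c (i • c)))
  rw [Nat.card_congr (subgroupOfEquivOfLe hle).toEquiv] at h1
  rw [Nat.card_congr (subgroupOfEquivOfLe hW.1).toEquiv, hcard, ← h1] at h2
  show ¬ p ∣ (W.subgroupOf (pairStab G e c)).index
  rw [← Nat.eq_of_mul_eq_mul_left Nat.card_pos h2]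
  exact hW.2.2

/-- A group of 2-rank two cannot normalise a `p`-group whose fixed points avoid the centres. -/
theorem twoRankOne_normalizer (hp2 : p ≠ 2) {W : Subgroup G} (hW : IsPGroup p W)
    (hfree : ∀ i ∈ normalizer (W : Set G), orderOf i = 2 → ∀ x : Ω, W ≤ stabilizer G x → i • x ≠ x) :
    BS.TwoRankOne (normalizer (W : Set G)) := by
  intro x y hx hy hxy
  by_contra hne
  obtain ⟨e, he⟩ := U.exists_fix (x : G) ((orderOf_coe x).trans hx)
  have hye : (y : G) • e = e :=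
    U.fix_of_commute ((orderOf_coe x).trans hx) he (congrArg Subtype.val hxy.eq.symm)
  have hodd : Odd (Nat.card W) := by
    obtain ⟨n, hn⟩ := IsPGroup.iff_card.1 hW
    rw [hn]
    exact (hp.out.odd_of_ne_two hp2).pow
  have h1 := le_stabilizer_of_four U ⟨(orderOf_coe x).trans hx, he⟩ ⟨(orderOf_coe y).trans hy, hye⟩
    (fun h => hne (Subtype.ext h)) (congrArg Subtype.val hxy.eq) _ W rfl hodd x.2 y.2
  exact hfree x x.2 ((orderOf_coe x).trans hx) e h1 he

/-- A Sylow subgroup of a pair stabiliser of largest order fixes exactly the pair. -/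
theorem fix_two_of_max (hp2 : p ≠ 2) (hg : Goodness G Ω p Good) {c a : Ω} (hca : c ≠ a) {P : Subgroup G}
    (hP : Grp.IsSylowIn p P (pairStab G c a))
    (hmax : ∀ c' a' : Ω, c' ≠ a' → ∀ P', Grp.IsSylowIn p P' (pairStab G c' a') → Nat.card P' ≤ Nat.card P)
    {x : Ω} (hx : P ≤ stabilizer G x) : x = c ∨ x = a := by
  have hex : ∀ y z : Ω, y ≠ z → P ≤ stabilizer G y → P ≤ stabilizer G z → Grp.IsSylowIn p P (pairStab G y z) := by
    intro y z hyz hy hz
    by_contra hnot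
    obtain ⟨Z, hlt, hZD, hZp, -⟩ := exists_larger hP.2.1 (show P ≤ pairStab G y z from le_inf hy hz) hnot
    obtain ⟨S, hS⟩ := (hZp.of_equiv (subgroupOfEquivOfLe hZD).symm).exists_le_sylow
    have h1 := hmax y z hyz _ (Grp.isSylowIn_iff.2 ⟨S, rfl⟩)
    have h2 : Nat.card Z ≤ Nat.card ((S : Subgroup (pairStab G y z)).map (pairStab G y z).subtype) :=
      Subgroup.card_le_of_le (fun w hw => ⟨⟨w, hZD hw⟩, hS (mem_subgroupOf.2 hw), rfl⟩)
    exact hlt.ne (Subgroup.eq_of_le_of_card_ge hlt.le (h2.trans h1))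
  have hPc : P ≤ stabilizer G c := hP.1.trans inf_le_left
  have hPa : P ≤ stabilizer G a := hP.1.trans inf_le_right
  obtain ⟨N, hN⟩ : ∃ N, N = normalizer (P : Set G) := ⟨_, rfl⟩
  have hfree : ∀ i ∈ normalizer (P : Set G), orderOf i = 2 → ∀ y : Ω, P ≤ stabilizer G y → i • y ≠ y := by
    intro i hi hi2 y hy hiy
    obtain ⟨z, hz, hzy⟩ : ∃ z, P ≤ stabilizer G z ∧ z ≠ y := by
      rcases eq_or_ne c y with h | h
      · exact ⟨a, hPa, h ▸ hca.symm⟩
      · exact ⟨c, hPc, h⟩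
    exact hg.cent y z P i hP.2.1 hy hz hzy ⟨hi2, hiy⟩ hi (hg.full y z hzy.symm P (hex y z hzy.symm hy hz))
  obtain ⟨O, hON, -, -, hall, -, hpair⟩ := U.exists_orbit_pairing (twoRankOne_normalizer U hp2 hP.2.1 hfree)
    (Φ := fixSet P) (fun g hg' y hy => smul_mem_fixSet hg' hy) hfree
  -- the odd part is trivial on the fixed points
  have hO : ∀ o ∈ O, ∀ y ∈ fixSet (Ω := Ω) P, o • y = y := by
    intro o ho y hy
    by_contra hne
    have hoy : o • y ∈ fixSet P := smul_mem_fixSet (hON ho) hy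
    obtain ⟨w, hw, hwP⟩ := exists_swapper_normalizer U (Ne.symm hne) (hex y _ (Ne.symm hne) hy hoy)
    exact hpair w hwP hw.1 y hy ⟨⟨o, ho⟩, hw.2.symm⟩
  by_contra hcon
  push Not at hcon
  obtain ⟨w, hw, hwP⟩ := exists_swapper_normalizer U hca hP
  obtain ⟨w', hw', hw'P⟩ := exists_swapper_normalizer U hcon.1.symm (hex c x hcon.1.symm hPc hx)
  refine hcon.2 ?_
  have h1 := hO _ (hall w' hw'P hw'.1 w hwP hw.1) a hPa
  rw [mul_smul, swap_symm hw.1 hw.2, hw'.2] at h1
  exact h1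

/-- A pair Sylow subgroup fixing exactly the pair is a Sylow subgroup of the group. -/
theorem sylow_top_of_fix_two (hp2 : p ≠ 2) {c a : Ω} {P : Subgroup G}
    (hP : Grp.IsSylowIn p P (pairStab G c a))
    (hfix : ∀ x : Ω, P ≤ stabilizer G x → x = c ∨ x = a) : Grp.IsSylowIn p P (⊤ : Subgroup G) := by
  by_contra hnot
  obtain ⟨Z, hlt, -, hZp, hZn⟩ := exists_larger hP.2.1 le_top hnot
  have hZD : Z ≤ pairStab G c a := fun z hz => by
    have hzodd : Odd (orderOf z) := by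
      obtain ⟨n, hn⟩ := IsPGroup.iff_card.1 hZp
      exact ((hp.out.odd_of_ne_two hp2).pow (n := n)).of_dvd_nat (hn ▸ Subgroup.orderOf_dvd_natCard _ hz)
    exact mem_pair.2 (eq_of_perm_pair hzodd
      (hfix _ (smul_mem_fixSet (hZn hz) (hP.1.trans inf_le_left)))
      (hfix _ (smul_mem_fixSet (hZn hz) (hP.1.trans inf_le_right))))
  exact hlt.ne (hP.eq_of_le hlt.le hZD hZp)

/-- A good subgroup fixes at most one point besides the one where it is good. -/
theorem good_fix_two (hp2 : p ≠ 2) (hg : Goodness G Ω p Good) {h₀ : Ω} {W₀ : Subgroup G} (hW₀ : IsPGroup p W₀)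
    (hh₀ : W₀ ≤ stabilizer G h₀) (hG₀ : Good h₀ W₀) {x₀ y₀ : Ω} (hx₀ : W₀ ≤ stabilizer G x₀)
    (hy₀ : W₀ ≤ stabilizer G y₀) (hxh₀ : x₀ ≠ h₀) (hyh₀ : y₀ ≠ h₀) : x₀ = y₀ := by
  classical
  by_contra hne₀
  let P : Subgroup G → Prop := fun W => IsPGroup p W ∧ ∃ h x y : Ω, W ≤ stabilizer G h ∧ Good h W ∧
    W ≤ stabilizer G x ∧ W ≤ stabilizer G y ∧ x ≠ h ∧ y ≠ h ∧ x ≠ y
  obtain ⟨W, hW, hmax⟩ : ∃ W, P W ∧ ∀ Z, P Z → Nat.card Z ≤ Nat.card W := by
    obtain ⟨W, hW, hm⟩ := Set.exists_max_image {W : Subgroup G | P W} (fun W => Nat.card W) (Set.toFinite _)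
      ⟨W₀, hW₀, h₀, x₀, y₀, hh₀, hG₀, hx₀, hy₀, hxh₀, hyh₀, hne₀⟩
    exact ⟨W, hW, hm⟩
  obtain ⟨hWp, h, x, y, hWh, hGood, hWx, hWy, hxh, hyh, hxy⟩ := hW
  -- a larger group fixing the good point fixes at most one other point
  have hbig : ∀ Z : Subgroup G, W < Z → IsPGroup p Z → Z ≤ stabilizer G h → ∀ k l : Ω, k ≠ h → l ≠ h →
      Z ≤ stabilizer G k → Z ≤ stabilizer G l → k = l := by
    intro Z hlt hZp hZh k l hk hl hZk hZl
    by_contra hkl
    have h1 := hmax Z ⟨hZp, h, k, l, hZh, hg.mono h W Z hlt.le hZp hZh hGood, hZk, hZl, hk, hl, hkl⟩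
    exact hlt.ne (Subgroup.eq_of_le_of_card_ge hlt.le h1)
  obtain ⟨N, hN⟩ : ∃ N, N = normalizer (W : Set G) := ⟨_, rfl⟩
  -- a pair at the good point in which `W` is not Sylow gives a Sylow subgroup of `N`
  have hnonex : ∀ k : Ω, k ≠ h → W ≤ stabilizer G k → ¬ Grp.IsSylowIn p W (pairStab G h k) →
      ∃ Y : Subgroup G, W < Y ∧ Grp.IsSylowIn p Y N ∧ Y ≤ pairStab G h k ∧
        ∀ l, Y ≤ stabilizer G l → l = h ∨ l = k := by
    intro k hk hWk hnot
    obtain ⟨Z, hlt, hZD, hZp, hZn⟩ := exists_larger hWp (show W ≤ pairStab G h k from le_inf hWh hWk) hnot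
    obtain ⟨S, hS⟩ := (hZp.of_equiv (subgroupOfEquivOfLe (le_inf hZn hZD :
      Z ≤ normalizer (W : Set G) ⊓ pairStab G h k)).symm).exists_le_sylow
    obtain ⟨Y, hY⟩ : ∃ Y, Y = (S : Subgroup ↥(normalizer (W : Set G) ⊓ pairStab G h k)).map
      (normalizer (W : Set G) ⊓ pairStab G h k).subtype := ⟨_, rfl⟩
    have hZY : Z ≤ Y := fun z hz => hY ▸ ⟨⟨z, le_inf hZn hZD hz⟩, hS (mem_subgroupOf.2 hz), rfl⟩
    have hYS : Grp.IsSylowIn p Y (normalizer (W : Set G) ⊓ pairStab G h k) :=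
      Grp.isSylowIn_iff.2 ⟨S, hY.symm⟩
    have hWY : W < Y := lt_of_lt_of_le hlt hZY
    have hfix : ∀ l, Y ≤ stabilizer G l → l = h ∨ l = k := fun l hl => by
      by_contra hcon
      push Not at hcon
      exact hcon.2 (hbig Y hWY hYS.2.1 (hYS.1.trans (inf_le_right.trans inf_le_left)) l k hcon.1 hk hl
        (hYS.1.trans (inf_le_right.trans inf_le_right)))
    refine ⟨Y, hWY, ?_, hYS.1.trans inf_le_right, hfix⟩
    by_contra hnS
    obtain ⟨Z', hlt', hZN, hZ'p, hZ'n⟩ := exists_larger hYS.2.1 (hN ▸ hYS.1.trans inf_le_left) hnS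
    refine hlt'.ne (hYS.eq_of_le hlt'.le (le_inf (hN ▸ hZN) fun z hz => ?_) hZ'p)
    have hzodd : Odd (orderOf z) := by
      obtain ⟨n, hn⟩ := IsPGroup.iff_card.1 hZ'p
      exact ((hp.out.odd_of_ne_two hp2).pow (n := n)).of_dvd_nat (hn ▸ Subgroup.orderOf_dvd_natCard _ hz)
    exact mem_pair.2 (eq_of_perm_pair hzodd
      (hfix _ (smul_mem_fixSet (hZ'n hz) (hYS.1.trans (inf_le_right.trans inf_le_left))))
      (hfix _ (smul_mem_fixSet (hZ'n hz) (hYS.1.trans (inf_le_right.trans inf_le_right)))))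
  have hexact : ∀ k : Ω, k ≠ h → Grp.IsSylowIn p W (pairStab G h k) →
      ∃ w ∈ N, orderOf w = 2 ∧ w • h = k := fun k hk hS => by
    obtain ⟨w, hw, hwn⟩ := exists_swapper_normalizer U hk.symm hS
    exact ⟨w, hN ▸ hwn, hw.1, hw.2⟩
  -- no centre among the fixed points
  have hfree : ∀ i ∈ normalizer (W : Set G), orderOf i = 2 → ∀ f : Ω, W ≤ stabilizer G f → i • f ≠ f := by
    intro i hi hi2 f hWf hif
    obtain ⟨o, hWo, hof⟩ : ∃ o, W ≤ stabilizer G o ∧ o ≠ f := by
      rcases eq_or_ne x f with h1 | h1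
      · exact ⟨y, hWy, h1 ▸ hxy.symm⟩
      · exact ⟨x, hWx, h1⟩
    have hcentf : ¬ Good f W := hg.cent f o W i hWp hWf hWo hof ⟨hi2, hif⟩ hi
    have hfh : f ≠ h := fun e => hcentf (e ▸ hGood)
    have hih : i • h ≠ h := fun e => hfh (U.fix_unique i hi2 f h hif e)
    have hWih : W ≤ stabilizer G (i • h) := smul_mem_fixSet hi hWh
    obtain ⟨Y₁, -, hY₁, hY₁le, hY₁fix⟩ := hnonex f hfh hWf fun hS => hcentf (hg.full f h hfh W (by
      rwa [show pairStab G f h = pairStab G h f from inf_comm _ _]))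
    obtain ⟨Y₂, -, hY₂, hY₂le, hY₂fix⟩ := hnonex (i • h) hih hWih fun hS =>
      centre_moved U hg ⟨hi2, hif⟩ hfh.symm hS hi hWf
    obtain ⟨g, hgN, hg12⟩ := hY₁.conj hY₂
    have hgn : g ∈ normalizer (W : Set G) := hN ▸ hgN
    have hmove : ∀ z, Y₁ ≤ stabilizer G z → g • z = h ∨ g • z = i • h := fun z hz => by
      refine hY₂fix _ fun w hw => ?_
      rw [← hg12] at hw
      obtain ⟨w₀, hw₀, rfl⟩ := hw
      show (g * w₀ * g⁻¹) • (g • z) = g • z
      rw [conj_smul_smul, mem_stabilizer_iff.1 (hz hw₀)]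
    -- hence `f` is in the orbit of the good point
    obtain ⟨n, hn, hnh⟩ : ∃ n ∈ normalizer (W : Set G), n • h = f := by
      rcases hmove f (hY₁le.trans inf_le_right) with h1 | h1
      · exact ⟨g⁻¹, inv_mem hgn, by rw [← h1, inv_smul_smul]⟩
      · exact ⟨g⁻¹ * i, mul_mem (inv_mem hgn) hi, by rw [mul_smul, ← h1, inv_smul_smul]⟩
    refine hcentf ?_
    have h3 := hg.conj n h W hWh hGood
    rwa [map_conj_eq hn, hnh] at h3
  obtain ⟨O, hON, hOodd, hNO, hall, hcomm, hpair⟩ :=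
    U.exists_orbit_pairing (twoRankOne_normalizer U hp2 hWp hfree)
      (Φ := fixSet W) (fun g hg' z hz => smul_mem_fixSet hg' hz) hfree
  haveI := U.finite_points
  by_cases hinv : ∃ z ∈ N, orderOf z = 2
  · obtain ⟨z, hzN, hz2⟩ := hinv
    have hzn : z ∈ normalizer (W : Set G) := hN ▸ hzN
    -- every other fixed point is in the partner orbit
    have hpart : ∀ k, k ≠ h → W ≤ stabilizer G k → k ∈ orbit O (z • h) := by
      intro k hk hWk
      by_cases hS : Grp.IsSylowIn p W (pairStab G h k)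
      · obtain ⟨w, hw, hw2, hwh⟩ := hexact k hk hS
        exact ⟨⟨w * z, hall w (hN ▸ hw) hw2 z hzn hz2⟩, by
          show (w * z) • (z • h) = k
          rw [mul_smul, ← mul_smul z z, mul_self_of_orderOf_two hz2, one_smul, hwh]⟩
      by_contra hk1
      obtain ⟨Y, -, hY, hYle, hYfix⟩ := hnonex k hk hWk hS
      have hYn : Y ≤ normalizer (W : Set G) := hN ▸ hY.1
      have hYh : Y ≤ stabilizer G h := hYle.trans inf_le_left
      -- `Y` acts on the orbit of a point it fixes modulo `O`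
      have hcount : ∀ q, q ∈ fixSet (Ω := Ω) W → (∀ w ∈ Y, w • q ∈ orbit O q) →
          Nat.card (orbit O q) ≡ Nat.card {l : orbit O q | Y ≤ stabilizer G (l : Ω)} [MOD p] := by
        intro q hq hwq
        let act : MulAction Y (orbit O q) :=
          { smul := fun w l => ⟨(w : G) • (l : Ω), by
              obtain ⟨⟨o, ho⟩, hl⟩ := l.2
              obtain ⟨⟨r, hr⟩, hr'⟩ := hwq w w.2
              refine ⟨⟨(w : G) * o * (w : G)⁻¹ * r, O.mul_mem (conj_mem_of_normalizer (hNO (hYn w.2)) ho) hr⟩, ?_⟩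
              show ((w : G) * o * (w : G)⁻¹ * r) • q = (w : G) • (l : Ω)
              rw [mul_smul, show r • q = (w : G) • q from hr', conj_smul_smul, show o • q = l from hl]⟩
            one_smul := fun l => Subtype.ext (one_smul G (l : Ω))
            mul_smul := fun w w' l => Subtype.ext (mul_smul (w : G) (w' : G) (l : Ω)) }
        letI := act
        have h1 := hY.2.1.card_modEq_card_fixedPoints (orbit O q)
        have e : fixedPoints Y (orbit O q) = {l : orbit O q | Y ≤ stabilizer G (l : Ω)} := by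
          ext l
          exact ⟨fun hl w hw => mem_stabilizer_iff.2 (congrArg Subtype.val (hl ⟨w, hw⟩)),
            fun hl w => Subtype.ext (mem_stabilizer_iff.1 (hl w.2))⟩
        rw [e] at h1
        exact h1
      have hYz : ∀ w ∈ Y, w • (z • h) ∈ orbit O (z • h) := fun w hw => by
        refine ⟨⟨w * z * w⁻¹ * z⁻¹, ?_⟩, ?_⟩
        · have h1 := O.inv_mem (hcomm z hzn hz2 w (hYn hw))
          simpa [mul_assoc] using h1
        · show (w * z * w⁻¹ * z⁻¹) • (z • h) = w • (z • h)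
          conv_rhs => rw [show h = w⁻¹ • h from (inv_smul_eq_iff.2 (mem_stabilizer_iff.1 (hYh hw)).symm).symm]
          rw [mul_smul (w * z * w⁻¹) z⁻¹, inv_smul_smul, mul_smul, mul_smul]
      have h0 := hcount h hWh fun w hw => by
        rw [mem_stabilizer_iff.1 (hYh hw)]; exact mem_orbit_self h
      have h1 := hcount (z • h) (smul_mem_fixSet hzn hWh) hYz
      have hcard : Nat.card (orbit O (z • h)) = Nat.card (orbit O h) := by
        refine Nat.card_congr (Equiv.symm ((MulAction.toPerm z).subtypeEquiv fun l => ?_))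
        constructor
        · rintro ⟨⟨o, ho⟩, rfl⟩
          exact ⟨⟨z * o * z⁻¹, conj_mem_of_normalizer (hNO hzn) ho⟩, conj_smul_smul z o h⟩
        · rintro ⟨⟨o, ho⟩, hl⟩
          refine ⟨⟨z⁻¹ * o * z, conj_mem_of_normalizer' (hNO hzn) ho⟩, ?_⟩
          show (z⁻¹ * o * z) • h = l
          rw [mul_smul, mul_smul, inv_smul_eq_iff]
          exact hl
      have hz0 : Nat.card {l : orbit O (z • h) | Y ≤ stabilizer G (l : Ω)} = 0 := by
        rw [Nat.card_eq_zero]
        refine Or.inl ⟨fun ⟨l, hl⟩ => ?_⟩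
        rcases hYfix l hl with e | e
        · refine hpair z hzn hz2 h hWh ?_
          obtain ⟨⟨o, ho⟩, hl'⟩ := l.2
          exact ⟨⟨o⁻¹, O.inv_mem ho⟩, by
            show o⁻¹ • h = z • h
            rw [inv_smul_eq_iff]; exact e.symm.trans hl'.symm⟩
        · exact hk1 (e ▸ l.2)
      have hh1 : Nat.card {l : orbit O h | Y ≤ stabilizer G (l : Ω)} = 1 ∨
          Nat.card {l : orbit O h | Y ≤ stabilizer G (l : Ω)} = 2 := by
        by_cases hk0 : k ∈ orbit O h
        · refine Or.inr (Nat.card_eq_two_iff.2 ⟨⟨⟨h, mem_orbit_self h⟩, hYh⟩, ⟨⟨k, hk0⟩, hYle.trans inf_le_right⟩,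
            fun e => hk (congrArg (fun l => ((l : orbit O h) : Ω)) (congrArg Subtype.val e)).symm, ?_⟩)
          refine Set.eq_univ_of_forall fun l => ?_
          rcases hYfix _ l.2 with e | e
          · exact Or.inl (Subtype.ext (Subtype.ext e))
          · exact Or.inr (Subtype.ext (Subtype.ext e))
        · refine Or.inl (Nat.card_eq_one_iff_unique.2 ⟨⟨fun l l' => ?_⟩, ⟨⟨⟨h, mem_orbit_self h⟩, hYh⟩⟩⟩)
          have key : ∀ q : {l : orbit O h | Y ≤ stabilizer G (l : Ω)}, ((q : orbit O h) : Ω) = h := fun q => by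
            rcases hYfix _ q.2 with e | e
            · exact e
            · exact absurd (e ▸ (q : orbit O h).2) hk0
          exact Subtype.ext (Subtype.ext ((key l).trans (key l').symm))
      rw [hcard, hz0] at h1
      have h3 : Nat.card {l : orbit O h | Y ≤ stabilizer G (l : Ω)} ≡ 0 [MOD p] := h0.symm.trans h1
      have h4 := Nat.le_of_dvd (by omega) (Nat.modEq_zero_iff_dvd.1 h3)
      have := hp.out.two_le
      omega
    -- the orbit of the good point is trivial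
    have horb : ∀ o ∈ O, o • h = h := fun o ho => by
      by_contra hne
      obtain ⟨⟨r, hr⟩, hr'⟩ := hpart (o • h) hne (smul_mem_fixSet (hON ho) hWh)
      exact hpair z hzn hz2 h hWh ⟨⟨r⁻¹ * o, O.mul_mem (O.inv_mem hr) ho⟩, by
        show (r⁻¹ * o) • h = z • h
        rw [mul_smul, inv_smul_eq_iff]; exact hr'.symm⟩
    refine hxy ?_
    have hval : ∀ k, k ≠ h → W ≤ stabilizer G k → k = z • h := fun k hk hWk => by
      obtain ⟨⟨o, ho⟩, ho'⟩ := hpart k hk hWk
      rw [← ho']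
      show o • (z • h) = z • h
      have h1 := horb _ (conj_mem_of_normalizer' (hNO hzn) ho)
      rw [mul_smul, mul_smul, inv_smul_eq_iff] at h1
      exact h1
    rw [hval x hxh hWx, hval y hyh hWy]
  -- the normaliser has odd order
  push Not at hinv
  have hNodd : Odd (Nat.card N) := by
    refine Nat.not_even_iff_odd.1 fun he => ?_
    haveI : Fact (Nat.Prime 2) := ⟨Nat.prime_two⟩
    obtain ⟨t, ht⟩ := exists_prime_orderOf_dvd_card' (G := N) 2 (even_iff_two_dvd.1 he)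
    exact hinv t t.2 ((orderOf_coe t).trans ht)
  have hnS : ∀ k, k ≠ h → ¬ Grp.IsSylowIn p W (pairStab G h k) := fun k hk hS => by
    obtain ⟨w, hw, hw2, -⟩ := hexact k hk hS
    exact hinv w hw hw2
  obtain ⟨Y, hWY, hY, hYle, hYfix⟩ := hnonex x hxh hWx (hnS x hxh)
  obtain ⟨Y', -, hY', hY'le, hY'fix⟩ := hnonex y hyh hWy (hnS y hyh)
  -- some element of `N` maps the good point to its partner
  have hexists : ∃ g ∈ N, ∃ k, k ≠ h ∧ W ≤ stabilizer G k ∧ g • h = k := by
    by_contra hcon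
    push Not at hcon
    have hNh : ∀ g ∈ N, g • h = h := fun g hgN => by
      by_contra hne
      exact hcon g hgN _ hne (smul_mem_fixSet (hN ▸ hgN) hWh) rfl
    have hS : Grp.IsSylowIn p W (pairStab G x y) := by
      by_contra hnot
      obtain ⟨Z, hlt, hZD, hZp, hZn⟩ := exists_larger hWp (show W ≤ pairStab G x y from le_inf hWx hWy) hnot
      exact hxy (hbig Z hlt hZp (fun w hw => mem_stabilizer_iff.2 (hNh w (hN ▸ hZn hw))) x y hxh hyh
        (hZD.trans inf_le_left) (hZD.trans inf_le_right))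
    obtain ⟨w, hw, hwn⟩ := exists_swapper_normalizer U hxy hS
    exact hinv w (hN ▸ hwn) hw.1
  obtain ⟨g, hgN, k, hk, hWk, hgh⟩ := hexists
  obtain ⟨Z, -, hZ, hZle, hZfix⟩ := hnonex k hk hWk (hnS k hk)
  -- both `Z` and its conjugate are Sylow subgroups of the stabiliser of `k` in `N`
  obtain ⟨Nk, hNk⟩ : ∃ Nk, Nk = N ⊓ stabilizer G k := ⟨_, rfl⟩
  have hZk : Grp.IsSylowIn p Z Nk :=
    ⟨hNk ▸ le_inf hZ.1 (hZle.trans inf_le_right), hZ.2.1, fun hd => hZ.2.2 (hd.trans (Dvd.intro _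
      (Subgroup.relIndex_mul_relIndex Z Nk N (hNk ▸ le_inf hZ.1 (hZle.trans inf_le_right)) (hNk ▸ inf_le_left))))⟩
  have hgn : g ∈ normalizer (W : Set G) := hN ▸ hgN
  obtain ⟨Z', hZ'⟩ : ∃ Z', Z' = MulAut.conj g • Z := ⟨_, rfl⟩
  have hgNN : MulAut.conj g • N = N := Grp.conj_smul_eq_self_of_mem hgN
  have hZ'N : Grp.IsSylowIn p Z' N := hZ' ▸ hZ.smul hgNN
  have hZ'k : Grp.IsSylowIn p Z' Nk := by
    have hle : Z' ≤ Nk := by
      rw [hNk]
      refine le_inf hZ'N.1 ?_
      rw [hZ']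
      rintro _ ⟨w, hw, rfl⟩
      show (g * w * g⁻¹) • k = k
      conv_lhs => rw [← hgh]
      rw [conj_smul_smul, mem_stabilizer_iff.1 ((hZle.trans inf_le_left) hw), hgh]
    exact ⟨hle, hZ'N.2.1, fun hd => hZ'N.2.2 (hd.trans (Dvd.intro _
      (Subgroup.relIndex_mul_relIndex Z' Nk N hle (hNk ▸ inf_le_left))))⟩
  obtain ⟨n, hn, hnZ⟩ := hZ'k.conj hZk
  rw [hNk, Subgroup.mem_inf, mem_stabilizer_iff] at hn
  -- `n g` normalises `Z` and maps `h` to `k`
  have hng : ∀ l : Ω, Z ≤ stabilizer G l → Z ≤ stabilizer G ((n * g) • l) := fun l hl w hw => by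
    rw [← hnZ, hZ'] at hw
    obtain ⟨w₁, ⟨w₀, hw₀, rfl⟩, rfl⟩ := hw
    rw [mem_stabilizer_iff]
    show ((MulAut.conj n).toMonoidHom ((MulAut.conj g).toMonoidHom w₀)) • ((n * g) • l) = (n * g) • l
    simp only [MulEquiv.coe_toMonoidHom, MulAut.conj_apply]
    rw [show n * (g * w₀ * g⁻¹) * n⁻¹ = n * g * w₀ * (n * g)⁻¹ by group, conj_smul_smul,
      mem_stabilizer_iff.1 (hl hw₀)]
  have hngN : n * g ∈ N := mul_mem hn.1 hgN
  have hnh : (n * g) • h = k := by rw [mul_smul, hgh, hn.2]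
  have h2 := eq_of_perm_pair (hNodd.of_dvd_nat (Subgroup.orderOf_dvd_natCard _ hngN)) (c := h) (a := k)
    (Or.inr hnh) (hZfix _ (hng k (hZle.trans inf_le_right)))
  exact hk (hnh.symm.trans h2.1)

omit U hp in
/-- The core lemma. -/
theorem core {G : Type*} [Group G] [Finite G] {Ω : Type*} [MulAction G Ω] (U : Hyp G Ω) {p : ℕ} (hp : p.Prime)
    (hp2 : p ≠ 2) {Good : Ω → Subgroup G → Prop} (hg : Goodness G Ω p Good) : CoreConcl G Ω p Good := by
  classical
  haveI : Fact p.Prime := ⟨hp⟩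
  haveI := U.finite_points
  have hfix : ∀ (c a : Ω), c ≠ a → ∀ W : Subgroup G, Grp.IsSylowIn p W (pairStab G c a) →
      ∀ x, W ≤ stabilizer G x → x = c ∨ x = a := by
    intro c a hca W hW x hx
    by_contra hcon
    push Not at hcon
    exact hcon.2 (good_fix_two U hp2 hg hW.2.1 (hW.1.trans inf_le_left) (hg.full c a hca W hW) hx
      (hW.1.trans inf_le_right) hcon.1 hca.symm)
  have hsyl : ∀ (c a : Ω), c ≠ a → ∀ W : Subgroup G, Grp.IsSylowIn p W (pairStab G c a) →
      Grp.IsSylowIn p W (⊤ : Subgroup G) :=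
    fun c a hca W hW => sylow_top_of_fix_two U hp2 hW (hfix c a hca W hW)
  refine ⟨fun c a c' a' hca hca' => ?_, fun h W hW hWh hGood x y hx hy hxh hyh =>
    good_fix_two U hp2 hg hW hWh hGood hx hy hxh hyh, hsyl⟩
  obtain ⟨P, hP⟩ := Grp.exists_isSylowIn p (pairStab G c a)
  obtain ⟨P', hP'⟩ := Grp.exists_isSylowIn p (pairStab G c' a')
  obtain ⟨g, -, hgP⟩ := (hsyl c a hca P hP).conj (hsyl c' a' hca' P' hP')
  have hmove : ∀ z, P ≤ stabilizer G z → g • z = c' ∨ g • z = a' := fun z hz => by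
    refine hfix c' a' hca' P' hP' _ fun w hw => ?_
    rw [← hgP] at hw
    obtain ⟨w₀, hw₀, rfl⟩ := hw
    show (g * w₀ * g⁻¹) • (g • z) = g • z
    rw [conj_smul_smul, mem_stabilizer_iff.1 (hz hw₀)]
  rcases hmove c (hP.1.trans inf_le_left) with hc | hc <;>
    rcases hmove a (hP.1.trans inf_le_right) with ha | ha
  · exact absurd (smul_left_cancel g (hc.trans ha.symm)) hca
  · exact ⟨g, hc, ha⟩
  · obtain ⟨w, hw⟩ := U.exists_swap_pair hca'
    exact ⟨w * g, by rw [mul_smul, hc, swap_symm hw.1 hw.2], by rw [mul_smul, ha, hw.2]⟩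
  · exact absurd (smul_left_cancel g (hc.trans ha.symm)) hca

end Cfsg.Agent.Invol.Bender
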