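import Cfsg.Agent.Lib.Transfer.Local.Normed
import Cfsg.Agent.Lib.Grp.CoprimeAbelian

/-!
# Invariant subgroups of order prime to `p`

In a solvable group let `V` be normal in a Sylow subgroup `P` and contain its centraliser in `P`. A subgroup of
order prime to `p` normalised by `V` lies in the `p'`-core.
-/

set_option autoImplicit false
set_option linter.unusedSectionVars false

namespace Cfsg.Agent.Invol.Bender

open Subgroup Cfsg.Agent.Transfer.Loc
open scoped Pointwise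

universe u

/-- The intersection of a Sylow subgroup with a normal subgroup is a Sylow subgroup of it. -/
theorem isSylowIn_inf_normal {G : Type u} [Group G] [Finite G] {p : ℕ} [Fact p.Prime] {P A K : Subgroup G}
    (hP : Grp.IsSylowIn p P A) (hKA : K ≤ A) (hn : A ≤ normalizer (K : Set G)) :
    Grp.IsSylowIn p (P ⊓ K) K := by
  obtain ⟨S, hS⟩ := Grp.exists_isSylowIn p K
  obtain ⟨Y, hY⟩ := (hS.2.1.of_equiv (subgroupOfEquivOfLe (hS.1.trans hKA)).symm).exists_le_sylow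
  have hYin : Grp.IsSylowIn p ((Y : Subgroup A).map A.subtype) A := Grp.isSylowIn_iff.2 ⟨Y, rfl⟩
  have hSY : S ≤ (Y : Subgroup A).map A.subtype := fun x hx =>
    ⟨⟨x, hKA (hS.1 hx)⟩, hY (mem_subgroupOf.2 hx), rfl⟩
  obtain ⟨a, ha, haY⟩ := hYin.conj hP
  have hle : MulAut.conj a • S ≤ P ⊓ K := by
    refine le_inf (haY ▸ Subgroup.pointwise_smul_le_pointwise_smul_iff.2 hSY) ?_
    rw [← Grp.normalizer_le_smul hn ha]
    exact Subgroup.pointwise_smul_le_pointwise_smul_iff.2 hS.1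
  have hKconj : MulAut.conj a • K = K := Grp.normalizer_le_smul hn ha
  have h1 := (hS.smul hKconj).eq_of_le hle inf_le_right (hP.2.1.to_le inf_le_left)
  exact h1 ▸ hS.smul hKconj

/-- A `p'`-group normalised by a subgroup which is normal in a Sylow subgroup and contains its centraliser there
lies in the `p'`-core. -/
theorem le_pPrimeCore_of_self_centralizing {Γ : Type u} [Group Γ] [Finite Γ] [Group.IsSolvable Γ] {p : ℕ}
    [hp : Fact p.Prime] (S : Sylow p Γ) {V Y : Subgroup Γ} (hVS : V ≤ (S : Subgroup Γ))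
    (hSV : (S : Subgroup Γ) ≤ normalizer (V : Set Γ))
    (hCV : ∀ t ∈ (S : Subgroup Γ), (∀ v ∈ V, Commute t v) → t ∈ V)
    (hY : (Nat.card Y).Coprime p) (hVY : V ≤ normalizer (Y : Set Γ)) :
    Y ≤ Cfsg.pPrimeCore p Γ := by
  haveI : (Cfsg.pPrimeCore p Γ).Normal := Grp.pPrimeCore_isNormal
  set f := QuotientGroup.mk' (Cfsg.pPrimeCore p Γ)
  have hfs : Function.Surjective f := QuotientGroup.mk'_surjective _
  obtain ⟨R, hR⟩ : ∃ R, R = Cfsg.pCore p (Γ ⧸ Cfsg.pPrimeCore p Γ) := ⟨_, rfl⟩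
  haveI hRn : R.Normal := hR ▸ Grp.pCore_isNormal
  have hRp : IsPGroup p R := hR ▸ Grp.pCore_isPGroup
  obtain ⟨B, hB⟩ : ∃ B, B = R ⊓ V.map f := ⟨_, rfl⟩
  have hRS : R ≤ (S : Subgroup Γ).map f := hR ▸ Grp.pCore_le_sylow (S.mapSurjective hfs)
  have hVn : R ≤ normalizer (V.map f : Set (Γ ⧸ Cfsg.pPrimeCore p Γ)) :=
    hRS.trans ((map_mono hSV).trans (le_normalizer_map f))
  have hVY' : V.map f ≤ normalizer (Y.map f : Set (Γ ⧸ Cfsg.pPrimeCore p Γ)) :=
    (map_mono hVY).trans (le_normalizer_map f)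
  have hY' : (Nat.card (Y.map f)).Coprime p := hY.coprime_dvd_left (card_map_dvd _ f)
  obtain ⟨m, hm⟩ := IsPGroup.iff_card.1 hRp
  have hYR : Y.map f ⊓ R = ⊥ := Grp.inf_eq_bot_of_coprime (by rw [hm]; exact hY'.pow_right m)
  have hYnR : Y.map f ≤ normalizer (R : Set (Γ ⧸ Cfsg.pPrimeCore p Γ)) := by
    rw [normalizer_eq_top]; exact le_top
  -- `Y` centralises `B`
  have hYB : ∀ y ∈ Y.map f, ∀ b ∈ B, Commute y b := fun y hy b hb => by
    rw [hB] at hb
    have h1 : y * b * y⁻¹ * b⁻¹ ∈ Y.map f ⊓ R := by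
      refine ⟨?_, R.mul_mem (hRn.conj_mem b hb.1 y) (R.inv_mem hb.1)⟩
      rw [show y * b * y⁻¹ * b⁻¹ = y * (b * y⁻¹ * b⁻¹) by group]
      exact mul_mem hy ((mem_normalizer_iff.1 (hVY' hb.2) y⁻¹).1 (inv_mem hy))
    rw [hYR, mem_bot, mul_inv_eq_one, mul_inv_eq_iff_eq_mul] at h1
    exact h1
  -- `V` centralises `Y`
  have hcomm : ∀ y ∈ Y.map f, ∀ v ∈ V.map f, Commute y v := by
    intro y hy v hv
    obtain ⟨c, hc⟩ : ∃ c, c = y * v * y⁻¹ * v⁻¹ := ⟨_, rfl⟩
    have hcY : c ∈ Y.map f := by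
      rw [hc, show y * v * y⁻¹ * v⁻¹ = y * (v * y⁻¹ * v⁻¹) by group]
      exact mul_mem hy ((mem_normalizer_iff.1 (hVY' hv) y⁻¹).1 (inv_mem hy))
    have hmove : ∀ w ∈ V.map f, ∀ r ∈ R, w * r * w⁻¹ * r⁻¹ ∈ B := fun w hw r hr => by
      rw [hB]
      refine ⟨R.mul_mem (hRn.conj_mem r hr w) (R.inv_mem hr), ?_⟩
      rw [show w * r * w⁻¹ * r⁻¹ = w * (r * w⁻¹ * r⁻¹) by group]
      exact mul_mem hw ((mem_normalizer_iff.1 (hVn hr) w⁻¹).1 (inv_mem hw))
    have hmove' : ∀ r ∈ R, c * r * c⁻¹ * r⁻¹ ∈ B := fun r hr => by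
      -- `y v y⁻¹` moves `r` inside `B`
      have h2 := hmove v⁻¹ (inv_mem hv) r hr
      have h4 : y * (v * (y⁻¹ * (v⁻¹ * r * v) * y⁻¹⁻¹) * v⁻¹ * (y⁻¹ * (v⁻¹ * r * v) * y⁻¹⁻¹)⁻¹) * y⁻¹ *
          (v⁻¹ * r * v⁻¹⁻¹ * r⁻¹) = c * r * c⁻¹ * r⁻¹ := by
        rw [hc]; group
      rw [← h4]
      have hr' : v⁻¹ * r * v ∈ R := by simpa using hRn.conj_mem r hr v⁻¹
      have h5 := hmove v hv _ (hRn.conj_mem _ hr' y⁻¹)
      refine mul_mem ?_ h2
      rw [(hYB y hy _ h5).eq, mul_inv_cancel_right]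
      exact h5
    have hcR : Subgroup.zpowers c ≤ centralizer (R : Set (Γ ⧸ Cfsg.pPrimeCore p Γ)) := by
      refine Grp.le_centralizer_of_series (Subgroup.zpowers c) R B
        (le_trans (zpowers_le.2 hcY) hYnR) ?_ (Or.inl inferInstance) ?_ ?_
      · rw [hm]
        exact (hY'.coprime_dvd_left (card_dvd_of_le (zpowers_le.2 hcY))).pow_right m
      · refine Subgroup.commutator_le.2 fun r hr x hx => ?_
        obtain ⟨k, rfl⟩ := mem_powers_iff_mem_zpowers.2 hx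
        have key : ∀ k : ℕ, ∀ r ∈ R, c ^ k * r * (c ^ k)⁻¹ * r⁻¹ ∈ B := by
          intro k
          induction k with
          | zero => intro r _; simp
          | succ k ih =>
            intro r hr
            have e : c ^ (k + 1) * r * (c ^ (k + 1))⁻¹ * r⁻¹ =
                (c ^ k * (c * r * c⁻¹) * (c ^ k)⁻¹ * (c * r * c⁻¹)⁻¹) * (c * r * c⁻¹ * r⁻¹) := by
              rw [pow_succ]; group
            rw [e]
            exact mul_mem (ih _ (hRn.conj_mem r hr c)) (hmove' r hr)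
        have := inv_mem (key k r hr)
        convert this using 1
        simp [commutatorElement_def, mul_assoc]
      · rw [commutator_comm, Subgroup.commutator_eq_bot_iff_le_centralizer, zpowers_le]
        exact mem_centralizer_iff.2 fun b hb => (hYB c hcY b hb).eq.symm
    have h6 : c ∈ Y.map f ⊓ R := ⟨hcY, by
      rw [hR] at hcR ⊢
      exact Grp.centralizer_pCore_le Grp.pPrimeCore_quotient_bot (hcR (mem_zpowers c))⟩
    rw [hYR, mem_bot, hc, mul_inv_eq_one, mul_inv_eq_iff_eq_mul] at h6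
    exact h6
  haveI : Group.IsSolvable (Γ ⧸ Cfsg.pPrimeCore p Γ) := Group.isSolvable_of_surjective (f := f) hfs
  have hfix : R ⊓ centralizer (V.map f : Set (Γ ⧸ Cfsg.pPrimeCore p Γ)) ≤
      centralizer (Y.map f : Set (Γ ⧸ Cfsg.pPrimeCore p Γ)) := by
    rintro r ⟨hrR, hrV⟩
    obtain ⟨t, ht, rfl⟩ := hRS hrR
    have htV : t ∈ V := hCV t ht fun v hv => by
      have h1 : t * v * t⁻¹ * v⁻¹ ∈ (S : Subgroup Γ) :=
        mul_mem (mul_mem (mul_mem ht (hVS hv)) (inv_mem ht)) (inv_mem (hVS hv))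
      have h2 : t * v * t⁻¹ * v⁻¹ ∈ Cfsg.pPrimeCore p Γ := by
        refine (QuotientGroup.eq_one_iff _).1 ?_
        show f (t * v * t⁻¹ * v⁻¹) = 1
        have h3 := mem_centralizer_iff.1 hrV (f v) (mem_map_of_mem f hv)
        rw [map_mul, map_mul, map_mul, map_inv, map_inv, ← h3]
        group
      have h4 := eq_one_of_coprime_of_mem S.isPGroup' h1
        (Grp.pPrimeCore_coprime.coprime_dvd_left ((Cfsg.pPrimeCore p Γ).orderOf_dvd_natCard h2))
      rwa [mul_inv_eq_one, mul_inv_eq_iff_eq_mul] at h4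
    exact mem_centralizer_iff.2 fun y hy => hYB y hy _ (hB ▸ ⟨hrR, mem_map_of_mem f htV⟩)
  have hYR2 : Y.map f ≤ centralizer (R : Set (Γ ⧸ Cfsg.pPrimeCore p Γ)) :=
    Grp.thompson_PQ (V.map f) (Y.map f) ((S.isPGroup'.to_le hVS).map f) hY'
      (fun v hv => mem_centralizer_iff.2 fun y hy => (hcomm y hy v hv).eq) R hRp
      (by rw [normalizer_eq_top]; exact le_top) hYnR hfix
  intro y hy
  have h3 : f y ∈ Y.map f ⊓ R := by
    refine ⟨mem_map_of_mem f hy, ?_⟩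
    rw [hR] at hYR2 ⊢
    exact Grp.centralizer_pCore_le Grp.pPrimeCore_quotient_bot (hYR2 (mem_map_of_mem f hy))
  rw [hYR, mem_bot] at h3
  exact (QuotientGroup.eq_one_iff y).1 h3

/-- The relative form. -/
theorem le_O'_of_self_centralizing {G : Type u} [Group G] [Finite G] {p : ℕ} [hp : Fact p.Prime]
    {X S V Y : Subgroup G} [Group.IsSolvable X] (hS : Grp.IsSylowIn p S X) (hVS : V ≤ S)
    (hSV : S ≤ normalizer (V : Set G)) (hCV : ∀ t ∈ S, (∀ v ∈ V, Commute t v) → t ∈ V) (hYX : Y ≤ X)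
    (hY : (Nat.card Y).Coprime p) (hVY : V ≤ normalizer (Y : Set G)) : Y ≤ O' p X := by
  obtain ⟨T, rfl⟩ := Grp.isSylowIn_iff.1 hS
  have hVX : V ≤ X := hVS.trans (map_subtype_le _)
  rw [O'_eq, ← map_subgroupOf_eq_of_le hYX]
  refine map_mono (le_pPrimeCore_of_self_centralizing T (V := V.subgroupOf X) ?_ ?_ ?_ ?_ ?_)
  · intro v hv
    obtain ⟨t, ht, htv⟩ := hVS (mem_subgroupOf.1 hv)
    exact (Subtype.ext htv : t = v) ▸ ht
  · intro a ha
    refine mem_normalizer_iff.2 fun y => ?_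
    have := mem_normalizer_iff.1 (hSV (mem_map_of_mem X.subtype ha)) (y : G)
    simpa [mem_subgroupOf] using this
  · exact fun t ht hc => mem_subgroupOf.2 (hCV _ (mem_map_of_mem X.subtype ht)
      fun v hv => congrArg Subtype.val (hc ⟨v, hVX hv⟩ (mem_subgroupOf.2 hv)).eq)
  · rwa [Nat.card_congr (subgroupOfEquivOfLe hYX).toEquiv]
  · intro a ha
    refine mem_normalizer_iff.2 fun y => ?_
    have := mem_normalizer_iff.1 (hVY (mem_subgroupOf.1 ha)) (y : G)
    simpa [mem_subgroupOf] using this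

end Cfsg.Agent.Invol.Bender
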