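import Cfsg.Agent.Lib.Invol.Bender.BelowFacts
import Cfsg.Agent.Lib.Invol.Bender.Core
import Cfsg.Agent.Lib.Invol.Bender.SylowCore

/-!
# Sylow subgroups of the kernel on the centres

Facts about a split subgroup `M` with a special element in its kernel: no involution of `M` centralises a Sylow
subgroup of the kernel, and a four group at a centre normalises `Z(J(P))` for a Sylow subgroup `P` of a pair stabiliser.
-/

set_option autoImplicit false
set_option linter.unusedSectionVars false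

namespace Cfsg.Agent.Invol.Bender

open MulAction Subgroup Cfsg.Agent.Transfer.Loc
open scoped Pointwise

universe u v

variable {G : Type u} [Group G] [Finite G] {Ω : Type v} [MulAction G Ω]

theorem Special.conj {i u : G} {d : Ω} (h : Special i u d) (g : G) :
    Special (g * i * g⁻¹) (g * u * g⁻¹) (g • d) := by
  refine ⟨⟨(orderOf_conj_eq g u).trans h.invol.1, by rw [conj_smul_smul, h.invol.2]⟩, ?_,
    fun e => h.ne_one (conj_eq_one_iff.1 e), by rw [orderOf_conj_eq]; exact h.odd, ?_⟩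
  · calc g * u * g⁻¹ * (g * i * g⁻¹) * (g * u * g⁻¹)⁻¹ = g * (u * i * u⁻¹) * g⁻¹ := by group
      _ = _ := by rw [h.inverted]; group
  · obtain ⟨z, hz, hzi⟩ := h.exists_commute
    exact ⟨g * z * g⁻¹, (orderOf_conj_eq g z).trans hz, hzi.conj g⟩

/-- Two commuting involutions generate a solvable group of order prime to every odd order. -/
theorem four_coprime {e f : G} (he : orderOf e = 2) (hf : orderOf f = 2) (hef : Commute e f) :
    Group.IsSolvable ↥(Subgroup.zpowers e ⊔ Subgroup.zpowers f) ∧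
      ∀ K : Subgroup G, Odd (Nat.card K) → (Nat.card ↥(Subgroup.zpowers e ⊔ Subgroup.zpowers f)).Coprime (Nat.card K) := by
  haveI : Fact (Nat.Prime 2) := ⟨Nat.prime_two⟩
  have h1 : IsPGroup 2 ↥(Subgroup.zpowers e ⊔ Subgroup.zpowers f) := by
    refine IsPGroup.to_sup_of_normal_left'
      (IsPGroup.of_card (n := 1) (by rw [Nat.card_zpowers, he, pow_one]))
      (IsPGroup.of_card (n := 1) (by rw [Nat.card_zpowers, hf, pow_one])) ?_
    refine (Subgroup.zpowers_le).2 (Subgroup.mem_normalizer_fintype fun x hx => ?_)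
    obtain ⟨k, rfl⟩ := Subgroup.mem_zpowers_iff.1 hx
    rw [show f * e ^ k * f⁻¹ = e ^ k by rw [← (hef.zpow_left k).eq, mul_inv_cancel_right]]
    exact zpow_mem (Subgroup.mem_zpowers _) k
  obtain ⟨n, hn⟩ := IsPGroup.iff_card.1 h1
  haveI := h1.isNilpotent
  exact ⟨inferInstance, fun K hK => hn ▸ (Nat.coprime_two_left.2 hK).pow_left n⟩

variable {p : ℕ} [hp : Fact p.Prime]

/-- Commuting involutions normalising a group of odd order are conjugate, inside it, into the normaliser of any of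
its Sylow subgroups. -/
theorem exists_four_normalizer {e f : G} (he : orderOf e = 2) (hf : orderOf f = 2) (hef : Commute e f)
    {K V : Subgroup G} (hodd : Odd (Nat.card K)) (heK : e ∈ normalizer (K : Set G))
    (hfK : f ∈ normalizer (K : Set G)) (hV : Grp.IsSylowIn p V K) :
    ∃ k ∈ K, k * e * k⁻¹ ∈ normalizer (V : Set G) ∧ k * f * k⁻¹ ∈ normalizer (V : Set G) := by
  obtain ⟨hsol, hcop⟩ := four_coprime he hf hef
  obtain ⟨X, hX, hAX⟩ := Grp.exists_invariant_sylow _ K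
    (sup_le (zpowers_le_normalizer heK) (zpowers_le_normalizer hfK)) (hcop K hodd) (Or.inl hsol) p
  obtain ⟨k, hk, rfl⟩ := hX.conj hV
  have key : ∀ a ∈ normalizer (X : Set G), k * a * k⁻¹ ∈ normalizer ((MulAut.conj k • X : Subgroup G) : Set G) :=
    fun a ha => mem_normalizer_fintype fun y hy => by
      obtain ⟨z, hz, rfl⟩ := hy
      exact ⟨a * z * a⁻¹, conj_mem_of_normalizer ha hz, by simp [mul_assoc]⟩
  exact ⟨k, hk, key e (hAX (mem_sup_left (mem_zpowers e))), key f (hAX (mem_sup_right (mem_zpowers f)))⟩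

variable {M : Subgroup G}

theorem le_normalizer_ker : M ≤ normalizer (ker Ω M : Set G) :=
  fun _ hg => mem_normalizer_fintype fun _ hk => ker_conj_mem hg hk

theorem ker_fix {k : G} (hk : k ∈ ker Ω M) {x : Ω} (hx : x ∈ cen Ω M) : k • x = x := (mem_ker.1 hk).2 x hx

namespace Hyp

variable (U : Hyp G Ω)
include U

/-- A split subgroup is 2-transitive on its centres. -/
theorem two_trans_cen (hS : Split Ω M) {c a c' a' : Ω} (hc : c ∈ cen Ω M) (ha : a ∈ cen Ω M)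
    (hc' : c' ∈ cen Ω M) (ha' : a' ∈ cen Ω M) (hca : c ≠ a) (hca' : c' ≠ a') :
    ∃ g ∈ M, g • c = c' ∧ g • a = a' := by
  obtain ⟨g, hg, hgc⟩ := U.exists_smul_cen hS hc hc'
  obtain ⟨Q, hQ⟩ := hS c' hc'
  obtain ⟨q, hq, hqa⟩ := hQ.exists_move (g • a) (mem_cen_smul hg ha)
    (fun h => hca (smul_left_cancel g (hgc.trans h.symm))) a' ha' hca'.symm
  obtain ⟨hqM, hqc⟩ := Subgroup.mem_inf.1 (hQ.le hq)
  exact ⟨q * g, mul_mem hqM hg, by rw [mul_smul, hgc, mem_stabilizer_iff.1 hqc], by rw [mul_smul, hqa]⟩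

/-- A split subgroup interchanges any two of its centres by an involution. -/
theorem exists_swap_mem (hS : Split Ω M) {c a : Ω} (hc : c ∈ cen Ω M) (ha : a ∈ cen Ω M) (hca : c ≠ a) :
    ∃ w ∈ M, w ∈ swapAt G c a := by
  obtain ⟨i, hiM, hi, hic⟩ := id hc
  have hne : a ≠ i • a := fun h => U.smul_ne_of_invAt ⟨hi, hic⟩ hca.symm h.symm
  obtain ⟨g, hg, hga, hga'⟩ := U.two_trans_cen hS ha (mem_cen_smul hiM ha) hc ha hne hca
  refine ⟨g * i * g⁻¹, mul_mem (mul_mem hg hiM) (Subgroup.inv_mem _ hg), (orderOf_conj_eq g i).trans hi, ?_⟩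
  rw [← hga, conj_smul_smul, hga']

/-- A split subgroup of 2-rank two has two commuting involutions at each centre. -/
theorem exists_four_at (hS : Split Ω M) (h2 : TwoRank M) {d : Ω} (hd : d ∈ cen Ω M) :
    ∃ e ∈ M, ∃ f ∈ M, e ∈ invAt G d ∧ f ∈ invAt G d ∧ e ≠ f ∧ Commute e f := by
  obtain ⟨x, hxM, y, hyM, hx2, hy2, hxy, hc⟩ := h2
  obtain ⟨c, hxc⟩ := U.exists_fix x hx2
  have hyc : y • c = c := U.fix_of_commute hx2 hxc hc.symm
  obtain ⟨g, hg, hgc⟩ := U.exists_smul_cen hS ⟨x, hxM, hx2, hxc⟩ hd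
  refine ⟨g * x * g⁻¹, mul_mem (mul_mem hg hxM) (Subgroup.inv_mem _ hg), g * y * g⁻¹, mul_mem (mul_mem hg hyM) (Subgroup.inv_mem _ hg),
    ⟨(orderOf_conj_eq g x).trans hx2, ?_⟩, ⟨(orderOf_conj_eq g y).trans hy2, ?_⟩,
    fun h => hxy (mul_left_cancel (mul_right_cancel h)), hc.conj g⟩
  · rw [← hgc, conj_smul_smul, hxc]
  · rw [← hgc, conj_smul_smul, hyc]

/-- An element of a subgroup can be corrected by the kernel to normalise a Sylow subgroup of the kernel. -/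
theorem exists_frattini {V : Subgroup G} (hV : Grp.IsSylowIn p V (ker Ω M)) {g : G} (hg : g ∈ M) :
    ∃ n ∈ M, n ∈ normalizer (V : Set G) ∧ ∀ x ∈ cen Ω M, n • x = g • x := by
  obtain ⟨k, hk, hkV⟩ := (hV.smul (Grp.normalizer_le_smul le_normalizer_ker hg)).conj hV
  refine ⟨k * g, mul_mem (ker_le hk) hg, mem_normalizer_fintype fun y hy => ?_,
    fun x hx => by rw [mul_smul, ker_fix hk (mem_cen_smul hg hx)]⟩
  rw [smul_smul, ← map_mul] at hkV
  show k * g * y * (k * g)⁻¹ ∈ V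
  have h1 : k * g * y * (k * g)⁻¹ ∈ MulAut.conj (k * g) • V := ⟨y, hy, rfl⟩
  rwa [hkV] at h1

/-- No involution of a split subgroup centralises a Sylow subgroup of the kernel if the kernel has a special
element of prime power order. -/
theorem not_centralise (hS : Split Ω M) (hcen : (cen Ω M).Nontrivial) {i u : G} {d : Ω} (hs : Special i u d)
    (hi : i ∈ ker Ω M) (hd : d ∈ cen Ω M) (hip : IsPGroup p (Subgroup.zpowers i)) {V : Subgroup G}
    (hV : Grp.IsSylowIn p V (ker Ω M)) {z : G} (hzM : z ∈ M) (hz : orderOf z = 2) :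
    ∃ v ∈ V, ¬ Commute z v := by
  by_contra hcon
  push Not at hcon
  obtain ⟨Y, hY⟩ := (hip.of_equiv (subgroupOfEquivOfLe (zpowers_le.2 hi)).symm).exists_le_sylow
  obtain ⟨k, hk, hkV⟩ := (Grp.isSylowIn_iff.2 ⟨Y, rfl⟩ : Grp.IsSylowIn p _ (ker Ω M)).conj hV
  have hiV : k * i * k⁻¹ ∈ V := by
    rw [← hkV]
    exact ⟨i, ⟨⟨i, hi⟩, hY (mem_subgroupOf.2 (mem_zpowers i)), rfl⟩, rfl⟩
  have hs' := hs.conj k
  rw [ker_fix hk hd] at hs'
  have hzd : z • d = d := hs'.commute_fix U (hcon _ hiV)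
  obtain ⟨b, hb, hbd⟩ := hcen.exists_ne d
  obtain ⟨g, hg, hgd⟩ := U.exists_smul_cen hS hd hb
  obtain ⟨n, hnM, hnV, hn⟩ := U.exists_frattini hV hg
  have hc : Commute (n * z * n⁻¹) (k * i * k⁻¹) := by
    have h1 := (hcon _ (conj_mem_of_normalizer' hnV hiV)).conj n
    have e : n * (n⁻¹ * (k * i * k⁻¹) * n) * n⁻¹ = k * i * k⁻¹ := by group
    rwa [e] at h1
  have hz2 : orderOf (n * z * n⁻¹) = 2 := (orderOf_conj_eq n z).trans hz
  refine hbd (U.fix_unique _ hz2 _ _ ?_ (hs'.commute_fix U hc))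
  rw [← hgd, ← hn d hd, conj_smul_smul, hzd]

/-- An element centralising a Sylow subgroup of the kernel with a special element lies in the kernel. -/
theorem mem_ker_of_centralise (hS : Split Ω M) {i u : G} {d : Ω} (hs : Special i u d)
    (hd : d ∈ cen Ω M) {V : Subgroup G} (hV : Grp.IsSylowIn p V (ker Ω M)) (hiV : i ∈ V) {x : G} (hx : x ∈ M)
    (hc : ∀ v ∈ V, Commute x v) : x ∈ ker Ω M := by
  refine mem_ker.2 ⟨hx, fun y hy => ?_⟩
  obtain ⟨g, hg, hgd⟩ := U.exists_smul_cen hS hd hy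
  obtain ⟨n, hnM, hnV, hn⟩ := U.exists_frattini hV hg
  have := (hs.conj n).commute_fix U (hc _ (conj_mem_of_normalizer hnV hiV))
  rwa [hn d hd, hgd] at this

/-- An involution normalising a Sylow subgroup of the kernel commutes with another one. -/
theorem exists_partner (h2 : TwoRank M) (hcen : (cen Ω M).Nontrivial) {V : Subgroup G}
    (hV : Grp.IsSylowIn p V (ker Ω M)) {w : G} (hwM : w ∈ M) (hw : orderOf w = 2)
    (hwV : w ∈ normalizer (V : Set G)) :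
    ∃ e ∈ M, e ∈ normalizer (V : Set G) ∧ orderOf e = 2 ∧ e ≠ w ∧ Commute e w := by
  haveI : Fact (Nat.Prime 2) := ⟨Nat.prime_two⟩
  obtain ⟨x, hxM, y, hyM, hx2, hy2, hxy, hc⟩ := h2
  obtain ⟨k, hk, hxk, hyk⟩ := exists_four_normalizer hx2 hy2 hc (U.odd_ker hcen)
    (le_normalizer_ker hxM) (le_normalizer_ker hyM) hV
  let L := M ⊓ normalizer (V : Set G)
  let x' : L := ⟨k * x * k⁻¹, mul_mem (mul_mem (ker_le hk) hxM) (Subgroup.inv_mem _ (ker_le hk)), hxk⟩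
  let y' : L := ⟨k * y * k⁻¹, mul_mem (mul_mem (ker_le hk) hyM) (Subgroup.inv_mem _ (ker_le hk)), hyk⟩
  let w' : L := ⟨w, hwM, hwV⟩
  have hx' : orderOf x' = 2 := by rw [← Subgroup.orderOf_coe]; exact (orderOf_conj_eq k x).trans hx2
  have hy' : orderOf y' = 2 := by rw [← Subgroup.orderOf_coe]; exact (orderOf_conj_eq k y).trans hy2
  have hw' : orderOf w' = 2 := by rw [← Subgroup.orderOf_coe]; exact hw
  have hc' : Commute x' y' := Subtype.ext (hc.conj k).eq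
  have hne' : x' ≠ y' := fun h => hxy (mul_left_cancel (mul_right_cancel (congrArg Subtype.val h)))
  suffices ∃ e : L, orderOf e = 2 ∧ e ≠ w' ∧ Commute e w' by
    obtain ⟨e, he, hne, hew⟩ := this
    exact ⟨e, e.2.1, e.2.2, by rw [Subgroup.orderOf_coe]; exact he, fun h => hne (Subtype.ext h),
      congrArg Subtype.val hew.eq⟩
  have hpow : IsPGroup 2 ↥(Subgroup.zpowers w') := IsPGroup.of_card (n := 1) (by rw [Nat.card_zpowers, hw', pow_one])
  obtain ⟨S, hS⟩ := hpow.exists_le_sylow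
  have hwS : w' ∈ (S : Subgroup L) := hS (mem_zpowers w')
  haveI : Nontrivial (S : Subgroup L) := ⟨⟨⟨w', hwS⟩, 1, fun h => by
    rw [show w' = 1 from congrArg Subtype.val h, orderOf_one] at hw'
    exact absurd hw' (by decide)⟩⟩
  haveI := S.isPGroup'.center_nontrivial
  obtain ⟨n, hn0, hn⟩ := (S.isPGroup'.to_subgroup (Subgroup.center (S : Subgroup L))).nontrivial_iff_card.1 inferInstance
  obtain ⟨z, hz⟩ := exists_prime_orderOf_dvd_card' (G := Subgroup.center (S : Subgroup L)) 2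
    (hn ▸ dvd_pow_self 2 hn0.ne')
  have hz2 : orderOf ((z : (S : Subgroup L)) : L) = 2 := by rw [Subgroup.orderOf_coe, Subgroup.orderOf_coe]; exact hz
  have hzc : ∀ a ∈ (S : Subgroup L), Commute ((z : (S : Subgroup L)) : L) a := fun a ha =>
    congrArg Subtype.val (Subgroup.mem_center_iff.1 z.2 ⟨a, ha⟩).symm
  by_cases hzw : ((z : (S : Subgroup L)) : L) = w'
  · -- then a conjugate of the four group supplies the partner
    obtain ⟨hsol, -⟩ := four_coprime hx' hy' hc'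
    have hE : IsPGroup 2 ↥(Subgroup.zpowers x' ⊔ Subgroup.zpowers y') := by
      refine IsPGroup.to_sup_of_normal_left'
        (IsPGroup.of_card (n := 1) (by rw [Nat.card_zpowers, hx', pow_one]))
        (IsPGroup.of_card (n := 1) (by rw [Nat.card_zpowers, hy', pow_one])) ?_
      refine (Subgroup.zpowers_le).2 (Subgroup.mem_normalizer_fintype fun a ha => ?_)
      obtain ⟨j, rfl⟩ := Subgroup.mem_zpowers_iff.1 ha
      rw [show y' * x' ^ j * y'⁻¹ = x' ^ j by rw [← (hc'.zpow_left j).eq, mul_inv_cancel_right]]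
      exact zpow_mem (Subgroup.mem_zpowers _) j
    obtain ⟨S', hS'⟩ := hE.exists_le_sylow
    obtain ⟨g, hg⟩ := MulAction.exists_smul_eq L S' S
    have hmem : ∀ a ∈ (S' : Subgroup L), g * a * g⁻¹ ∈ (S : Subgroup L) := fun a ha => by
      rw [← hg]; exact ⟨a, ha, rfl⟩
    by_cases hxw : g * x' * g⁻¹ = w'
    · refine ⟨g * y' * g⁻¹, (orderOf_conj_eq g y').trans hy', fun h => hne' ?_, ?_⟩
      · exact mul_left_cancel (mul_right_cancel (hxw.trans h.symm))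
      · rw [← hzw]; exact (hzc _ (hmem _ (hS' (mem_sup_right (mem_zpowers _))))).symm
    · refine ⟨g * x' * g⁻¹, (orderOf_conj_eq g x').trans hx', hxw, ?_⟩
      rw [← hzw]; exact (hzc _ (hmem _ (hS' (mem_sup_left (mem_zpowers _))))).symm
  · exact ⟨_, hz2, hzw, hzc w' hwS⟩

/-- The involutions at a centre of a split subgroup commute modulo the kernel. -/
theorem comm_mem_ker (hS : Split Ω M) (hcen : (cen Ω M).Nontrivial) {d : Ω} {s t : G} (hsM : s ∈ M)
    (hs : s ∈ invAt G d) (htM : t ∈ M) (ht : t ∈ invAt G d) : s * t * s⁻¹ * t⁻¹ ∈ ker Ω M := by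
  haveI : Fact (Nat.Prime 2) := ⟨Nat.prime_two⟩
  have hd : d ∈ cen Ω M := ⟨s, hsM, hs⟩
  obtain ⟨Q, hQ⟩ := hS d hd
  have hsQ := U.inv_mem hcen hQ hsM hs
  have hoddK := U.odd_ker hcen
  haveI : ((ker Ω M).subgroupOf Q).Normal := ⟨fun a ha g => by
    rw [Subgroup.mem_subgroupOf] at ha ⊢
    simpa using ker_conj_mem (Subgroup.mem_inf.1 (hQ.le g.2)).1 ha⟩
  obtain ⟨π, hπ⟩ : ∃ π : Q →* Q ⧸ (ker Ω M).subgroupOf Q, π = QuotientGroup.mk' _ := ⟨_, rfl⟩
  have hπ1 : ∀ {a : Q}, π a = 1 ↔ (a : G) ∈ ker Ω M := fun {a} => by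
    rw [hπ]; exact (QuotientGroup.eq_one_iff a).trans Subgroup.mem_subgroupOf
  obtain ⟨k, hk⟩ := hQ.two_index
  have hcard : Nat.card (Q ⧸ (ker Ω M).subgroupOf Q) = 2 ^ k := by
    have h7 := Subgroup.card_eq_card_quotient_mul_card_subgroup ((ker Ω M).subgroupOf Q)
    rw [Nat.card_congr (subgroupOfEquivOfLe hQ.ker_le).toEquiv, hk, mul_comm] at h7
    exact (Nat.mul_right_cancel Nat.card_pos h7).symm
  have hP : IsPGroup 2 (Q ⧸ (ker Ω M).subgroupOf Q) := IsPGroup.of_card hcard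
  haveI : Nontrivial (Q ⧸ (ker Ω M).subgroupOf Q) := ⟨π ⟨s, hsQ⟩, 1, fun h => by
    have h1 := Subgroup.orderOf_dvd_natCard _ (hπ1.1 h)
    rw [hs.1] at h1
    exact Nat.not_even_iff_odd.2 hoddK (even_iff_two_dvd.2 h1)⟩
  haveI := hP.center_nontrivial
  obtain ⟨n, hn0, hn⟩ := (hP.to_subgroup (Subgroup.center _)).nontrivial_iff_card.1 inferInstance
  obtain ⟨zb, hzb⟩ := exists_prime_orderOf_dvd_card' (G := Subgroup.center (Q ⧸ (ker Ω M).subgroupOf Q)) 2
    (hn ▸ dvd_pow_self 2 hn0.ne')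
  obtain ⟨q, hq⟩ : ∃ q, π q = zb := by rw [hπ]; exact QuotientGroup.mk'_surjective _ _
  have hzb2 : (zb : Q ⧸ (ker Ω M).subgroupOf Q) ^ 2 = 1 := by
    rw [← hzb, ← Subgroup.orderOf_coe]; exact pow_orderOf_eq_one _
  -- an involution which is central modulo the kernel
  obtain ⟨i₀, hi₀⟩ : ∃ i₀ : Q, i₀ = q ^ Nat.card (ker Ω M) := ⟨_, rfl⟩
  have hπi : π i₀ = zb := by
    obtain ⟨m, hm⟩ := hoddK
    rw [hi₀, map_pow, hq, hm, pow_succ, pow_mul, hzb2, one_pow, one_mul]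
  have hi₀2 : orderOf (i₀ : G) = 2 := by
    refine orderOf_two_iff.2 ⟨?_, fun h => ?_⟩
    · have hq2 : ((q ^ 2 : Q) : G) ∈ ker Ω M := hπ1.1 (by rw [map_pow, hq, hzb2])
      have h1 : (⟨((q ^ 2 : Q) : G), hq2⟩ : ker Ω M) ^ Nat.card (ker Ω M) = 1 := pow_card_eq_one'
      have h2 : ((q ^ 2 : Q) : G) ^ Nat.card (ker Ω M) = 1 := congrArg Subtype.val h1
      rw [hi₀, SubmonoidClass.coe_pow, ← pow_add, ← two_mul, pow_mul, ← SubmonoidClass.coe_pow]
      exact h2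
    · have h1 : π i₀ = 1 := hπ1.2 (by rw [h]; exact one_mem _)
      rw [hπi] at h1
      rw [← Subgroup.orderOf_coe, h1, orderOf_one] at hzb
      exact absurd hzb (by decide)
  obtain ⟨hi₀M, hi₀d⟩ := Subgroup.mem_inf.1 (hQ.le i₀.2)
  have hcent : ∀ x ∈ Q, (i₀ : G) * x * (i₀ : G)⁻¹ * x⁻¹ ∈ ker Ω M := fun x hx => by
    refine (hπ1 (a := i₀ * ⟨x, hx⟩ * i₀⁻¹ * ⟨x, hx⟩⁻¹)).1 ?_
    rw [map_mul, map_mul, map_mul, map_inv, map_inv, hπi,
      ← Subgroup.mem_center_iff.1 zb.2 (π ⟨x, hx⟩), mul_inv_cancel_right, mul_inv_cancel]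
  -- `s` is conjugate to it in the stabiliser
  obtain ⟨b, hb, hbd⟩ := hcen.exists_ne d
  have hH := U.hyp_cen hcen
  have hlift : ∀ {a : G} (haM : a ∈ M), a ∈ invAt G d →
      (⟨a, haM⟩ : M) ∈ invAt M (⟨d, hd⟩ : cenAct Ω M) := fun {a} haM ha =>
    ⟨by rw [← Subgroup.orderOf_coe]; exact ha.1, Subtype.ext ha.2⟩
  obtain ⟨g, hg, hgs⟩ := hH.exists_conj_invAt (x := (⟨d, hd⟩ : cenAct Ω M)) (y := ⟨b, hb⟩)
    (fun h => hbd (congrArg Subtype.val h).symm) (hlift hi₀M ⟨hi₀2, hi₀d⟩) (hlift hsM hs)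
  have hgd : (g : G) • d = d := congrArg Subtype.val (mem_pair.1 hg).1
  have hgs' : (g : G) * i₀ * (g : G)⁻¹ = s := congrArg Subtype.val hgs
  have htQ := U.inv_mem hcen hQ htM ht
  have hx : (g : G)⁻¹ * t * g ∈ Q := by
    have := hQ.conj_mem (g : G)⁻¹ ⟨Subgroup.inv_mem _ g.2, Subgroup.inv_mem _ (mem_stabilizer_iff.2 hgd)⟩ t htQ
    simpa using this
  have := ker_conj_mem g.2 (hcent _ hx)
  convert this using 1
  rw [← hgs']
  group

/-- A four group at a centre normalises `Z(J(P))` and a Sylow subgroup of the kernel. -/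
theorem exists_four_zj (hp2 : p ≠ 2) (hS : Split Ω M) (h2 : TwoRank M) {i u : G} {d γ b : Ω} (hs : Special i u d)
    (hi : i ∈ ker Ω M) (hd : d ∈ cen Ω M) (hip : IsPGroup p (Subgroup.zpowers i)) (hγ : γ ∈ cen Ω M)
    (hb : b ∈ cen Ω M) (hne : b ≠ γ) {P : Subgroup G} (hP : Grp.IsSylowIn p P (M ⊓ pairStab G γ b)) :
    ∃ e ∈ M, ∃ f ∈ M, e ∈ invAt G γ ∧ f ∈ invAt G γ ∧ e ≠ f ∧ Commute e f ∧
      e ∈ normalizer (Cfsg.centerThompsonAOf P : Set G) ∧ f ∈ normalizer (Cfsg.centerThompsonAOf P : Set G) ∧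
      e ∈ normalizer ((P ⊓ ker Ω M : Subgroup G) : Set G) ∧ f ∈ normalizer ((P ⊓ ker Ω M : Subgroup G) : Set G) := by
  haveI : Fact (Nat.Prime 2) := ⟨Nat.prime_two⟩
  have hcen : (cen Ω M).Nontrivial := ⟨γ, hγ, b, hb, hne.symm⟩
  have hoddK := U.odd_ker hcen
  have hPM : P ≤ M := hP.1.trans inf_le_left
  have hPγ : P ≤ stabilizer G γ := hP.1.trans (inf_le_right.trans inf_le_left)
  have hKMD : ker Ω M ≤ M ⊓ pairStab G γ b := fun x hx =>
    ⟨ker_le hx, mem_pair.2 ⟨ker_fix hx hγ, ker_fix hx hb⟩⟩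
  obtain ⟨V, hVdef⟩ : ∃ V, V = P ⊓ ker Ω M := ⟨_, rfl⟩
  have hV : Grp.IsSylowIn p V (ker Ω M) :=
    hVdef ▸ isSylowIn_inf_normal hP hKMD (inf_le_left.trans le_normalizer_ker)
  obtain ⟨J, hJ⟩ : ∃ J, J = Subgroup.closure ((ker Ω M : Set G) ∪ {s | s ∈ M ∧ s ∈ invAt G γ}) := ⟨_, rfl⟩
  have hKJ : ker Ω M ≤ J := fun x hx => hJ ▸ Subgroup.subset_closure (Or.inl hx)
  have hJM : J ≤ M ⊓ stabilizer G γ := hJ ▸ (Subgroup.closure_le _).2 (by
    rintro x (hx | ⟨hxM, hx⟩)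
    · exact ⟨ker_le hx, mem_stabilizer_iff.2 (ker_fix hx hγ)⟩
    · exact ⟨hxM, mem_stabilizer_iff.2 hx.2⟩)
  have hPJ : P ≤ normalizer (J : Set G) := fun x hx => mem_normalizer_fintype fun y hy => by
    have hxγ := mem_stabilizer_iff.1 (hPγ hx)
    have hle : J ≤ J.comap (MulAut.conj x).toMonoidHom := by
      conv_lhs => rw [hJ]
      refine (Subgroup.closure_le _).2 ?_
      rintro a (ha | ⟨haM, ha⟩)
      · exact hKJ (ker_conj_mem (hPM hx) ha)
      · refine hJ ▸ Subgroup.subset_closure (Or.inr ⟨mul_mem (mul_mem (hPM hx) haM) (Subgroup.inv_mem _ (hPM hx)), ?_, ?_⟩)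
        · exact (orderOf_conj_eq x a).trans ha.1
        · show (x * a * x⁻¹) • γ = γ
          conv_lhs => rw [← hxγ]
          rw [conj_smul_smul, ha.2, hxγ]
    exact hle hy
  haveI hKn : ((ker Ω M).subgroupOf J).Normal :=
    ⟨fun a ha g => by
      rw [Subgroup.mem_subgroupOf] at ha ⊢
      simpa using ker_conj_mem (hJM g.2).1 ha⟩
  have hJcomm : ∀ a ∈ J, ∀ c ∈ J, a * c * a⁻¹ * c⁻¹ ∈ ker Ω M := by
    intro a ha c hc
    subst hJ
    refine Subgroup.closure_induction₂ (p := fun a c _ _ => a * c * a⁻¹ * c⁻¹ ∈ ker Ω M) ?_ ?_ ?_ ?_ ?_ ?_ ?_ ha hc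
    · rintro x y (hx | ⟨hxM, hx⟩) (hy | ⟨hyM, hy⟩)
      · exact mul_mem (mul_mem (mul_mem hx hy) (Subgroup.inv_mem _ hx)) (Subgroup.inv_mem _ hy)
      · rw [show x * y * x⁻¹ * y⁻¹ = x * (y * x⁻¹ * y⁻¹) by group]
        exact mul_mem hx (ker_conj_mem hyM (Subgroup.inv_mem _ hx))
      · exact mul_mem (ker_conj_mem hxM hy) (Subgroup.inv_mem _ hy)
      · exact U.comm_mem_ker hS hcen hxM hx hyM hy
    · intro x _; simp
    · intro x _; simp
    · intro x y z hx _ _ h1 h2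
      have hxM : x ∈ M := (hJM hx).1
      convert mul_mem (ker_conj_mem hxM h2) h1 using 1
      group
    · intro y z x hy _ _ h1 h2
      have hyM : y ∈ M := (hJM hy).1
      convert mul_mem h1 (ker_conj_mem hyM h2) using 1
      group
    · intro x y hx _ h
      have hxM : x ∈ M := (hJM hx).1
      convert ker_conj_mem (Subgroup.inv_mem _ hxM) (Subgroup.inv_mem _ h) using 1
      group
    · intro x y _ hy h
      have hyM : y ∈ M := (hJM hy).1
      convert ker_conj_mem (Subgroup.inv_mem _ hyM) (Subgroup.inv_mem _ h) using 1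
      group
  haveI hJsol : Group.IsSolvable J := by
    haveI := solvable_of_odd (X := (ker Ω M).subgroupOf J)
      (by rw [Nat.card_congr (subgroupOfEquivOfLe hKJ).toEquiv]; exact hoddK)
    haveI : Group.IsSolvable (J ⧸ (ker Ω M).subgroupOf J) := by
      refine Group.isSolvable_of_comm fun x y => ?_
      obtain ⟨x, rfl⟩ := QuotientGroup.mk'_surjective _ x
      obtain ⟨y, rfl⟩ := QuotientGroup.mk'_surjective _ y
      rw [← mul_inv_eq_iff_eq_mul, ← mul_inv_eq_one, ← map_mul, ← map_inv, ← map_mul, ← map_inv, ← map_mul]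
      exact (QuotientGroup.eq_one_iff _).2 (Subgroup.mem_subgroupOf.2 (hJcomm _ x.2 _ y.2))
    exact (Group.isSolvable_iff_subgroup_quotient ((ker Ω M).subgroupOf J)).2 ⟨inferInstance, inferInstance⟩
  obtain ⟨N, hN⟩ : ∃ N, N = J ⊔ P := ⟨_, rfl⟩
  have hJN : J ≤ N := hN ▸ le_sup_left
  have hPN : P ≤ N := hN ▸ le_sup_right
  have hNMγ : N ≤ M ⊓ stabilizer G γ := hN ▸ sup_le hJM (le_inf hPM hPγ)
  haveI hJn : (J.subgroupOf N).Normal := Subgroup.normal_subgroupOf_iff_le_normalizer hJN |>.2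
    (hN ▸ sup_le le_normalizer hPJ)
  have hquot : IsPGroup p (N ⧸ J.subgroupOf N) := by
    obtain ⟨a, ha⟩ := IsPGroup.iff_card.1 hP.2.1
    have h1 : Nat.card N ∣ Nat.card P * Nat.card J := by
      rw [hN, sup_comm]
      exact Grp.card_sup_dvd_mul (H := P) (N := J) hPJ
    rw [Subgroup.card_eq_card_quotient_mul_card_subgroup (J.subgroupOf N),
      Nat.card_congr (subgroupOfEquivOfLe hJN).toEquiv, ha] at h1
    obtain ⟨c, -, hc⟩ := (Nat.dvd_prime_pow hp.out).1 ((Nat.mul_dvd_mul_iff_right Nat.card_pos).1 h1)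
    exact IsPGroup.of_card hc
  haveI : Group.IsSolvable N := by
    haveI : Group.IsSolvable (J.subgroupOf N) :=
      Group.isSolvable_of_isSolvable_injective (f := (subgroupOfEquivOfLe hJN).toMonoidHom)
        (subgroupOfEquivOfLe hJN).injective
    haveI := hquot.isNilpotent
    exact (Group.isSolvable_iff_subgroup_quotient (J.subgroupOf N)).2 ⟨inferInstance, inferInstance⟩
  have hab : ∀ T : Sylow 2 N, IsMulCommutative T := fun T => by
    refine ⟨⟨fun x y => Subtype.ext (Subtype.ext ?_)⟩⟩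
    have hJT : ∀ z : T, ((z : N) : G) ∈ J := fun z => by
      obtain ⟨a, ha⟩ := T.isPGroup' z
      obtain ⟨c, hc⟩ := hquot (QuotientGroup.mk' (J.subgroupOf N) (z : N))
      have h1 : QuotientGroup.mk' (J.subgroupOf N) (z : N) ^ 2 ^ a = 1 := by
        rw [← map_pow, show (z : N) ^ 2 ^ a = 1 from congrArg Subtype.val ha, map_one]
      have h2 := pow_gcd_eq_one.2 ⟨h1, hc⟩
      rw [((Nat.coprime_primes Nat.prime_two hp.out).2 (Ne.symm hp2) |>.pow a c).gcd_eq_one, pow_one] at h2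
      exact Subgroup.mem_subgroupOf.1 ((QuotientGroup.eq_one_iff _).1 h2)
    have h1 := hJcomm _ (hJT x) _ (hJT y)
    obtain ⟨a, ha⟩ := T.isPGroup' (x * y * x⁻¹ * y⁻¹)
    have ha' : (((x * y * x⁻¹ * y⁻¹ : T) : N) : G) ^ 2 ^ a = 1 :=
      congrArg (fun t : T => ((t : N) : G)) ha
    have h2 : (⟨_, h1⟩ : ker Ω M) ^ Nat.card (ker Ω M) = 1 := pow_card_eq_one'
    have h3 := pow_gcd_eq_one.2 ⟨ha', congrArg Subtype.val h2⟩
    rw [((Nat.coprime_two_left.2 hoddK).pow_left a).gcd_eq_one, pow_one] at h3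
    have h4 : ((x : N) : G) * (y : N) * ((x : N) : G)⁻¹ * ((y : N) : G)⁻¹ = 1 := h3
    rwa [mul_inv_eq_one, mul_inv_eq_iff_eq_mul] at h4
  have hPsyl : Grp.IsSylowIn p P N := by
    refine ⟨hPN, hP.2.1, ?_⟩
    -- a larger `p`-subgroup would fix a second centre
    intro hdvd
    obtain ⟨S, hS'⟩ := (hP.2.1.of_equiv (subgroupOfEquivOfLe hPN).symm).exists_le_sylow
    have hSin : Grp.IsSylowIn p ((S : Subgroup N).map N.subtype) N := Grp.isSylowIn_iff.2 ⟨S, rfl⟩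
    have hle : P ≤ (S : Subgroup N).map N.subtype := fun x hx => ⟨⟨x, hPN hx⟩, hS' (mem_subgroupOf.2 hx), rfl⟩
    have hSodd : Odd (Nat.card ↥((S : Subgroup N).map N.subtype)) := by
      obtain ⟨a, ha⟩ := IsPGroup.iff_card.1 hSin.2.1
      rw [ha]; exact (hp.out.odd_of_ne_two hp2).pow
    obtain ⟨Q, hQ⟩ := hS γ hγ
    obtain ⟨f, hf, hfγ, hSf⟩ := U.exists_fix_centre hcen hQ (hSin.1.trans hNMγ) hSodd
    obtain ⟨q, hq, hqf⟩ := hQ.exists_move f hf hfγ b hb hne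
    obtain ⟨hqM, hqγ⟩ := Subgroup.mem_inf.1 (hQ.le hq)
    have hqS : MulAut.conj q • (S : Subgroup N).map N.subtype ≤ M ⊓ pairStab G γ b := by
      rintro _ ⟨x, hx, rfl⟩
      obtain ⟨hxM, hxγ⟩ := Subgroup.mem_inf.1 (hNMγ (hSin.1 hx))
      refine ⟨mul_mem (mul_mem hqM hxM) (Subgroup.inv_mem _ hqM), mem_pair.2 ⟨?_, ?_⟩⟩
      · show (q * x * q⁻¹) • γ = γ
        conv_lhs => rw [← mem_stabilizer_iff.1 hqγ]
        rw [conj_smul_smul, mem_stabilizer_iff.1 hxγ, mem_stabilizer_iff.1 hqγ]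
      · show (q * x * q⁻¹) • b = b
        rw [← hqf, conj_smul_smul, mem_stabilizer_iff.1 (hSf hx)]
    obtain ⟨Z, hZ⟩ := ((hSin.2.1.map (MulAut.conj q).toMonoidHom).of_equiv
      (subgroupOfEquivOfLe hqS).symm).exists_le_sylow
    have hZin : Grp.IsSylowIn p ((Z : Subgroup ↥(M ⊓ pairStab G γ b)).map (Subgroup.subtype _)) _ :=
      Grp.isSylowIn_iff.2 ⟨Z, rfl⟩
    have h1 : Nat.card ↥((S : Subgroup N).map N.subtype) ≤ Nat.card P := by
      rw [hP.card, ← hZin.card]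
      refine le_trans (Nat.card_congr (Subgroup.equivSMul (MulAut.conj q) _).toEquiv).le ?_
      exact Subgroup.card_le_of_le fun x hx => ⟨⟨x, hqS hx⟩, hZ (mem_subgroupOf.2 hx), rfl⟩
    exact hSin.2.2 ((Subgroup.eq_of_le_of_card_ge hle h1) ▸ hdvd)
  obtain ⟨e₀, he₀M, f₀, hf₀M, he₀, hf₀, hef, hc⟩ := U.exists_four_at hS h2 hγ
  have hJe : ∀ {a : G}, a ∈ M → a ∈ invAt G γ → a ∈ N := fun ha h =>
    hJN (hJ ▸ Subgroup.subset_closure (Or.inr ⟨ha, h⟩))
  obtain ⟨x, hx, hex, hfx⟩ := exists_zj_normalizer hp2 hab hPsyl (hVdef ▸ inf_le_left : V ≤ P) hoddK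
    (fun g hg v hv => mul_mem (ker_conj_mem (hNMγ hg).1 (hV.1 hv)) (Subgroup.inv_mem _ (hV.1 hv)))
    (fun j hj hj2 => U.not_centralise hS hcen hs hi hd hip hV (hNMγ hj).1 hj2)
    (hJe he₀M he₀) (hJe hf₀M hf₀) he₀.1 hf₀.1 hc
  obtain ⟨hxM, hxγ⟩ := Subgroup.mem_inf.1 (hNMγ hx)
  obtain ⟨Z, hZ⟩ : ∃ Z, Z = normalizer (Cfsg.centerThompsonAOf P : Set G) := ⟨_, rfl⟩
  rw [← hZ] at hex hfx ⊢
  have hZP : P ≤ Z := hZ ▸ le_normalizer.trans ((isZJFunctor_centerThompsonA.{u} (p := p)).normalizer_le P)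
  obtain ⟨K0, hK0⟩ : ∃ K0, K0 = Z ⊓ ker Ω M := ⟨_, rfl⟩
  have hV0 : Grp.IsSylowIn p V K0 := by
    refine ⟨hK0 ▸ hVdef ▸ inf_le_inf_right _ hZP, hV.2.1, fun h => hV.2.2 (h.trans ?_)⟩
    exact ⟨_, (Subgroup.relIndex_mul_relIndex V K0 (ker Ω M) (hK0 ▸ hVdef ▸ inf_le_inf_right _ hZP)
      (hK0 ▸ inf_le_right)).symm⟩
  have hnorm : ∀ a ∈ Z, a ∈ M → a ∈ normalizer (K0 : Set G) := fun a haZ haM =>
    mem_normalizer_fintype fun y hy => by
      rw [hK0] at hy ⊢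
      exact ⟨mul_mem (mul_mem haZ hy.1) (Subgroup.inv_mem _ haZ), ker_conj_mem haM hy.2⟩
  have he1 : x * e₀ * x⁻¹ ∈ M := mul_mem (mul_mem hxM he₀M) (Subgroup.inv_mem _ hxM)
  have hf1 : x * f₀ * x⁻¹ ∈ M := mul_mem (mul_mem hxM hf₀M) (Subgroup.inv_mem _ hxM)
  obtain ⟨k, hk, hek, hfk⟩ := exists_four_normalizer ((orderOf_conj_eq x e₀).trans he₀.1)
    ((orderOf_conj_eq x f₀).trans hf₀.1) (hc.conj x)
    (hoddK.of_dvd_nat (Subgroup.card_dvd_of_le (hK0 ▸ inf_le_right))) (hnorm _ hex he1) (hnorm _ hfx hf1) hV0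
  rw [hK0] at hk
  have hkM : k ∈ M := ker_le hk.2
  have hkxγ : (k * x) • γ = γ := by rw [mul_smul, mem_stabilizer_iff.1 hxγ, ker_fix hk.2 hγ]
  have hinv : ∀ {a : G}, a ∈ invAt G γ → k * (x * a * x⁻¹) * k⁻¹ ∈ invAt G γ := fun {a} ha =>
    ⟨((orderOf_conj_eq k _).trans (orderOf_conj_eq x a)).trans ha.1, by
      rw [show k * (x * a * x⁻¹) * k⁻¹ = (k * x) * a * (k * x)⁻¹ by group]
      conv_lhs => rw [← hkxγ]
      rw [conj_smul_smul, ha.2, hkxγ]⟩
  rw [← hVdef]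
  exact ⟨_, mul_mem (mul_mem hkM he1) (Subgroup.inv_mem _ hkM), _, mul_mem (mul_mem hkM hf1) (Subgroup.inv_mem _ hkM), hinv he₀, hinv hf₀,
    fun h => hef (mul_left_cancel (mul_right_cancel (mul_left_cancel (mul_right_cancel h)))), (hc.conj x).conj k,
    mul_mem (mul_mem hk.1 hex) (Subgroup.inv_mem _ hk.1), mul_mem (mul_mem hk.1 hfx) (Subgroup.inv_mem _ hk.1), hek, hfk⟩

end Hyp

end Cfsg.Agent.Invol.Bender
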