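import Cfsg.Agent.Lib.Invol.Bender.Inverted

/-!
# Blocks, covering and counting for groups of odd order normalised by an involution

The block of the centre under a subgroup of 2-rank one; a covering lemma for a group generated by inverted elements;
the number of inverted elements in an invariant Sylow subgroup of a pair stabiliser.
-/

set_option autoImplicit false
set_option linter.unusedSectionVars false

namespace Cfsg.Agent.Invol.Bender

open MulAction Subgroup
open scoped Pointwise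

universe u v

variable {G : Type u} [Group G] [Finite G] {Ω : Type v} [MulAction G Ω]

/-- The elements of a subgroup inverted by `t`. -/
def invertedBy (t : G) (V : Subgroup G) : Set G := {y | y ∈ V ∧ t * y * t⁻¹ = y⁻¹}

theorem commutator_le_self (L : Subgroup G) : ⁅L, L⁆ ≤ L :=
  Subgroup.commutator_le.2 fun a ha b hb =>
    L.mul_mem (L.mul_mem (L.mul_mem ha hb) (L.inv_mem ha)) (L.inv_mem hb)

theorem mem_normalizer_derived {L : Subgroup G} {x : G} (hx : x ∈ normalizer (L : Set G)) :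
    x ∈ normalizer ((⁅L, L⁆ : Subgroup G) : Set G) := by
  refine mem_normalizer_fintype fun y hy => ?_
  have h2 : (⁅L, L⁆ : Subgroup G).map (MulAut.conj x).toMonoidHom ≤ ⁅L, L⁆ := by
    rw [Subgroup.map_commutator]
    refine Subgroup.commutator_mono ?_ ?_ <;>
    · rintro _ ⟨z, hz, rfl⟩
      exact conj_mem_of_normalizer hx hz
  exact h2 ⟨y, hy, rfl⟩

theorem card_derived_lt {L : Subgroup G} (hodd : Odd (Nat.card L)) (hne : L ≠ ⊥) :
    Nat.card ↥(⁅L, L⁆ : Subgroup G) < Nat.card L := by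
  refine lt_of_not_ge fun hge => ?_
  have hVe : ⁅L, L⁆ = L := Subgroup.eq_of_le_of_card_ge (commutator_le_self L) hge
  haveI : Nontrivial L := (Subgroup.nontrivial_iff_ne_bot L).2 hne
  haveI := solvable_of_odd hodd
  refine (Group.IsSolvable.commutator_lt_top_of_nontrivial L).ne ?_
  rw [_root_.commutator_def]
  refine Subgroup.map_injective L.subtype_injective ?_
  rw [Subgroup.map_commutator, ← MonoidHom.range_eq_map, Subgroup.range_subtype, hVe]

theorem exists_mem_derived_le {L : Subgroup G} {n : G} (hn : n ∈ normalizer (L : Set G)) {a : G} (ha : a ∈ L) :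
    n * a * n⁻¹ * a⁻¹ ∈ L :=
  L.mul_mem (conj_mem_of_normalizer hn ha) (L.inv_mem ha)

theorem eq_of_sq_eq {R : Subgroup G} (hodd : Odd (Nat.card R)) {a b : G} (ha : a ∈ R) (hb : b ∈ R)
    (h : a * a = b * b) : a = b := by
  obtain ⟨k, hk⟩ := hodd
  have key : ∀ x ∈ R, (x * x) ^ (k + 1) = x := fun x hx => by
    have hx1 : x ^ (2 * k + 1) = 1 := by
      have h' : (⟨x, hx⟩ : R) ^ (2 * k + 1) = 1 := hk ▸ pow_card_eq_one'
      exact congrArg Subtype.val h'
    rw [← pow_two, ← pow_mul, show 2 * (k + 1) = 2 * k + 1 + 1 by ring, pow_succ, hx1, one_mul]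
  rw [← key a ha, ← key b hb, h]

/-- The block of the centre of `u` under a subgroup of 2-rank one moving it: a normal subgroup of odd order, acting
abelianly on the block, which `u` inverts there; an element of the subgroup fixing two points of the block fixes their
midpoint. -/
theorem exists_block (U : Hyp G Ω) {N : Subgroup G} (hone : BS.TwoRankOne N) {u : G} {d : Ω}
    (hu : u ∈ invAt G d) (huN : u ∈ N) (hmove : ∃ n ∈ N, n • d ≠ d) :
    ∃ L : Subgroup G, L ≤ N ∧ Odd (Nat.card L) ∧ (∃ l ∈ L, l • d ≠ d) ∧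
      (∀ a ∈ L, u • (a • d) = a⁻¹ • d) ∧
      (∀ a ∈ L, ∀ n ∈ N, n • (a • d) = a • d → n • (a⁻¹ • d) = a⁻¹ • d → n • d = d) ∧
      (∀ a ∈ L, ∀ b ∈ L, a • d ≠ b • d → ∃ h ∈ L, (h * u * h⁻¹) • (a • d) = b • d ∧
        ∀ n ∈ N, n • (a • d) = a • d → n • (b • d) = b • d → n • (h • d) = h • d) := by
  obtain ⟨n, hnN, hnd⟩ := hmove
  have hu2 := hu.1
  have hud := hu.2
  obtain ⟨K, hKn, hKodd, hKz⟩ := BS.exists_odd_normal hone (z := (⟨u, huN⟩ : N)) (by rw [← orderOf_coe]; exact hu2)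
  obtain ⟨O, hO⟩ : ∃ O, O = K.map N.subtype := ⟨_, rfl⟩
  have hNO : N ≤ normalizer (O : Set G) := fun x hx => mem_normalizer_fintype fun y hy => by
    rw [hO] at hy ⊢
    obtain ⟨z, hz, rfl⟩ := hy
    exact ⟨⟨x, hx⟩ * z * ⟨x, hx⟩⁻¹, hKn.conj_mem z hz _, rfl⟩
  have hOd : ¬ O ≤ stabilizer G d := by
    intro hle
    have h1 : u * n * u⁻¹ * n⁻¹ ∈ O := hO ▸ ⟨_, hKz ⟨n, hnN⟩, rfl⟩
    have h2 := mem_stabilizer_iff.1 (hle h1)
    have h3 : (n * u * n⁻¹) • d = d := by
      have h4 : n * u * n⁻¹ = u * (u * n * u⁻¹ * n⁻¹) := by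
        simp only [inv_of_orderOf_two hu2, ← mul_assoc, mul_self_of_orderOf_two hu2, one_mul]
      rw [h4, mul_smul, h2, hud]
    exact hnd (U.fix_unique _ ((orderOf_conj_eq n u).trans hu2) _ _ (by rw [conj_smul_smul, hud]) h3)
  obtain ⟨L, ⟨hLO, hNL, hLd⟩, hLmin⟩ : ∃ L : Subgroup G, (L ≤ O ∧ N ≤ normalizer (L : Set G) ∧
      ¬ L ≤ stabilizer G d) ∧ ∀ L' : Subgroup G, L' ≤ O → N ≤ normalizer (L' : Set G) → ¬ L' ≤ stabilizer G d →
      Nat.card L ≤ Nat.card L' := by
    obtain ⟨L, hL, hm⟩ := Set.exists_min_image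
      {L : Subgroup G | L ≤ O ∧ N ≤ normalizer (L : Set G) ∧ ¬ L ≤ stabilizer G d} (fun L => Nat.card L)
      (Set.toFinite _) ⟨O, le_rfl, hNO, hOd⟩
    exact ⟨L, hL, fun L' h1 h2 h3 => hm L' ⟨h1, h2, h3⟩⟩
  have hLodd : Odd (Nat.card L) := by
    refine Odd.of_dvd_nat ?_ (Subgroup.card_dvd_of_le hLO)
    rw [hO, Subgroup.card_map_of_injective N.subtype_injective]
    exact hKodd
  have hLN : L ≤ N := hLO.trans (hO ▸ map_subtype_le K)
  have hder : ∀ a ∈ L, ∀ b ∈ L, (a * b * a⁻¹ * b⁻¹) • d = d := by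
    have hin : ⁅L, L⁆ ≤ stabilizer G d := by
      by_contra hcon
      have h1 := hLmin _ ((commutator_le_self L).trans hLO) (fun x hx => mem_normalizer_derived (hNL hx)) hcon
      exact absurd (card_derived_lt hLodd fun e => hLd (e ▸ bot_le)) (not_lt.2 h1)
    exact fun a ha b hb => mem_stabilizer_iff.1 (hin (Subgroup.commutator_mem_commutator ha hb))
  have hLfix : ∀ a ∈ L, a • d = d → ∀ b ∈ L, (b * a * b⁻¹) • d = d := fun a ha had b hb => by
    rw [show b * a * b⁻¹ = (b * a * b⁻¹ * a⁻¹) * a by group, mul_smul, had, hder b hb a ha]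
  -- the image of `L` in the permutations of the block
  let Ld : Subgroup L := (stabilizer G d).subgroupOf L
  haveI : Ld.Normal := ⟨fun a ha b => by
    rw [Subgroup.mem_subgroupOf, mem_stabilizer_iff] at ha ⊢
    simpa using hLfix a a.2 ha b b.2⟩
  let π : L →* L ⧸ Ld := QuotientGroup.mk' Ld
  have hπ : ∀ {a : L}, π a = 1 ↔ (a : G) • d = d := fun {a} =>
    (QuotientGroup.eq_one_iff a).trans (by rw [Subgroup.mem_subgroupOf, mem_stabilizer_iff])
  have hπeq : ∀ {a b : L}, π a = π b → (a : G) • d = (b : G) • d := fun {a b} h => by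
    have h1 : π (a⁻¹ * b) = 1 := by rw [map_mul, map_inv, h, inv_mul_cancel]
    rw [hπ, Subgroup.coe_mul, Subgroup.coe_inv, mul_smul, inv_smul_eq_iff] at h1
    exact h1.symm
  have hπc : ∀ a b : L, π a * π b = π b * π a := fun a b => by
    rw [← mul_inv_eq_iff_eq_mul, ← mul_inv_eq_one, ← map_mul, ← map_inv, ← map_mul, ← map_inv, ← map_mul, hπ]
    exact hder a a.2 b b.2
  have hoddπ : Odd (Nat.card (L ⧸ Ld)) := hLodd.of_dvd_nat (Subgroup.card_quotient_dvd_card Ld)
  have hsq : ∀ x : L ⧸ Ld, x * x = 1 → x = 1 := fun x hx => by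
    by_contra hne
    have h1 := hoddπ.of_dvd_nat (orderOf_dvd_natCard x)
    rw [orderOf_two_iff.2 ⟨hx, hne⟩] at h1
    exact absurd h1 (by decide)
  have hflip : ∀ a ∈ L, u • (a • d) = a⁻¹ • d := fun a ha => by
    have h1 := invert_mod hu2 (fun c hc => U.commute_fix hu hc) hLodd (hNL huN) hder ha
    have h3 : (a * (u * a * u⁻¹ * a) * a⁻¹) • d = d :=
      hLfix _ (L.mul_mem (conj_mem_of_normalizer (hNL huN) ha) ha) h1 a ha
    calc u • (a • d) = (u * a * u⁻¹) • (u • d) := (conj_smul_smul u a d).symm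
      _ = (a⁻¹ * (a * (u * a * u⁻¹ * a) * a⁻¹)) • d := by rw [hud]; congr 1; group
      _ = a⁻¹ • d := by rw [mul_smul, h3]
  -- conjugating by elements of the block
  have hswap : ∀ h ∈ L, ∀ a ∈ L, (h * u * h⁻¹) • (a • d) = (h * (a⁻¹ * h)) • d := fun h hh a ha => by
    rw [show a • d = h • ((h⁻¹ * a) • d) by rw [← mul_smul, mul_inv_cancel_left], conj_smul_smul,
      hflip _ (L.mul_mem (L.inv_mem hh) ha), ← mul_smul, mul_inv_rev, inv_inv]
  have hsqrt : ∀ a ∈ L, ∀ b ∈ L, ∃ h ∈ L, (h * u * h⁻¹) • (a • d) = b • d := fun a ha b hb => by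
    obtain ⟨k, hk⟩ := hoddπ
    obtain ⟨x, hx⟩ : ∃ x : L, x = (⟨a, ha⟩ * ⟨b, hb⟩) ^ (k + 1) := ⟨_, rfl⟩
    refine ⟨x, x.2, ?_⟩
    rw [hswap x x.2 a ha]
    refine hπeq (a := x * (⟨a, ha⟩⁻¹ * x)) (b := ⟨b, hb⟩) ?_
    have h1 : π x * π x = π ⟨a, ha⟩ * π ⟨b, hb⟩ := by
      rw [hx, map_pow, ← pow_add, show k + 1 + (k + 1) = 2 * k + 1 + 1 by ring, pow_succ, ← hk, pow_card_eq_one',
        one_mul, map_mul]
    rw [map_mul, map_mul, map_inv, ← mul_assoc, mul_assoc (π x), ]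
    calc π x * ((π ⟨a, ha⟩)⁻¹ * π x) = (π ⟨a, ha⟩)⁻¹ * (π x * π x) := by
          rw [← mul_assoc, ← mul_assoc, ← map_inv, hπc x]
      _ = π ⟨b, hb⟩ := by rw [h1, inv_mul_cancel_left]
  -- an element fixing `a • d` and `a⁻¹ • d`
  have hmid : ∀ a ∈ L, ∀ n ∈ N, n • (a • d) = a • d → n • (a⁻¹ • d) = a⁻¹ • d → n • d = d := by
    intro a ha m hm hma hmb
    obtain ⟨c, hcL, hc⟩ : ∃ c ∈ L, m • d = c • d := by
      refine ⟨m * a⁻¹ * m⁻¹ * a, L.mul_mem (conj_mem_of_normalizer (hNL hm) (L.inv_mem ha)) ha, ?_⟩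
      rw [mul_smul (m * a⁻¹ * m⁻¹), ← hma]
      conv_rhs => rw [conj_smul_smul, inv_smul_smul]
    -- `c u c⁻¹` and `m u m⁻¹` are involutions at `c • d`
    have hv2 : orderOf (m * u * m⁻¹) = 2 := (orderOf_conj_eq m u).trans hu2
    have hvd : (m * u * m⁻¹) • (c • d) = c • d := by rw [← hc, conj_smul_smul, hud]
    have hvg : (m * u * m⁻¹) • (a • d) = a⁻¹ • d := by
      conv_lhs => rw [← hma]
      rw [conj_smul_smul, hflip a ha, hmb]
    have hvN : m * u * m⁻¹ ∈ N := mul_mem (mul_mem hm huN) (inv_mem hm)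
    have hac : a * c⁻¹ ∈ L := L.mul_mem ha (L.inv_mem hcL)
    have hinv := invert_mod hv2 (fun x hx => U.commute_fix ⟨hv2, hvd⟩ hx) hLodd (hNL hvN)
      (fun x hx y hy => by
        have hxy : x * y * x⁻¹ * y⁻¹ ∈ L := L.mul_mem (L.mul_mem (L.mul_mem hx hy) (L.inv_mem hx)) (L.inv_mem hy)
        have h1 := hLfix _ hxy (hder x hx y hy) c⁻¹ (L.inv_mem hcL)
        rw [inv_inv, mul_smul, mul_smul, inv_smul_eq_iff] at h1
        exact h1) (a := a * c⁻¹) hac
    obtain ⟨k, hk⟩ : ∃ k, k = (m * u * m⁻¹) * (a * c⁻¹) * (m * u * m⁻¹)⁻¹ := ⟨_, rfl⟩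
    have hvl : a⁻¹ • d = k • (c • d) := by
      rw [← hvg, hk]
      conv_rhs => rw [← hvd, conj_smul_smul, mul_smul a c⁻¹, inv_smul_smul]
    rw [← hk] at hinv
    have hkL : k ∈ L := hk ▸ conj_mem_of_normalizer (hNL hvN) hac
    have hcinv : ∀ {x : G} (hx : x ∈ L), x • (c • d) = c • d → π ⟨x, hx⟩ = 1 := fun {x} hx h => by
      rw [hπ]
      have h1 : (c⁻¹ * x * c) • d = d := by rw [mul_smul, mul_smul, inv_smul_eq_iff, h]
      have h2 := hLfix _ (L.mul_mem (L.mul_mem (L.inv_mem hcL) hx) hcL) h1 c hcL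
      simpa [mul_assoc] using h2
    obtain ⟨K', hK'⟩ : ∃ K', K' = π ⟨k, hkL⟩ := ⟨_, rfl⟩
    obtain ⟨C, hC⟩ : ∃ C, C = π ⟨c, hcL⟩ := ⟨_, rfl⟩
    obtain ⟨A, hA⟩ : ∃ A, A = π ⟨a, ha⟩ := ⟨_, rfl⟩
    have e1 : K' * (A * C⁻¹) = 1 := by
      rw [hK', hA, hC, ← map_inv, ← map_mul, ← map_mul]
      exact hcinv (L.mul_mem hkL hac) hinv
    have e2 : A * (K' * C) = 1 := by
      rw [hK', hA, hC, ← map_mul, ← map_mul, hπ]
      show (a * (k * c)) • d = d
      rw [mul_smul, mul_smul, ← hvl, smul_inv_smul]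
    have e3 : C * C = 1 := by
      have h5 : A * (K' * C) = K' * (A * C⁻¹) * (C * C) := by
        have hAK : A * K' = K' * A := by rw [hA, hK']; exact hπc _ _
        calc A * (K' * C) = (A * K') * C := by group
          _ = (K' * A) * C := by rw [hAK]
          _ = _ := by group
      rwa [e2, e1, one_mul, eq_comm] at h5
    have e4 := hsq C e3
    rw [hC, hπ] at e4
    rw [hc]
    exact e4
  obtain ⟨l, hlL, hld⟩ := Set.not_subset.1 hLd
  refine ⟨L, hLN, hLodd, ⟨l, hlL, fun e => hld (mem_stabilizer_iff.2 e)⟩, hflip, hmid, ?_⟩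
  intro a ha b hb _
  obtain ⟨h, hh, hab⟩ := hsqrt a ha b hb
  refine ⟨h, hh, hab, fun m hm hma hmb => ?_⟩
  have h1 : (h⁻¹ * a) • d = h⁻¹ • (a • d) := mul_smul _ _ _
  have h2 : (h⁻¹ * a)⁻¹ • d = h⁻¹ • (b • d) := by
    rw [← hflip _ (L.mul_mem (L.inv_mem hh) ha), ← hab, mul_smul h⁻¹ a, mul_smul, mul_smul, inv_smul_smul]
  have h3 := hmid _ (L.mul_mem (L.inv_mem hh) ha) (h⁻¹ * m * h)
    (mul_mem (mul_mem (inv_mem (hLN hh)) hm) (hLN hh))
    (by rw [h1, mul_smul, mul_smul, smul_inv_smul, hma]) (by rw [h2, mul_smul, mul_smul, smul_inv_smul, hmb])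
  rw [mul_smul, mul_smul, inv_smul_eq_iff] at h3
  exact h3

/-- A group of odd order normalised by `u` and by a group generated by elements inverted by `u` fixes the centre, up
to the centraliser of that group. -/
theorem exists_commute_move {u : G} {d : Ω} (hu : orderOf u = 2) (hCu : ∀ c, Commute c u → c • d = d)
    {V : Subgroup G} (hVd : V ≤ stabilizer G d) (hVodd : Odd (Nat.card V))
    (hgen : V ≤ closure (invertedBy u V)) :
    ∀ (n : ℕ) (X : Subgroup G), Nat.card X = n → Odd (Nat.card X) → (Nat.card V).Coprime (Nat.card X) →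
      u ∈ normalizer (X : Set G) → V ≤ normalizer (X : Set G) → ¬ X ≤ stabilizer G d →
      ∃ c ∈ X, (∀ v ∈ V, Commute c v) ∧ c • d ≠ d := by
  intro n
  induction n using Nat.strong_induction_on with
  | _ n ih =>
  intro X hn hX hcop huX hVX hXd
  by_cases hD : ⁅X, X⁆ ≤ stabilizer G d
  swap
  · obtain ⟨c, hc, hcV, hcd⟩ := ih _ (hn ▸ card_derived_lt hX fun e => hXd (e ▸ bot_le)) _ rfl
      (hX.of_dvd_nat (Subgroup.card_dvd_of_le (commutator_le_self X)))
      (hcop.coprime_dvd_right (Subgroup.card_dvd_of_le (commutator_le_self X)))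
      (mem_normalizer_derived huX) (fun v hv => mem_normalizer_derived (hVX hv)) hD
    exact ⟨c, commutator_le_self X hc, hcV, hcd⟩
  obtain ⟨a, ha, had⟩ := Set.not_subset.1 hXd
  obtain ⟨Xd, hXd'⟩ : ∃ Xd, Xd = X ⊓ stabilizer G d := ⟨_, rfl⟩
  have hmem : ∀ {x : G}, x ∈ Xd ↔ x ∈ X ∧ x • d = d := fun {x} => by
    rw [hXd', Subgroup.mem_inf, mem_stabilizer_iff]
  have hle : Xd ≤ X := hXd' ▸ inf_le_left
  have hder : ∀ a ∈ X, ∀ b ∈ X, (a * b * a⁻¹ * b⁻¹) • d = d := fun a ha b hb =>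
    mem_stabilizer_iff.1 (hD (Subgroup.commutator_mem_commutator ha hb))
  have hXX : X ≤ normalizer (Xd : Set G) := fun a ha => mem_normalizer_fintype fun b hb => by
    obtain ⟨hb1, hb2⟩ := hmem.1 hb
    refine hmem.2 ⟨X.mul_mem (X.mul_mem ha hb1) (X.inv_mem ha), ?_⟩
    rw [show a * b * a⁻¹ = (a * b * a⁻¹ * b⁻¹) * b by group, mul_smul, hb2, hder a ha b hb1]
  have hnd : ∀ g ∈ normalizer (X : Set G), g • d = d → g ∈ normalizer (Xd : Set G) := fun g hg hgd =>
    mem_normalizer_fintype fun b hb => by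
      obtain ⟨hb1, hb2⟩ := hmem.1 hb
      refine hmem.2 ⟨conj_mem_of_normalizer hg hb1, ?_⟩
      conv_lhs => rw [← hgd]
      rw [conj_smul_smul, hb2, hgd]
  have hVXd : V ≤ normalizer (Xd : Set G) := fun v hv => hnd v (hVX hv) (mem_stabilizer_iff.1 (hVd hv))
  have hud : u • d = d := hCu u (Commute.refl u)
  have huXd := hnd u huX hud
  -- the elements acting trivially modulo `Xd`
  let T : Set G := {y | y ∈ V ∧ ∀ x ∈ X, y * x * y⁻¹ * x⁻¹ ∈ Xd}
  have hinv : invertedBy u V ⊆ T := by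
    rintro y ⟨hy, hyu⟩
    have hy2 : ∀ x ∈ X, (y * y) * x * (y * y)⁻¹ * x⁻¹ ∈ Xd := by
      intro x hx
      obtain ⟨b, hb⟩ : ∃ b, b = y * x * y⁻¹ := ⟨_, rfl⟩
      have hbX : b ∈ X := hb ▸ conj_mem_of_normalizer (hVX hy) hx
      have hyb : y * b * y⁻¹ ∈ X := conj_mem_of_normalizer (hVX hy) hbX
      have hm : ∀ z ∈ X, u * z * u⁻¹ * z ∈ Xd := fun z hz =>
        hmem.2 ⟨X.mul_mem (conj_mem_of_normalizer huX hz) hz, invert_mod hu hCu hX huX hder hz⟩
      have h7 := conj_mem_of_normalizer (hVXd hy) (hm b hbX)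
      have e0 : y * (u * b * u⁻¹ * b) * y⁻¹ = u * x * u⁻¹ * (y * b * y⁻¹) := by
        have huy : u * y = y⁻¹ * u := by rw [← hyu]; group
        rw [hb]
        calc y * (u * (y * x * y⁻¹) * u⁻¹ * (y * x * y⁻¹)) * y⁻¹
            = y * ((u * y) * x * (u * y)⁻¹) * (y * x * y⁻¹ * y⁻¹) := by group
          _ = _ := by rw [huy]; group
      rw [e0] at h7
      have h10 := conj_mem_of_normalizer (hXX hx) (Xd.mul_mem (Xd.inv_mem (hm x hx)) h7)
      rw [hb] at h10
      convert h10 using 1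
      group
    obtain ⟨k, hk⟩ := hVodd.of_dvd_nat (Subgroup.orderOf_dvd_natCard _ hy)
    have hpow : ∀ j : ℕ, ∀ x ∈ X, (y * y) ^ j * x * ((y * y) ^ j)⁻¹ * x⁻¹ ∈ Xd := by
      intro j
      induction j with
      | zero => intro x _; simp
      | succ j ihj =>
        intro x hx
        have h1 := conj_mem_of_normalizer (hVXd (V.mul_mem hy hy)) (ihj x hx)
        have h2 := Xd.mul_mem h1 (hy2 x hx)
        rw [pow_succ', mul_inv_rev]
        convert h2 using 1
        generalize y * y = g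
        group
    refine ⟨hy, fun x hx => ?_⟩
    have h1 := hpow (k + 1) x hx
    rwa [← pow_two, ← pow_mul, show 2 * (k + 1) = orderOf y + 1 by omega, pow_succ, pow_orderOf_eq_one,
      one_mul] at h1
  have htriv : ∀ v ∈ V, ∀ x ∈ X, v * x * v⁻¹ * x⁻¹ ∈ Xd := by
    have key : ∀ v, v ∈ closure (invertedBy u V) → v ∈ T := by
      intro v hv
      induction hv using Subgroup.closure_induction with
      | mem y hy => exact hinv hy
      | one => exact ⟨V.one_mem, fun x _ => by simp⟩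
      | mul y z _ _ hy hz =>
        refine ⟨V.mul_mem hy.1 hz.1, fun x hx => ?_⟩
        have h1 := hy.2 _ (conj_mem_of_normalizer (hVX hz.1) hx)
        have h2 := Xd.mul_mem h1 (hz.2 x hx)
        convert h2 using 1
        group
      | inv y _ hy =>
        refine ⟨V.inv_mem hy.1, fun x hx => ?_⟩
        have h1 := Xd.inv_mem (hy.2 _ (conj_mem_of_normalizer' (hVX hy.1) hx))
        convert h1 using 1
        group
    exact fun v hv => (key v (hgen hv)).2
  obtain ⟨c, hc, hca⟩ := Grp.exists_fixed_rep V X Xd hVX (Subgroup.inf_eq_bot_of_coprime hcop)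
    (hcop.coprime_dvd_right (Subgroup.card_dvd_of_le hle)) (Or.inl (solvable_of_odd hVodd)) hle hXX hVXd
    (k := a) ha (fun g hg => htriv g hg a ha)
  refine ⟨c, (Subgroup.mem_inf.1 hc).1, fun v hv =>
    (Subgroup.mem_centralizer_iff.1 (Subgroup.mem_inf.1 hc).2 v hv).symm, fun hcd => ?_⟩
  refine had (mem_stabilizer_iff.2 (hmem.1 ?_).2)
  simpa using Xd.mul_mem (hmem.2 ⟨(Subgroup.mem_inf.1 hc).1, hcd⟩) (Xd.inv_mem hca)

/-- In a group of odd order normalised by an involution every element is uniquely an inverted element times a fixed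
one. -/
theorem card_inverted_mul {t : G} (ht : orderOf t = 2) {R : Subgroup G} (hodd : Odd (Nat.card R))
    (hn : t ∈ normalizer (R : Set G)) :
    Nat.card ↥(invertedBy t R) * Nat.card ↥(R ⊓ centralizer ({t} : Set G)) = Nat.card R := by
  rw [← Nat.card_prod]
  have htt := mul_self_of_orderOf_two ht
  have hti := inv_of_orderOf_two ht
  refine Nat.card_congr (Equiv.ofBijective
    (fun p : ↥(invertedBy t R) × ↥(R ⊓ centralizer ({t} : Set G)) =>
      (⟨(p.1 : G) * (p.2 : G), R.mul_mem p.1.2.1 (Subgroup.mem_inf.1 p.2.2).1⟩ : R)) ⟨?_, ?_⟩)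
  · rintro ⟨⟨j, hj, hjt⟩, ⟨c, hc⟩⟩ ⟨⟨j', hj', hjt'⟩, ⟨c', hc'⟩⟩ h
    have h1 : j * c = j' * c' := congrArg Subtype.val h
    obtain ⟨hcR, hct⟩ := Subgroup.mem_inf.1 hc
    obtain ⟨hcR', hct'⟩ := Subgroup.mem_inf.1 hc'
    rw [mem_centralizer_singleton_iff] at hct hct'
    have h2 : j⁻¹ * c = j'⁻¹ * c' := by
      rw [← hjt, ← hjt']
      calc t * j * t⁻¹ * c = t * (j * c) * t⁻¹ := by
            rw [mul_assoc (t * j), ← (Commute.inv_right (show Commute c t from hct)).eq]; group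
        _ = t * (j' * c') * t⁻¹ := by rw [h1]
        _ = _ := by rw [mul_assoc (t * j'), ← (Commute.inv_right (show Commute c' t from hct')).eq]; group
    have e1 : j'⁻¹ * j = c' * c⁻¹ := by
      calc j'⁻¹ * j = j'⁻¹ * (j * c) * c⁻¹ := by group
        _ = _ := by rw [h1]; group
    have e2 : j' * j⁻¹ = c' * c⁻¹ := by
      calc j' * j⁻¹ = j' * (j⁻¹ * c) * c⁻¹ := by group
        _ = _ := by rw [h2]; group
    have e3 : j * j = j' * j' := by
      calc j * j = j' * (j'⁻¹ * j) * j := by group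
        _ = j' * (j' * j⁻¹) * j := by rw [e1, e2]
        _ = _ := by group
    obtain rfl := eq_of_sq_eq hodd hj hj' e3
    obtain rfl := mul_left_cancel h1
    rfl
  · rintro ⟨g, hg⟩
    obtain ⟨y, hy⟩ : ∃ y, y = g * (t * g⁻¹ * t⁻¹) := ⟨_, rfl⟩
    have hyR : y ∈ R := hy ▸ R.mul_mem hg (conj_mem_of_normalizer hn (R.inv_mem hg))
    obtain ⟨n, hn'⟩ := hodd.of_dvd_nat (Subgroup.orderOf_dvd_natCard _ hyR)
    have hty : t * y * t⁻¹ = y⁻¹ := by
      rw [hy]
      calc t * (g * (t * g⁻¹ * t⁻¹)) * t⁻¹ = t * g * t * g⁻¹ * (t * t)⁻¹ := by group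
        _ = _ := by
          rw [htt, inv_one, mul_one]
          simp only [mul_inv_rev, inv_inv, hti]
          group
    obtain ⟨j, hj⟩ : ∃ j, j = y ^ (n + 1) := ⟨_, rfl⟩
    have hj2 : j * j = y := by
      rw [hj, ← pow_add, show n + 1 + (n + 1) = orderOf y + 1 by omega, pow_succ, pow_orderOf_eq_one, one_mul]
    have htj : t * j * t⁻¹ = j⁻¹ := by rw [hj, ← conj_pow, hty, inv_pow]
    have hjR : j ∈ R := hj ▸ pow_mem hyR _
    have e1 : t * j⁻¹ * t⁻¹ = j := by
      have h3 := congrArg (·⁻¹) htj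
      simpa [mul_assoc] using h3
    refine ⟨(⟨j, hjR, htj⟩, ⟨j⁻¹ * g, Subgroup.mem_inf.2 ⟨R.mul_mem (R.inv_mem hjR) hg, ?_⟩⟩), Subtype.ext (by
      show j * (j⁻¹ * g) = g
      rw [mul_inv_cancel_left])⟩
    rw [mem_centralizer_singleton_iff]
    have e2 : y = g * t * g⁻¹ * t := by rw [hy]; simp only [hti, mul_assoc]
    calc j⁻¹ * g * t = j⁻¹ * (g * t * g⁻¹ * t) * t⁻¹ * g := by group
      _ = j⁻¹ * (j * j) * t⁻¹ * g := by rw [← e2, hj2]
      _ = j * t⁻¹ * g := by rw [← mul_assoc, inv_mul_cancel, one_mul]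
      _ = t * j⁻¹ * t⁻¹ * t⁻¹ * g := by rw [e1]
      _ = _ := by rw [hti, mul_assoc (t * j⁻¹), htt, mul_one, mul_assoc]

variable {p : ℕ} [hp : Fact p.Prime]

/-- The number of elements of an invariant Sylow subgroup of a pair stabiliser inverted by the swapper is the
`p`-part of the number of involutions at a point. -/
theorem card_inverted_sylow (U : Hyp G Ω) {u : G} {d g : Ω} (hu : u ∈ invAt G d) (hg : g ≠ d) {R : Subgroup G}
    (hR : Grp.IsSylowIn p R (pairStab G g (u • g))) (huR : u ∈ normalizer (R : Set G)) :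
    Nat.card ↥(invertedBy u R) = p ^ (Nat.card ↥(invAt G d)).factorization p := by
  have hgb : g ≠ u • g := fun e => hg (U.fix_eq hu e.symm)
  have hodd := U.odd_pair hgb
  obtain ⟨D, hD⟩ : ∃ D, D = pairStab G g (u • g) := ⟨_, rfl⟩
  rw [← hD] at hR hodd
  obtain ⟨C, hC⟩ : ∃ C, C = D ⊓ centralizer ({u} : Set G) := ⟨_, rfl⟩
  have hu2 := hu.1
  have hcop : (Nat.card (Subgroup.zpowers u)).Coprime (Nat.card D) := coprime_two_odd hu2 hodd
  have huD : Subgroup.zpowers u ≤ normalizer (D : Set G) := by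
    refine zpowers_le_normalizer (mem_normalizer_fintype fun y hy => ?_)
    rw [hD] at hy ⊢
    obtain ⟨h1, h2⟩ := mem_pair.1 hy
    refine mem_pair.2 ⟨?_, ?_⟩
    · conv_lhs => rw [← swap_symm hu2 (rfl : u • g = u • g)]
      rw [conj_smul_smul, h2, swap_symm hu2 rfl]
    · rw [conj_smul_smul, h1]
  have hRC : Nat.card ↥(R ⊓ centralizer ({u} : Set G)) = p ^ (Nat.card C).factorization p := by
    obtain ⟨S, hS⟩ := Grp.exists_isSylowIn p C
    have hSD : S ≤ D := hS.1.trans (hC ▸ inf_le_left)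
    have hSu : Subgroup.zpowers u ≤ normalizer (S : Set G) := by
      refine zpowers_le_normalizer (mem_normalizer_fintype fun y hy => ?_)
      have h1 : y ∈ C := hS.1 hy
      rw [hC, Subgroup.mem_inf, mem_centralizer_singleton_iff] at h1
      rwa [← h1.2, mul_inv_cancel_right]
    obtain ⟨Z, hZ, hZu, hSZ⟩ := Grp.exists_invariant_sylow_ge (Subgroup.zpowers u) D huD hcop (Or.inl inferInstance)
      (p := p) hSD hS.2.1 hSu
    obtain ⟨c, hc, hcR⟩ := Grp.invariant_sylow_conj (Subgroup.zpowers u) D huD hcop (Or.inl inferInstance) hZ hR hZu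
      (zpowers_le_normalizer huR)
    have hcu : Commute c u :=
      ((Subgroup.mem_centralizer_iff.1 (Subgroup.mem_inf.1 hc).2) u (Subgroup.mem_zpowers u)).symm
    have hle : MulAut.conj c • S ≤ R ⊓ centralizer ({u} : Set G) := by
      refine le_inf (hcR ▸ Subgroup.pointwise_smul_le_pointwise_smul_iff.2 hSZ) ?_
      rintro _ ⟨y, hy, rfl⟩
      have h1 : y ∈ C := hS.1 hy
      rw [hC, Subgroup.mem_inf, mem_centralizer_singleton_iff] at h1
      rw [mem_centralizer_singleton_iff]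
      exact ((hcu.mul_left h1.2).mul_left hcu.inv_left).eq
    have h1 : p ^ (Nat.card C).factorization p ≤ Nat.card ↥(R ⊓ centralizer ({u} : Set G)) := by
      rw [← hS.card]
      refine le_trans ?_ (Subgroup.card_le_of_le hle)
      exact (Nat.card_congr (Subgroup.equivSMul (MulAut.conj c) S).toEquiv).le
    obtain ⟨k, hk⟩ := IsPGroup.iff_card.1 (hR.2.1.to_le (inf_le_left : R ⊓ centralizer ({u} : Set G) ≤ R))
    refine le_antisymm ?_ h1
    rw [hk]
    refine Nat.pow_le_pow_right hp.out.pos ((hp.out.pow_dvd_iff_le_factorization Nat.card_pos.ne').1 ?_)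
    rw [← hk, hC]
    exact Subgroup.card_dvd_of_le (inf_le_inf_right _ hR.1)
  have h2 := card_inverted_mul hu2 (hodd.of_dvd_nat (Subgroup.card_dvd_of_le hR.1)) huR
  have h3 := U.card_centralizer_swapper hgb (s := u) ⟨hu2, rfl⟩
  rw [← hD, ← hC, U.card_invAt g d] at h3
  rw [hR.card, hRC, ← h3, Nat.factorization_mul Nat.card_pos.ne' ?_, Finsupp.add_apply, pow_add, mul_comm] at h2
  · exact Nat.eq_of_mul_eq_mul_left (pow_pos hp.out.pos _) h2
  · exact fun e => by rw [e, mul_zero] at h3; exact absurd h3.symm Nat.card_pos.ne'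

/-- An invariant Sylow subgroup containing enough inverted elements of a subgroup fixing the centre fixes it. -/
theorem le_stabilizer_of_count (U : Hyp G Ω) {u : G} {d g : Ω} (hu : u ∈ invAt G d) (hg : g ≠ d)
    {R V : Subgroup G} (hR : Grp.IsSylowIn p R (pairStab G g (u • g))) (huR : u ∈ normalizer (R : Set G))
    (hVR : V ≤ R) (hVd : V ≤ stabilizer G d)
    (hV : p ^ (Nat.card ↥(invAt G d)).factorization p ≤ Nat.card ↥(invertedBy u V)) : R ≤ stabilizer G d := by
  have hsub : invertedBy u V ⊆ invertedBy u R := fun y hy => ⟨hVR hy.1, hy.2⟩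
  have heq : invertedBy u V = invertedBy u R := by
    refine Set.eq_of_subset_of_ncard_le hsub ?_ (Set.toFinite _)
    rw [← Nat.card_coe_set_eq, ← Nat.card_coe_set_eq, card_inverted_sylow U hu hg hR huR]
    exact hV
  have hgb : g ≠ u • g := fun e => hg (U.fix_eq hu e.symm)
  have hodd := (U.odd_pair hgb).of_dvd_nat (Subgroup.card_dvd_of_le hR.1)
  intro x hx
  obtain ⟨j, c, hj, hc, hct, hjt, rfl⟩ := U.exists_inverted_mul hgb (t := u) ⟨hu.1, rfl⟩ (hR.1 hx)
  -- the inverted part of `x` is in `R`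
  have hjR : j ∈ R := by
    have h1 : j * c * (u * (j * c)⁻¹ * u⁻¹) = j * j := by
      have h3 : u * j⁻¹ * u⁻¹ = j := by simpa [mul_assoc] using congrArg (·⁻¹) hjt
      calc j * c * (u * (j * c)⁻¹ * u⁻¹) = j * (c * (u * c⁻¹) * j⁻¹ * u⁻¹) := by group
        _ = j * (c * (c⁻¹ * u) * j⁻¹ * u⁻¹) := by rw [(Commute.inv_left hct).eq]
        _ = j * (u * j⁻¹ * u⁻¹) := by group
        _ = j * j := by rw [h3]
    have h2 : j * j ∈ R := h1 ▸ R.mul_mem hx (conj_mem_of_normalizer huR (R.inv_mem hx))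
    obtain ⟨k, hk⟩ := (U.odd_pair hgb).of_dvd_nat (Subgroup.orderOf_dvd_natCard _ hj)
    have : j = (j * j) ^ (k + 1) := by
      rw [← pow_two, ← pow_mul, show 2 * (k + 1) = orderOf j + 1 by omega, pow_succ, pow_orderOf_eq_one, one_mul]
    rw [this]
    exact pow_mem h2 _
  have hjd : j • d = d := mem_stabilizer_iff.1 (hVd (heq.ge ⟨hjR, hjt⟩ : j ∈ invertedBy u V).1)
  rw [mem_stabilizer_iff, mul_smul, U.commute_fix hu hct, hjd]

end Cfsg.Agent.Invol.Bender
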