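import Cfsg.Agent.Lib.Invol.Bender.Special
import Cfsg.Agent.Lib.Invol.BrauerSuzuki
import Cfsg.Agent.Lib.Transfer.Local.Normed

/-!
# A special element fixes only its centre

The core of the statement that a nontrivial element of a pair stabiliser inverted by a swapper has a centraliser of
odd order, for a faithful action and granted that no proper subgroup has a special element in its kernel.
-/

set_option autoImplicit false
set_option linter.unusedSectionVars false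

namespace Cfsg.Agent.Invol.Bender

open MulAction Subgroup Cfsg.Agent.Transfer.Loc
open scoped Pointwise

universe u v

variable {G : Type u} [Group G] [Finite G] {Ω : Type v} [MulAction G Ω]

/-- The normaliser of a group normalises its `p'`-core. -/
theorem mem_normalizer_O' {p : ℕ} {D : Subgroup G} {g : G}
    (hg : g ∈ normalizer (D : Set G)) : g ∈ normalizer (O' p D : Set G) :=
  le_normalizer_core (zpowers_le_normalizer hg) (mem_zpowers g)

/-- In a group of odd order with trivial `p'`-core the subgroup `Z(J(Y))` of a Sylow subgroup is normal. -/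
theorem le_normalizer_zj {p : ℕ} [Fact p.Prime] (hp2 : p ≠ 2) {D Y : Subgroup G} (hodd : Odd (Nat.card D))
    (hO : O' p D = ⊥) (hY : Grp.IsSylowIn p Y D) :
    D ≤ normalizer (Cfsg.centerThompsonAOf Y : Set G) := by
  haveI := solvable_of_odd hodd
  obtain ⟨T, rfl⟩ := Grp.isSylowIn_iff.1 hY
  have hF := isZJFunctor_centerThompsonA.{u} (p := p)
  have hcore : Cfsg.pPrimeCore p D = ⊥ := by
    rw [O'_eq, Subgroup.map_eq_bot_iff_of_injective _ D.subtype_injective] at hO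
    exact hO
  have hn : (Cfsg.centerThompsonAOf (T : Subgroup D)).Normal :=
    hF.normal hp2 (Grp.centralizer_pCore_le hcore)
      (fun V _ hV => Grp.Quad.isPStableOn_of_free hp2 (Fus.not_involves_qd_of_odd hp2 hodd) V hV) T
      ⟨le_rfl, fun _ _ _ h => h⟩
  rw [← hF.map D.subtype (T : Subgroup D) (fun x _ h => D.subtype_injective (by rw [h, map_one]))]
  intro x hx
  refine mem_normalizer_fintype fun z hz => ?_
  obtain ⟨y, hy, rfl⟩ := hz
  exact ⟨⟨x, hx⟩ * y * ⟨x, hx⟩⁻¹, hn.conj_mem y hy _, rfl⟩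

/-- An involution at `d` inverts a group of odd order modulo its stabiliser of `d`, if that contains the derived
group. -/
theorem invert_mod {u : G} {d : Ω} (hu : orderOf u = 2) (hCu : ∀ c, Commute c u → c • d = d) {L : Subgroup G}
    (hodd : Odd (Nat.card L)) (huL : u ∈ normalizer (L : Set G))
    (hd : ∀ a ∈ L, ∀ b ∈ L, (a * b * a⁻¹ * b⁻¹) • d = d) {a : G} (ha : a ∈ L) :
    (u * a * u⁻¹ * a) • d = d := by
  obtain ⟨Ld, hLd⟩ : ∃ Ld, Ld = L ⊓ stabilizer G d := ⟨_, rfl⟩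
  have hmem : ∀ {x : G}, x ∈ Ld ↔ x ∈ L ∧ x • d = d := fun {x} => by
    rw [hLd, Subgroup.mem_inf, mem_stabilizer_iff]
  have hLL : L ≤ normalizer (Ld : Set G) := fun a ha => mem_normalizer_fintype fun b hb => by
    obtain ⟨hb1, hb2⟩ := hmem.1 hb
    refine hmem.2 ⟨L.mul_mem (L.mul_mem ha hb1) (L.inv_mem ha), ?_⟩
    rw [show a * b * a⁻¹ = (a * b * a⁻¹ * b⁻¹) * b by group, mul_smul, hb2, hd a ha b hb1]
  have hud : u • d = d := hCu u (Commute.refl u)
  have huLd : u ∈ normalizer (Ld : Set G) := mem_normalizer_fintype fun b hb => by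
    obtain ⟨hb1, hb2⟩ := hmem.1 hb
    refine hmem.2 ⟨conj_mem_of_normalizer huL hb1, ?_⟩
    conv_lhs => rw [← hud]
    rw [conj_smul_smul, hb2, hud]
  have hua := conj_mem_of_normalizer huL ha
  have hle : Ld ≤ L := hLd ▸ inf_le_left
  have huu : u * u = 1 := mul_self_of_orderOf_two hu
  have hw : u * (u * a * u⁻¹ * a) * u⁻¹ = a * (u * a * u⁻¹) := by
    calc u * (u * a * u⁻¹ * a) * u⁻¹ = (u * u) * a * (u⁻¹ * a * u⁻¹) := by group
      _ = a * (u * a * u⁻¹) := by rw [huu, one_mul, inv_of_orderOf_two hu]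
  have hu2 : u ^ (2 : ℤ) = 1 := by
    rw [show (2 : ℤ) = ((2 : ℕ) : ℤ) from rfl, zpow_natCast, ← hu, pow_orderOf_eq_one]
  obtain ⟨c, hc, hcw⟩ := Grp.exists_fixed_rep (Subgroup.zpowers u) L Ld (zpowers_le_normalizer huL)
    (Subgroup.inf_eq_bot_of_coprime (coprime_two_odd hu hodd))
    (coprime_two_odd hu (hodd.of_dvd_nat (Subgroup.card_dvd_of_le hle))) (Or.inl inferInstance) hle hLL
    (zpowers_le_normalizer huLd) (k := u * a * u⁻¹ * a) (L.mul_mem hua ha) (by
      intro g hg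
      obtain ⟨k, rfl⟩ := Subgroup.mem_zpowers_iff.1 hg
      rcases Int.even_or_odd k with ⟨j, rfl⟩ | ⟨j, rfl⟩
      · rw [← two_mul, zpow_mul, hu2, one_zpow]
        simp
      · rw [zpow_add_one, zpow_mul, hu2, one_zpow, one_mul, hw]
        refine hmem.2 ⟨L.mul_mem (L.mul_mem ha hua) (L.inv_mem (L.mul_mem hua ha)), ?_⟩
        have h3 := hd _ ha _ hua
        convert h3 using 2
        group)
  have hcd : c ∈ Ld := hmem.2 ⟨(Subgroup.mem_inf.1 hc).1,
    hCu c (Subgroup.mem_centralizer_iff.1 (Subgroup.mem_inf.1 hc).2 u (Subgroup.mem_zpowers u)).symm⟩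
  have h4 := Ld.mul_mem hcd (Ld.inv_mem hcw)
  exact (hmem.1 (by simpa using h4)).2

namespace Hyp

variable (U : Hyp G Ω)
include U

/-- A proper subgroup of 2-rank two with a special element fixing a second centre cannot exist. -/
theorem false_of_overgroup (hNK : NoKernelSpecial G Ω) (hB : SplitBelow G Ω) {M : Subgroup G} (hM : M ≠ ⊤)
    (h2 : TwoRank M) {j u : G} {d e : Ω} (hj : Special j u d) (huM : u ∈ M) (hjM : j ∈ M)
    (he : e ∈ cen Ω M) (hed : e ≠ d) (hje : j • e = e) : False := by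
  have hd : d ∈ cen Ω M := ⟨u, huM, hj.invol.1, hj.invol.2⟩
  have hne : (cen Ω M).Nontrivial := ⟨d, hd, e, he, hed.symm⟩
  obtain ⟨Q, hQ⟩ := hB M hM hne h2 d hd
  exact hNK M hM hne h2 j u d huM hj
    (U.real_mem_ker hne hQ huM hj.invol hjM hj.odd hj.inverted (hj.fix U) he hed hje)

/-- Two involutions at different centres are conjugate by an element of any group containing both. -/
theorem exists_conj_centre {u w : G} (hu : orderOf u = 2) (hw : orderOf w = 2) {d e : Ω} (hd : u • d = d)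
    (he : w • e = e) (hde : d ≠ e) {M : Subgroup G} (huM : u ∈ M) (hwM : w ∈ M) :
    ∃ c ∈ M, c * u * c⁻¹ = w ∧ c • d = e := by
  obtain ⟨n, hn⟩ := U.odd_product hu hw hd he hde
  obtain ⟨k, hk⟩ : ∃ k, k = (u * w) ^ (n : ℤ) := ⟨_, rfl⟩
  have hkw : k * u * k⁻¹ = w := by
    rw [hk, ← zpow_neg, mul_assoc, mul_zpow_comm hu hw, neg_neg, ← mul_assoc, ← zpow_add]
    have h1 : (u * w) ^ ((n : ℤ) + n) = (u * w)⁻¹ := by
      rw [eq_inv_iff_mul_eq_one, ← zpow_add_one, show (n : ℤ) + n + 1 = ((2 * n + 1 : ℕ) : ℤ) by push_cast; ring,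
        zpow_natCast, ← hn, pow_orderOf_eq_one]
    rw [h1, mul_inv_rev, mul_assoc, inv_mul_cancel, mul_one, inv_of_orderOf_two hw]
  refine ⟨k, hk ▸ zpow_mem (mul_mem huM hwM) _, hkw, U.fix_unique w hw _ _ ?_ he⟩
  rw [← hkw, conj_smul_smul, hd]

/-- A nontrivial subgroup of a point stabiliser has a proper normaliser in a faithful action. -/
theorem normalizer_ne_top [FaithfulSMul G Ω] {W : Subgroup G} (hW : W ≠ ⊥) {d : Ω} (hd : W ≤ stabilizer G d) :
    normalizer (W : Set G) ≠ ⊤ := by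
  intro e
  refine hW (Subgroup.eq_bot_iff_forall _ |>.2 fun w hw => eq_of_smul_eq_smul fun x : Ω => ?_)
  obtain ⟨g, rfl⟩ := U.exists_smul_eq d x
  have h1 := mem_stabilizer_iff.1 (hd (conj_mem_of_normalizer' (e ▸ mem_top g) hw))
  rw [mul_smul, mul_smul, inv_smul_eq_iff] at h1
  rw [one_smul, h1]

/-- A subgroup containing all involutions at some point has 2-rank two if the group has. -/
theorem twoRank_of_invAt (hr : TwoRank (⊤ : Subgroup G)) {M : Subgroup G} {d : Ω}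
    (h : ∀ t ∈ invAt G d, t ∈ M) : TwoRank M := by
  obtain ⟨x, -, y, -, hx2, hy2, hxy, hc⟩ := hr
  obtain ⟨c, hxc⟩ := U.exists_fix x hx2
  have hyc : y • c = c := U.fix_of_commute hx2 hxc hc.symm
  obtain ⟨g, hgc⟩ := U.exists_smul_eq c d
  refine ⟨g * x * g⁻¹, h _ ⟨(orderOf_conj_eq g x).trans hx2, ?_⟩, g * y * g⁻¹,
    h _ ⟨(orderOf_conj_eq g y).trans hy2, ?_⟩,
    (orderOf_conj_eq g x).trans hx2, (orderOf_conj_eq g y).trans hy2,
    fun h => hxy (mul_left_cancel (mul_right_cancel h)), ?_⟩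
  · rw [← hgc, conj_smul_smul, hxc]
  · rw [← hgc, conj_smul_smul, hyc]
  · show g * x * g⁻¹ * (g * y * g⁻¹) = g * y * g⁻¹ * (g * x * g⁻¹)
    calc g * x * g⁻¹ * (g * y * g⁻¹) = g * (x * y) * g⁻¹ := by group
      _ = g * (y * x) * g⁻¹ := by rw [hc.eq]
      _ = _ := by group

end Hyp

/-- A Sylow subgroup of a pair stabiliser normalised by a swapper, fixing its centre and containing an element
special for it. -/
structure Tri (p : ℕ) (u : G) (d g : Ω) (Y : Subgroup G) : Prop where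
  invol : u ∈ invAt G d
  ne : g ≠ d
  normalises : u ∈ normalizer (Y : Set G)
  sylow : Grp.IsSylowIn p Y (pairStab G g (u • g))
  fix : Y ≤ stabilizer G d
  exists_special : ∃ j ∈ Y, Special j u d

variable {p : ℕ} [hp : Fact p.Prime]

theorem exists_tri (U : Hyp G Ω) [FaithfulSMul G Ω] (hNK : NoKernelSpecial G Ω) (hB : SplitBelow G Ω) {i u : G}
    {d g : Ω} (hs : Special i u d) (hip : orderOf i = p) (hg : g ≠ d) (hig : i • g = g) :
    ∃ (g' : Ω) (Y : Subgroup G), Tri p u d g' Y := by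
  classical
  have hu2 := hs.invol.1
  have hud := hs.invol.2
  let P : Subgroup G → Prop := fun Y => IsPGroup p Y ∧ u ∈ normalizer (Y : Set G) ∧ Y ≤ stabilizer G d ∧
    (∃ x : Ω, x ≠ d ∧ Y ≤ stabilizer G x) ∧ ∃ j ∈ Y, Special j u d
  have hP0 : P (zpowers i) := by
    refine ⟨IsPGroup.of_card (n := 1) (by rw [Nat.card_zpowers, hip, pow_one]),
      mem_normalizer_fintype fun x hx => ?_, zpowers_le.2 (mem_stabilizer_iff.2 (hs.fix U)),
      ⟨g, hg, zpowers_le.2 (mem_stabilizer_iff.2 hig)⟩, i, mem_zpowers i, hs⟩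
    obtain ⟨k, rfl⟩ := mem_zpowers_iff.1 hx
    rw [← conj_zpow, hs.inverted]
    exact zpow_mem (inv_mem (mem_zpowers i)) k
  obtain ⟨Y, hY, hmax⟩ : ∃ Y, P Y ∧ ∀ Z, P Z → Nat.card Z ≤ Nat.card Y := by
    obtain ⟨Y, hY, hm⟩ := Set.exists_max_image {Y : Subgroup G | P Y} (fun Y => Nat.card Y) (Set.toFinite _)
      ⟨_, hP0⟩
    exact ⟨Y, hY, hm⟩
  obtain ⟨hYp, huY, hYd, ⟨g₁, hg₁, hYg₁⟩, j, hjY, hj⟩ := hY
  have hY1 : Y ≠ ⊥ := fun e => hj.ne_one (mem_bot.1 (e ▸ hjY))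
  have huy : ∀ {x : Ω}, Y ≤ stabilizer G x → Y ≤ stabilizer G (u • x) := by
    intro x hx y hy
    have h1 := hx (conj_mem_of_normalizer' huY hy)
    rw [mem_stabilizer_iff, mul_smul, mul_smul, inv_smul_eq_iff] at h1
    exact mem_stabilizer_iff.2 h1
  have hcpair : ∀ x : Ω, x ≠ d → x ≠ u • x := fun x hx e => hx (U.fix_eq hs.invol e.symm)
  have hunorm : ∀ x : Ω, u ∈ normalizer (pairStab G x (u • x) : Set G) := by
    intro x
    refine mem_normalizer_fintype fun y hy => ?_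
    obtain ⟨h1, h2⟩ := mem_pair.1 hy
    refine mem_pair.2 ⟨?_, ?_⟩
    · conv_lhs => rw [← swap_symm hu2 (rfl : u • x = u • x)]
      rw [conj_smul_smul, h2, swap_symm hu2 rfl]
    · rw [conj_smul_smul, h1]
  have hstep : ∀ x : Ω, x ≠ d → Y ≤ stabilizer G x →
      Tri p u d x Y ∨ ∃ n : G, n ∈ normalizer (Y : Set G) ∧ n • x = x ∧ n • (u • x) = u • x ∧ n • d ≠ d := by
    intro x hx hYx
    have hodd := U.odd_pair (hcpair x hx)
    obtain ⟨R, hR, huR, hYR⟩ := Grp.exists_invariant_sylow_ge (Subgroup.zpowers u) (pairStab G x (u • x))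
      (zpowers_le_normalizer (hunorm x)) (coprime_two_odd hu2 hodd) (Or.inl inferInstance) (p := p) (U := Y)
      (le_inf hYx (huy hYx)) hYp (zpowers_le_normalizer huY)
    by_cases hRY : Y = R
    · exact Or.inl ⟨hs.invol, hx, huY, hRY ▸ hR, hYd, j, hjY, hj⟩
    refine Or.inr ?_
    obtain ⟨Z, hZ⟩ : ∃ Z, Z = R ⊓ normalizer (Y : Set G) := ⟨_, rfl⟩
    have hlt : Y < Z := by
      refine lt_of_le_of_ne (hZ ▸ le_inf hYR le_normalizer) fun e => hRY (le_antisymm hYR ?_)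
      haveI := hR.2.1.isNilpotent
      have h1 : Y.subgroupOf R = ⊤ := by
        by_contra hne
        have hlt' := Group.normalizerCondition_of_isNilpotent (G := R) (Y.subgroupOf R) (lt_top_iff_ne_top.2 hne)
        refine hlt'.not_ge fun x hx => ?_
        rw [mem_subgroupOf, e, hZ]
        refine ⟨x.2, mem_normalizer_fintype fun y hy => ?_⟩
        exact mem_subgroupOf.1 (conj_mem_of_normalizer hx (x := ⟨y, hYR hy⟩) (mem_subgroupOf.2 hy))
      exact subgroupOf_eq_top.1 h1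
    have huZ : u ∈ normalizer (Z : Set G) := mem_normalizer_fintype fun z hz => by
      rw [hZ] at hz ⊢
      exact ⟨conj_mem_of_normalizer (huR (mem_zpowers u)) hz.1,
        mul_mem (mul_mem huY hz.2) (Subgroup.inv_mem _ huY)⟩
    have hZR : Z ≤ R := hZ ▸ inf_le_left
    by_contra hcon
    push Not at hcon
    have hZd : Z ≤ stabilizer G d := fun n hn => by
      have h1 := hR.1 (hZR hn)
      exact mem_stabilizer_iff.2 (hcon n (hZ ▸ hn : n ∈ R ⊓ normalizer (Y : Set G)).2 (mem_pair.1 h1).1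
        (mem_pair.1 h1).2)
    have := hmax Z ⟨hR.2.1.to_le hZR, huZ, hZd, ⟨x, hx, hZR.trans (hR.1.trans inf_le_left)⟩, j, hlt.le hjY, hj⟩
    exact hlt.ne (Subgroup.eq_of_le_of_card_ge hlt.le this)
  rcases hstep g₁ hg₁ hYg₁ with h | ⟨n, hnY, hng, -, hnd⟩
  · exact ⟨_, _, h⟩
  obtain ⟨N, hN⟩ : ∃ N, N = normalizer (Y : Set G) := ⟨_, rfl⟩
  have hNtop : N ≠ ⊤ := hN ▸ U.normalizer_ne_top hY1 hYd
  have huN : u ∈ N := hN ▸ huY
  have hnN : n ∈ N := hN ▸ hnY
  have hjN : j ∈ N := hN ▸ le_normalizer hjY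
  have hjnd : j • (n • d) = n • d := by
    have h1 := hYd (conj_mem_of_normalizer' hnY hjY)
    rw [mem_stabilizer_iff, mul_smul, mul_smul, inv_smul_eq_iff] at h1
    exact h1
  have hno : ¬ TwoRank N := fun h2 =>
    U.false_of_overgroup hNK hB hNtop h2 hj huN hjN (mem_cen_smul hnN ⟨u, huN, hu2, hud⟩) hnd hjnd
  have hone : BS.TwoRankOne N := by
    intro x y hx hy hxy
    by_contra hne
    exact hno ⟨x, x.2, y, y.2, (orderOf_coe x).trans hx, (orderOf_coe y).trans hy, fun e => hne (Subtype.ext e),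
      congrArg Subtype.val hxy.eq⟩
  obtain ⟨K, hKn, hKodd, hKz⟩ := BS.exists_odd_normal hone (z := (⟨u, huN⟩ : N)) (by rw [← orderOf_coe]; exact hu2)
  obtain ⟨O, hO⟩ : ∃ O, O = K.map N.subtype := ⟨_, rfl⟩
  have hNO : N ≤ normalizer (O : Set G) := fun x hx => mem_normalizer_fintype fun y hy => by
    rw [hO] at hy ⊢
    obtain ⟨z, hz, rfl⟩ := hy
    exact ⟨⟨x, hx⟩ * z * ⟨x, hx⟩⁻¹, hKn.conj_mem z hz _, rfl⟩
  have hOd : ¬ O ≤ stabilizer G d := by
    intro hle
    have h1 : u * n * u⁻¹ * n⁻¹ ∈ O := hO ▸ ⟨_, hKz ⟨n, hnN⟩, rfl⟩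
    have h2 := mem_stabilizer_iff.1 (hle h1)
    -- the conjugate of `u` by `n` fixes `d`
    have h3 : (n * u * n⁻¹) • d = d := by
      have h4 : n * u * n⁻¹ = u * (u * n * u⁻¹ * n⁻¹) := by
        simp only [inv_of_orderOf_two hu2, ← mul_assoc, mul_self_of_orderOf_two hu2, one_mul]
      rw [h4, mul_smul, h2, hud]
    exact hnd (U.fix_unique _ ((orderOf_conj_eq n u).trans hu2) _ _ (by rw [conj_smul_smul, hud]) h3)
  obtain ⟨L, ⟨hLO, hNL, hLd⟩, hLmin⟩ : ∃ L : Subgroup G, (L ≤ O ∧ N ≤ normalizer (L : Set G) ∧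
      ¬ L ≤ stabilizer G d) ∧ ∀ L' : Subgroup G, L' ≤ O → N ≤ normalizer (L' : Set G) → ¬ L' ≤ stabilizer G d →
      Nat.card L ≤ Nat.card L' := by
    obtain ⟨L, hL, hm⟩ := Set.exists_min_image
      {L : Subgroup G | L ≤ O ∧ N ≤ normalizer (L : Set G) ∧ ¬ L ≤ stabilizer G d} (fun L => Nat.card L)
      (Set.toFinite _) ⟨O, le_rfl, hNO, hOd⟩
    exact ⟨L, hL, fun L' h1 h2 h3 => hm L' ⟨h1, h2, h3⟩⟩
  have hLodd : Odd (Nat.card L) := by
    refine Odd.of_dvd_nat ?_ (Subgroup.card_dvd_of_le hLO)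
    rw [hO, Subgroup.card_map_of_injective N.subtype_injective]
    exact hKodd
  have hLN : L ≤ N := hLO.trans (hO ▸ map_subtype_le K)
  have hder : ∀ a ∈ L, ∀ b ∈ L, (a * b * a⁻¹ * b⁻¹) • d = d := by
    have hle : ⁅L, L⁆ ≤ L := Subgroup.commutator_le.2 fun a ha b hb =>
      L.mul_mem (L.mul_mem (L.mul_mem ha hb) (L.inv_mem ha)) (L.inv_mem hb)
    have hlt : ¬ L ≤ ⁅L, L⁆ := by
      intro hge
      have hVe : ⁅L, L⁆ = L := le_antisymm hle hge
      have hLbot : L ≠ ⊥ := fun e => hLd (e ▸ bot_le)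
      haveI : Nontrivial L := (Subgroup.nontrivial_iff_ne_bot L).2 hLbot
      haveI := solvable_of_odd hLodd
      refine (Group.IsSolvable.commutator_lt_top_of_nontrivial L).ne ?_
      rw [_root_.commutator_def]
      refine Subgroup.map_injective L.subtype_injective ?_
      rw [Subgroup.map_commutator, ← MonoidHom.range_eq_map, Subgroup.range_subtype, hVe]
    have hin : ⁅L, L⁆ ≤ stabilizer G d := by
      by_contra hcon
      have h1 := hLmin _ (hle.trans hLO) (fun x hx => by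
        refine mem_normalizer_fintype fun y hy => ?_
        have h2 : (⁅L, L⁆ : Subgroup G).map (MulAut.conj x).toMonoidHom ≤ ⁅L, L⁆ := by
          rw [Subgroup.map_commutator]
          refine Subgroup.commutator_mono ?_ ?_ <;>
          · rintro _ ⟨z, hz, rfl⟩
            exact conj_mem_of_normalizer (hNL hx) hz
        exact h2 ⟨y, hy, rfl⟩) hcon
      exact hlt (Subgroup.eq_of_le_of_card_ge hle h1).ge
    exact fun a ha b hb => mem_stabilizer_iff.1 (hin (Subgroup.commutator_mem_commutator ha hb))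
  obtain ⟨l, hlL, hld⟩ := Set.not_subset.1 hLd
  have hld' : l • d ≠ d := fun e => hld (mem_stabilizer_iff.2 e)
  have hLfix : ∀ a ∈ L, a • d = d → ∀ b ∈ L, (b * a * b⁻¹) • d = d := fun a ha had b hb => by
    rw [show b * a * b⁻¹ = (b * a * b⁻¹ * a⁻¹) * a by group, mul_smul, had, hder b hb a ha]
  have hYL : ∀ a ∈ L, Y ≤ stabilizer G (a • d) := fun a ha y hy => by
    have haY : a ∈ normalizer (Y : Set G) := hN ▸ hLN ha
    have h1 := mem_stabilizer_iff.1 (hYd (conj_mem_of_normalizer' haY hy))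
    rw [mul_smul, mul_smul, inv_smul_eq_iff] at h1
    exact mem_stabilizer_iff.2 h1
  have hflip : ∀ a ∈ L, u • (a • d) = a⁻¹ • d := fun a ha => by
    have h1 := invert_mod hu2 (fun c hc => U.commute_fix hs.invol hc) hLodd (hNL huN) hder ha
    have h3 : (a * (u * a * u⁻¹ * a) * a⁻¹) • d = d :=
      hLfix _ (L.mul_mem (conj_mem_of_normalizer (hNL huN) ha) ha) h1 a ha
    calc u • (a • d) = (u * a * u⁻¹) • (u • d) := (conj_smul_smul u a d).symm
      _ = (a⁻¹ * (a * (u * a * u⁻¹ * a) * a⁻¹)) • d := by rw [hud]; congr 1; group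
      _ = a⁻¹ • d := by rw [mul_smul, h3]
  rcases hstep (l • d) hld' (hYL l hlL) with h | ⟨m, hmY, hmg, hmb, hmd⟩
  · exact ⟨_, _, h⟩
  exfalso
  -- the element `m` moves `d` along `L`
  have hmN : m ∈ N := hN ▸ hmY
  obtain ⟨c, hcL, hc⟩ : ∃ c ∈ L, m • d = c • d := by
    refine ⟨m * l⁻¹ * m⁻¹ * l, L.mul_mem (conj_mem_of_normalizer (hNL hmN) (L.inv_mem hlL)) hlL, ?_⟩
    rw [mul_smul (m * l⁻¹ * m⁻¹), ← hmg]
    conv_rhs => rw [conj_smul_smul, inv_smul_smul]
  refine hmd ?_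
  -- the involution `m u m⁻¹` at `c • d` interchanges the same points
  have hv2 : orderOf (m * u * m⁻¹) = 2 := (orderOf_conj_eq m u).trans hu2
  have hvd : (m * u * m⁻¹) • (c • d) = c • d := by rw [← hc, conj_smul_smul, hud]
  have hvg : (m * u * m⁻¹) • (l • d) = l⁻¹ • d := by
    conv_lhs => rw [← hmg]
    rw [conj_smul_smul, hmb, hflip l hlL]
  have hinv := invert_mod hv2 (fun x hx => U.commute_fix ⟨hv2, hvd⟩ hx) hLodd
    (hNL (mul_mem (mul_mem hmN huN) (inv_mem hmN))) (fun a ha b hb => by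
      have hab : a * b * a⁻¹ * b⁻¹ ∈ L := L.mul_mem (L.mul_mem (L.mul_mem ha hb) (L.inv_mem ha)) (L.inv_mem hb)
      have h1 := hLfix _ hab (hder a ha b hb) c⁻¹ (L.inv_mem hcL)
      rw [inv_inv, mul_smul, mul_smul, inv_smul_eq_iff] at h1
      exact h1) (a := l * c⁻¹) (L.mul_mem hlL (L.inv_mem hcL))
  -- compute the image of `l • d`
  have hvl : (m * u * m⁻¹) • (l • d) = ((m * u * m⁻¹) * (l * c⁻¹) * (m * u * m⁻¹)⁻¹) • (c • d) := by
    conv_rhs => rw [← hvd, conj_smul_smul, mul_smul l c⁻¹, inv_smul_smul]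
  obtain ⟨k, hk⟩ : ∃ k, k = (m * u * m⁻¹) * (l * c⁻¹) * (m * u * m⁻¹)⁻¹ := ⟨_, rfl⟩
  rw [← hk] at hvl hinv
  rw [hvg] at hvl
  have hkL : k ∈ L := hk ▸ conj_mem_of_normalizer (hNL (mul_mem (mul_mem hmN huN) (inv_mem hmN)))
    (L.mul_mem hlL (L.inv_mem hcL))
  have hlcL : l * c⁻¹ ∈ L := L.mul_mem hlL (L.inv_mem hcL)
  -- modulo the stabiliser of `d` we compute in an abelian group
  let Ld : Subgroup L := (stabilizer G d).subgroupOf L
  haveI : Ld.Normal := ⟨fun a ha b => by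
    rw [Subgroup.mem_subgroupOf, mem_stabilizer_iff] at ha ⊢
    simpa using hLfix a a.2 ha b b.2⟩
  let π : L →* L ⧸ Ld := QuotientGroup.mk' Ld
  have hπ : ∀ {a : L}, π a = 1 ↔ (a : G) • d = d := fun {a} =>
    (QuotientGroup.eq_one_iff a).trans (by rw [Subgroup.mem_subgroupOf, mem_stabilizer_iff])
  have hπc : ∀ a b : L, π a * π b = π b * π a := fun a b => by
    rw [← mul_inv_eq_iff_eq_mul, ← mul_inv_eq_one, ← map_mul, ← map_inv, ← map_mul, ← map_inv, ← map_mul, hπ]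
    exact hder a a.2 b b.2
  obtain ⟨K', hK'⟩ : ∃ K', K' = π ⟨k, hkL⟩ := ⟨_, rfl⟩
  obtain ⟨C, hC⟩ : ∃ C, C = π ⟨c, hcL⟩ := ⟨_, rfl⟩
  obtain ⟨A, hA⟩ : ∃ A, A = π ⟨l, hlL⟩ := ⟨_, rfl⟩
  have hcinv : ∀ {a : G} (ha : a ∈ L), a • (c • d) = c • d → π ⟨a, ha⟩ = 1 := fun {a} ha h => by
    rw [hπ]
    have h1 : (c⁻¹ * a * c) • d = d := by rw [mul_smul, mul_smul, inv_smul_eq_iff, h]
    have h2 := hLfix _ (L.mul_mem (L.mul_mem (L.inv_mem hcL) ha) hcL) h1 c hcL
    simpa [mul_assoc] using h2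
  have e1 : K' * (A * C⁻¹) = 1 := by
    rw [hK', hA, hC, ← map_inv, ← map_mul, ← map_mul]
    exact hcinv (L.mul_mem hkL hlcL) hinv
  have e2 : A * (K' * C) = 1 := by
    rw [hK', hA, hC, ← map_mul, ← map_mul, hπ]
    show (l * (k * c)) • d = d
    rw [mul_smul, mul_smul, ← hvl, smul_inv_smul]
  have e3 : C * C = 1 := by
    have h5 : A * (K' * C) = K' * (A * C⁻¹) * (C * C) := by
      have hAK : A * K' = K' * A := by rw [hA, hK']; exact hπc _ _
      calc A * (K' * C) = (A * K') * C := by group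
        _ = (K' * A) * C := by rw [hAK]
        _ = _ := by group
    rwa [e2, e1, one_mul, eq_comm] at h5
  have e4 : C = 1 := by
    have hodd' : Odd (orderOf C) :=
      (hLodd.of_dvd_nat (Subgroup.card_quotient_dvd_card Ld)).of_dvd_nat (orderOf_dvd_natCard C)
    by_contra hne
    rw [orderOf_two_iff.2 ⟨e3, hne⟩] at hodd'
    exact absurd hodd' (by decide)
  rw [hC, hπ] at e4
  rw [hc]
  exact e4

/-- The third vertex of the triangle gives another triple with the same Sylow subgroup. -/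
theorem Tri.next (U : Hyp G Ω) {u : G} {d g : Ω} {Y : Subgroup G} (h : Tri p u d g Y) :
    ∃ (w : G) (e : Ω), w ∈ normalizer (Y : Set G) ∧ w • d = g ∧ e ≠ d ∧ Y ≤ stabilizer G e ∧
      Grp.IsSylowIn p Y (pairStab G d g) ∧ Tri p w e d Y ∧ w • e = e ∧ orderOf w = 2 := by
  have hu2 := h.invol.1
  have hud := h.invol.2
  have hgb : g ≠ u • g := fun e => h.ne (U.fix_eq h.invol e.symm)
  have hcard : Nat.card (pairStab G g (u • g)) = Nat.card (pairStab G d g) :=
    U.card_triangle hu2 hud rfl hgb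
  have hle : Y ≤ pairStab G d g := le_inf h.fix (h.sylow.1.trans inf_le_left)
  have hsyl : Grp.IsSylowIn p Y (pairStab G d g) := by
    refine ⟨hle, h.sylow.2.1, ?_⟩
    have h1 := Subgroup.card_mul_index (Y.subgroupOf (pairStab G d g))
    have h2 := Subgroup.card_mul_index (Y.subgroupOf (pairStab G g (u • g)))
    rw [Nat.card_congr (subgroupOfEquivOfLe hle).toEquiv] at h1
    rw [Nat.card_congr (subgroupOfEquivOfLe h.sylow.1).toEquiv, hcard, ← h1] at h2
    show ¬ p ∣ (Y.subgroupOf (pairStab G d g)).index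
    rw [← Nat.eq_of_mul_eq_mul_left Nat.card_pos h2]
    exact h.sylow.2.2
  obtain ⟨w₀, hw₀⟩ := U.exists_swap_pair h.ne.symm
  have hodd := U.odd_pair h.ne.symm
  have hw₀n : w₀ ∈ normalizer (pairStab G d g : Set G) := mem_normalizer_fintype fun y hy => by
    obtain ⟨h1, h2⟩ := mem_pair.1 hy
    refine mem_pair.2 ⟨?_, ?_⟩
    · conv_lhs => rw [← swap_symm hw₀.1 hw₀.2]
      rw [conj_smul_smul, h2, swap_symm hw₀.1 hw₀.2]
    · conv_lhs => rw [← hw₀.2]
      rw [conj_smul_smul, h1, hw₀.2]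
  obtain ⟨Y₀, hY₀, hwY₀⟩ := Grp.exists_invariant_sylow (Subgroup.zpowers w₀) (pairStab G d g)
    (zpowers_le_normalizer hw₀n) (coprime_two_odd hw₀.1 hodd) (Or.inl inferInstance) p
  obtain ⟨y, hy, hyY⟩ := hY₀.conj hsyl
  obtain ⟨hyd, hyg⟩ := mem_pair.1 hy
  obtain ⟨w, hw⟩ : ∃ w, w = y * w₀ * y⁻¹ := ⟨_, rfl⟩
  have hw2 : orderOf w = 2 := hw ▸ (orderOf_conj_eq y w₀).trans hw₀.1
  have hwd : w • d = g := by
    conv_lhs => rw [hw, ← hyd]
    rw [conj_smul_smul, hw₀.2, hyg]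
  have hwY : w ∈ normalizer (Y : Set G) := mem_normalizer_fintype fun z hz => by
    rw [← hyY] at hz ⊢
    obtain ⟨z₀, hz₀, rfl⟩ := hz
    refine ⟨w₀ * z₀ * w₀⁻¹, conj_mem_of_normalizer (hwY₀ (mem_zpowers w₀)) hz₀, ?_⟩
    simp [hw, mul_assoc]
  obtain ⟨e, he⟩ := U.exists_fix w hw2
  have hed : e ≠ d := fun e' => h.ne (by rw [← hwd, ← e', he])
  obtain ⟨c, hcY, hcu, hcd⟩ := U.exists_conj_centre hu2 hw2 hud he hed.symm h.normalises hwY
  have hYe : Y ≤ stabilizer G e := fun z hz => by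
    have h1 := mem_stabilizer_iff.1 (h.fix (conj_mem_of_normalizer' hcY hz))
    rw [mul_smul, mul_smul, hcd, inv_smul_eq_iff, hcd] at h1
    exact mem_stabilizer_iff.2 h1
  obtain ⟨j, hjY, hj⟩ := h.exists_special
  have hj' : Special (c * j * c⁻¹) w e := by
    refine ⟨⟨hw2, he⟩, ?_, fun e1 => hj.ne_one (conj_eq_one_iff.1 e1), by rw [orderOf_conj_eq]; exact hj.odd, ?_⟩
    · rw [← hcu]
      calc c * u * c⁻¹ * (c * j * c⁻¹) * (c * u * c⁻¹)⁻¹ = c * (u * j * u⁻¹) * c⁻¹ := by group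
        _ = _ := by rw [hj.inverted]; group
    · obtain ⟨z, hz, hzj⟩ := hj.exists_commute
      refine ⟨c * z * c⁻¹, (orderOf_conj_eq c z).trans hz, ?_⟩
      show c * z * c⁻¹ * (c * j * c⁻¹) = c * j * c⁻¹ * (c * z * c⁻¹)
      calc c * z * c⁻¹ * (c * j * c⁻¹) = c * (z * j) * c⁻¹ := by group
        _ = c * (j * z) * c⁻¹ := by rw [hzj.eq]
        _ = _ := by group
  exact ⟨w, e, hwY, hwd, hed, hYe, hsyl,
    ⟨⟨hw2, he⟩, hed.symm, hwY, by rw [hwd]; exact hsyl, hYe, _, conj_mem_of_normalizer hcY hjY, hj'⟩, he, hw2⟩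

/-- A special element fixes only its centre. -/
theorem special_no_fix (U : Hyp G Ω) [FaithfulSMul G Ω] (hr : TwoRank (⊤ : Subgroup G))
    (hNK : NoKernelSpecial G Ω) (hB : SplitBelow G Ω) {i u : G} {d g : Ω} (hs : Special i u d) (hg : g ≠ d) :
    i • g ≠ g := by
  intro hig
  classical
  haveI := U.finite_points
  -- pass to an element of prime order
  obtain ⟨p, hp, hpd⟩ := Nat.exists_prime_and_dvd (fun h => hs.ne_one (orderOf_eq_one_iff.1 h))
  haveI : Fact p.Prime := ⟨hp⟩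
  have hp2 : p ≠ 2 := fun e => Nat.not_even_iff_odd.2 hs.odd (even_iff_two_dvd.2 (e ▸ hpd))
  obtain ⟨k, hk⟩ := hpd
  have hord : orderOf (i ^ k) = p := by
    have h0 := orderOf_pos i
    have hk0 : k ≠ 0 := fun e => by rw [e, mul_zero] at hk; omega
    rw [orderOf_pow_of_dvd hk0 ⟨p, by rw [hk, mul_comm]⟩, hk, Nat.mul_div_cancel _ (Nat.pos_of_ne_zero hk0)]
  have hik : i ^ k ≠ 1 := fun e => hp.ne_one (by rw [← hord, e, orderOf_one])
  have hikg : (i ^ k) • g = g := mem_stabilizer_iff.1 (pow_mem (mem_stabilizer_iff.2 hig) k)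
  obtain ⟨g₀, Y₀, h₀⟩ := exists_tri U hNK hB (hs.pow hik) hord hg hikg
  -- maximise the core
  let S : Set (G × Ω × Ω × Subgroup G) := {t | Tri p t.1 t.2.1 t.2.2.1 t.2.2.2}
  obtain ⟨⟨u', d', g', Y⟩, hT, hmax⟩ := Set.exists_max_image S
    (fun t => Nat.card (O' p (pairStab G t.2.2.1 (t.1 • t.2.2.1)))) (Set.toFinite _) ⟨⟨u, d, g₀, Y₀⟩, h₀⟩
  replace hT : Tri p u' d' g' Y := hT
  obtain ⟨w, e, hwY, hwd, hed, hYe, hsyl, hT', hwe, hw2⟩ := Tri.next U hT
  obtain ⟨X, hX⟩ : ∃ X, X = O' p (pairStab G g' (u' • g')) := ⟨_, rfl⟩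
  obtain ⟨j, hjY, hj⟩ := hT.exists_special
  have hgb : g' ≠ u' • g' := fun e => hT.ne (U.fix_eq hT.invol e.symm)
  have hodd := U.odd_pair hgb
  have hodd1 : Odd (Nat.card (pairStab G d' g')) := U.odd_pair hT.ne.symm
  have huX : u' ∈ normalizer (X : Set G) := hX ▸ mem_normalizer_O' (mem_normalizer_fintype fun y hy => by
    obtain ⟨h1, h2⟩ := mem_pair.1 hy
    refine mem_pair.2 ⟨?_, ?_⟩
    · conv_lhs => rw [← swap_symm hT.invol.1 (rfl : u' • g' = u' • g')]
      rw [conj_smul_smul, h2, swap_symm hT.invol.1 rfl]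
    · rw [conj_smul_smul, h1])
  have hYX : Y ≤ normalizer (X : Set G) := fun y hy =>
    hX ▸ mem_normalizer_O' (le_normalizer (hT.sylow.1 hy))
  have hXle : X ≤ pairStab G g' (u' • g') := hX ▸ O'_le p _
  have hXcop : (Nat.card X).Coprime p := hX ▸ O'_coprime _
  have hcop : (orderOf j).Coprime (Nat.card X) := by
    obtain ⟨m, hm⟩ := hT.sylow.2.1 ⟨j, hjY⟩
    have hm' : j ^ p ^ m = 1 := congrArg Subtype.val hm
    exact ((hXcop.symm).pow_left m).coprime_dvd_left (orderOf_dvd_of_pow_eq_one hm')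
  have hXd : X ≤ stabilizer G d' := le_stabilizer_of_special hT.invol.1 (fun c hc => U.commute_fix hT.invol hc)
    (fun c hc => hj.commute_fix U hc) hj.odd hj.inverted _ X rfl
    (hodd.of_dvd_nat (Subgroup.card_dvd_of_le hXle)) hcop huX (hYX hjY)
  haveI := solvable_of_odd hodd1
  have hX1 : X ≤ O' p (pairStab G d' g') :=
    le_O'_of_sylow hsyl (le_inf hXd (hXle.trans inf_le_left)) hXcop hYX
  have hXeq : O' p (pairStab G d' g') = X := by
    refine (Subgroup.eq_of_le_of_card_ge hX1 ?_).symm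
    have h1 := hmax ⟨w, e, d', Y⟩ hT'
    dsimp only at h1
    rwa [hwd, ← hX] at h1
  have hwD : w ∈ normalizer (pairStab G d' g' : Set G) := mem_normalizer_fintype fun y hy => by
    obtain ⟨h1, h2⟩ := mem_pair.1 hy
    refine mem_pair.2 ⟨?_, ?_⟩
    · conv_lhs => rw [← swap_symm hw2 hwd]
      rw [conj_smul_smul, h2, swap_symm hw2 hwd]
    · conv_lhs => rw [← hwd]
      rw [conj_smul_smul, h1, hwd]
  -- a subgroup normalised by `u'`, `w` and the pair stabiliser of the triangle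
  have hfinal : ∀ W : Subgroup G, W ≠ ⊥ → W ≤ stabilizer G d' → u' ∈ normalizer (W : Set G) →
      w ∈ normalizer (W : Set G) → j ∈ normalizer (W : Set G) →
      pairStab G d' g' ≤ normalizer (W : Set G) → False := by
    intro W hW hWd huW hwW hjW hDW
    refine U.false_of_overgroup hNK hB (U.normalizer_ne_top hW hWd) (U.twoRank_of_invAt hr (d := d') ?_) hj huW hjW
      ⟨w, hwW, hw2, hwe⟩ hed (mem_stabilizer_iff.1 (hYe hjY))
    intro t ht
    obtain ⟨x, hx, rfl⟩ := U.exists_conj_invAt hT.ne.symm hT.invol ht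
    exact mul_mem (mul_mem (hDW hx) huW) (inv_mem (hDW hx))
  by_cases hXb : X = ⊥
  · -- the centre of the Thompson subgroup
    have hY1 : Y ≠ ⊥ := fun e => hj.ne_one (mem_bot.1 (e ▸ hjY))
    have hF := isZJFunctor_centerThompsonA.{u} (p := p)
    refine hfinal (Cfsg.centerThompsonAOf Y) (hF.ne_bot hT.sylow.2.1 hY1) ((hF.le Y).trans hT.fix)
      (hF.normalizer_le Y hT.normalises) (hF.normalizer_le Y hwY) (hF.normalizer_le Y (le_normalizer hjY)) ?_
    exact le_normalizer_zj hp2 hodd1 (hXeq.trans hXb) hsyl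
  · refine hfinal X hXb hXd huX ?_ (hYX hjY) ?_
    · exact hXeq ▸ mem_normalizer_O' hwD
    · exact fun x hx => hXeq ▸ mem_normalizer_O' (le_normalizer hx)

end Cfsg.Agent.Invol.Bender
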