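import Cfsg.Agent.Lib.Invol.Bender.Block
import Cfsg.Agent.Lib.Invol.Bender.KerLocal

/-!
# A real element fixes only the centre it is inverted at

An element of odd order inverted by an involution whose centre it fixes has no further fixed point, granted that no
proper subgroup of 2-rank two with two centres has a special element in its kernel.
-/

set_option autoImplicit false
set_option linter.unusedSectionVars false

namespace Cfsg.Agent.Invol.Bender

open MulAction Subgroup Cfsg.Agent.Transfer.Loc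
open scoped Pointwise

universe u v

variable {G : Type u} [Group G] [Finite G] {Ω : Type v} [MulAction G Ω]

/-- No element of the kernel is inverted by an involution of the subgroup. -/
theorem false_of_real_mem_ker (U : Hyp G Ω) (hNK : NoKernelSpecial G Ω) {M : Subgroup G} (hM : M ≠ ⊤)
    (hcen : (cen Ω M).Nontrivial) (h2 : TwoRank M) {j u : G} {d : Ω} (huM : u ∈ M) (hu : u ∈ invAt G d)
    (hj : j ∈ ker Ω M) (hinv : u * j * u⁻¹ = j⁻¹) (hj1 : j ≠ 1) : False := by
  haveI : Fact (Nat.Prime 3) := ⟨Nat.prime_three⟩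
  have hodd := U.odd_ker hcen
  obtain ⟨V, hV, huV⟩ := Grp.exists_invariant_sylow (Subgroup.zpowers u) (ker Ω M)
    (zpowers_le_normalizer (le_normalizer_ker huM)) (coprime_two_odd hu.1 hodd) (Or.inl inferInstance) 3
  obtain ⟨e, heM, -, he2, hne, hec⟩ := U.exists_partner h2 hcen hV huM hu.1 (huV (mem_zpowers u))
  obtain ⟨i, hi, hs⟩ := exists_special (ker Ω M) hodd he2 hu hec hne (le_normalizer_ker heM) (le_normalizer_ker huM)
    ⟨j, hj, fun hc => hj1 (eq_one_of_sq_of_odd hodd hj (by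
      have h1 : u * j * u⁻¹ = j := by rw [hc.eq, mul_inv_cancel_right]
      rw [hinv] at h1
      nth_rewrite 2 [← h1]
      exact mul_inv_cancel j))⟩
  exact hNK M hM hcen h2 i u d huM hs hi

/-- No proper subgroup of 2-rank two contains a real element fixing a second centre. -/
theorem Hyp.false_of_real_overgroup (U : Hyp G Ω) (hNK : NoKernelSpecial G Ω) (hB : SplitBelow G Ω)
    {M : Subgroup G} (hM : M ≠ ⊤) (h2 : TwoRank M) {j u : G} {d e : Ω} (huM : u ∈ M) (hu : u ∈ invAt G d)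
    (hjM : j ∈ M) (hodd : Odd (orderOf j)) (hinv : u * j * u⁻¹ = j⁻¹) (hj1 : j ≠ 1) (hjd : j • d = d)
    (he : e ∈ cen Ω M) (hed : e ≠ d) (hje : j • e = e) : False := by
  have hd : d ∈ cen Ω M := ⟨u, huM, hu⟩
  have hne : (cen Ω M).Nontrivial := ⟨d, hd, e, he, hed.symm⟩
  obtain ⟨Q, hQ⟩ := hB M hM hne h2 d hd
  exact false_of_real_mem_ker U hNK hM hne h2 huM hu
    (U.real_mem_ker hne hQ huM hu hjM hodd hinv hjd he hed hje) hinv hj1

/-- An element inverted by `u` and fixing its centre. -/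
def IsReal (u j : G) : Prop := u * j * u⁻¹ = j⁻¹ ∧ j ≠ 1

theorem IsReal.conj {u j : G} (h : IsReal u j) (c : G) : IsReal (c * u * c⁻¹) (c * j * c⁻¹) := by
  refine ⟨?_, fun e => h.2 (conj_eq_one_iff.1 e)⟩
  calc c * u * c⁻¹ * (c * j * c⁻¹) * (c * u * c⁻¹)⁻¹ = c * (u * j * u⁻¹) * c⁻¹ := by group
    _ = _ := by rw [h.1]; group

/-- A Sylow subgroup of a pair stabiliser normalised by a swapper, fixing its centre and containing a real element. -/
structure RTri (p : ℕ) (u : G) (d g : Ω) (Y : Subgroup G) : Prop where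
  invol : u ∈ invAt G d
  ne : g ≠ d
  normalises : u ∈ normalizer (Y : Set G)
  sylow : Grp.IsSylowIn p Y (pairStab G g (u • g))
  fix : Y ≤ stabilizer G d
  exists_real : ∃ j ∈ Y, IsReal u j

theorem smul_fix {Y : Subgroup G} {n : G} (hn : n ∈ normalizer (Y : Set G)) {x : Ω} (hx : Y ≤ stabilizer G x) :
    Y ≤ stabilizer G (n • x) := fun y hy => by
  have h1 := mem_stabilizer_iff.1 (hx (conj_mem_of_normalizer' hn hy))
  rw [mul_smul, mul_smul, inv_smul_eq_iff] at h1
  exact mem_stabilizer_iff.2 h1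

variable {p : ℕ} [hp : Fact p.Prime] (U : Hyp G Ω) [FaithfulSMul G Ω]
include U

/-- The normaliser of a group containing a real element has 2-rank one if it moves the centre. -/
theorem twoRankOne_of_move (hNK : NoKernelSpecial G Ω) (hB : SplitBelow G Ω) {u j : G} {d : Ω}
    (hu : u ∈ invAt G d) {W : Subgroup G} (hodd : Odd (Nat.card W)) (hWd : W ≤ stabilizer G d)
    (huW : u ∈ normalizer (W : Set G)) (hjW : j ∈ W) (hj : IsReal u j) {n : G}
    (hn : n ∈ normalizer (W : Set G)) (hnd : n • d ≠ d) : BS.TwoRankOne (normalizer (W : Set G)) := by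
  intro x y hx hy hxy
  by_contra hne
  exact U.false_of_real_overgroup hNK hB (U.normalizer_ne_top (fun e => hj.2 (mem_bot.1 (e ▸ hjW))) hWd)
    ⟨x, x.2, y, y.2, (orderOf_coe x).trans hx, (orderOf_coe y).trans hy, fun e => hne (Subtype.ext e),
      congrArg Subtype.val hxy.eq⟩ huW hu (le_normalizer hjW)
    (hodd.of_dvd_nat (Subgroup.orderOf_dvd_natCard _ hjW)) hj.1 hj.2 (mem_stabilizer_iff.1 (hWd hjW))
    (mem_cen_smul hn ⟨u, huW, hu⟩) hnd (mem_stabilizer_iff.1 (smul_fix hn hWd hjW))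

theorem pair_normalizes {u : G} {d : Ω} (hu : u ∈ invAt G d) (x : Ω) :
    u ∈ normalizer (pairStab G x (u • x) : Set G) := mem_normalizer_fintype fun y hy => by
  obtain ⟨h1, h2⟩ := mem_pair.1 hy
  refine mem_pair.2 ⟨?_, ?_⟩
  · conv_lhs => rw [← swap_symm hu.1 (rfl : u • x = u • x)]
    rw [conj_smul_smul, h2, swap_symm hu.1 rfl]
  · rw [conj_smul_smul, h1]

/-- A real element fixing a second point gives such a triple. -/
theorem exists_rtri (hp2 : p ≠ 2) (hNK : NoKernelSpecial G Ω) (hB : SplitBelow G Ω) {j u : G} {d g : Ω}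
    (hu : u ∈ invAt G d) (hj : IsReal u j) (hjp : orderOf j = p) (hjd : j • d = d) (hg : g ≠ d) (hjg : j • g = g) :
    ∃ (g' : Ω) (Y : Subgroup G), RTri p u d g' Y := by
  classical
  let P : Subgroup G → Prop := fun Y => IsPGroup p Y ∧ u ∈ normalizer (Y : Set G) ∧ Y ≤ stabilizer G d ∧
    (∃ x : Ω, x ≠ d ∧ Y ≤ stabilizer G x) ∧ ∃ j ∈ Y, IsReal u j
  have hP0 : P (zpowers j) := by
    refine ⟨IsPGroup.of_card (n := 1) (by rw [Nat.card_zpowers, hjp, pow_one]),
      mem_normalizer_fintype fun x hx => ?_, zpowers_le.2 (mem_stabilizer_iff.2 hjd),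
      ⟨g, hg, zpowers_le.2 (mem_stabilizer_iff.2 hjg)⟩, j, mem_zpowers j, hj⟩
    obtain ⟨k, rfl⟩ := mem_zpowers_iff.1 hx
    rw [← conj_zpow, hj.1]
    exact zpow_mem (inv_mem (mem_zpowers j)) k
  obtain ⟨Y, hY, hmax⟩ : ∃ Y, P Y ∧ ∀ Z, P Z → Nat.card Z ≤ Nat.card Y := by
    obtain ⟨Y, hY, hm⟩ := Set.exists_max_image {Y : Subgroup G | P Y} (fun Y => Nat.card Y) (Set.toFinite _)
      ⟨_, hP0⟩
    exact ⟨Y, hY, hm⟩
  obtain ⟨hYp, huY, hYd, ⟨g₁, hg₁, hYg₁⟩, j', hjY, hj'⟩ := hY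
  have hodd : Odd (Nat.card Y) := by
    obtain ⟨a, ha⟩ := IsPGroup.iff_card.1 hYp
    rw [ha]; exact (hp.out.odd_of_ne_two hp2).pow
  have hstep : ∀ x : Ω, x ≠ d → Y ≤ stabilizer G x →
      RTri p u d x Y ∨ ∃ n : G, n ∈ normalizer (Y : Set G) ∧ n • x = x ∧ n • (u • x) = u • x ∧ n • d ≠ d := by
    intro x hx hYx
    by_cases hS : Grp.IsSylowIn p Y (pairStab G x (u • x))
    · exact Or.inl ⟨hu, hx, huY, hS, hYd, j', hjY, hj'⟩
    refine Or.inr ?_
    have hoddD := U.odd_pair (fun e => hx (U.fix_eq hu e.symm) : x ≠ u • x)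
    have hle : Y ≤ pairStab G x (u • x) := le_inf hYx (smul_fix huY hYx)
    obtain ⟨R, hR, huR, hYR⟩ := Grp.exists_invariant_sylow_ge (Subgroup.zpowers u) (pairStab G x (u • x))
      (zpowers_le_normalizer (pair_normalizes U hu x)) (coprime_two_odd hu.1 hoddD) (Or.inl inferInstance) (p := p)
      hle hYp (zpowers_le_normalizer huY)
    obtain ⟨Z', hZ', hZ'R, -, hZ'n⟩ := exists_larger hYp hYR fun h => hS ((h.eq_of_le hYR le_rfl hR.2.1) ▸ hR)
    obtain ⟨Z, hZ⟩ : ∃ Z, Z = R ⊓ normalizer (Y : Set G) := ⟨_, rfl⟩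
    have hlt : Y < Z := lt_of_lt_of_le hZ' (hZ ▸ le_inf hZ'R hZ'n)
    have huZ : u ∈ normalizer (Z : Set G) := mem_normalizer_fintype fun z hz => by
      rw [hZ] at hz ⊢
      exact ⟨conj_mem_of_normalizer (huR (mem_zpowers u)) hz.1,
        mul_mem (mul_mem huY hz.2) (Subgroup.inv_mem _ huY)⟩
    have hZR : Z ≤ R := hZ ▸ inf_le_left
    by_contra hcon
    push Not at hcon
    have hZd : Z ≤ stabilizer G d := fun n hn => mem_stabilizer_iff.2
      (hcon n (hZ ▸ hn : n ∈ R ⊓ normalizer (Y : Set G)).2 (mem_pair.1 (hR.1 (hZR hn))).1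
        (mem_pair.1 (hR.1 (hZR hn))).2)
    have := hmax Z ⟨hR.2.1.to_le hZR, huZ, hZd, ⟨x, hx, hZR.trans (hR.1.trans inf_le_left)⟩, j', hlt.le hjY, hj'⟩
    exact hlt.ne (Subgroup.eq_of_le_of_card_ge hlt.le this)
  rcases hstep g₁ hg₁ hYg₁ with h | ⟨n, hn, -, -, hnd⟩
  · exact ⟨_, _, h⟩
  obtain ⟨L, hLN, -, ⟨l, hl, hld⟩, hflip, hmid, -⟩ :=
    exists_block U (twoRankOne_of_move U hNK hB hu hodd hYd huY hjY hj' hn hnd) hu huY ⟨n, hn, hnd⟩
  rcases hstep (l • d) hld (smul_fix (hLN hl) hYd) with h | ⟨m, hm, hm1, hm2, hmd⟩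
  · exact ⟨_, _, h⟩
  · exact absurd (hmid l hl m hm hm1 (hflip l hl ▸ hm2)) hmd

/-- The closure of the elements of a triple inverted by its involution. -/
structure VCore (p : ℕ) (u : G) (d : Ω) (V : Subgroup G) : Prop where
  invol : u ∈ invAt G d
  normalises : u ∈ normalizer (V : Set G)
  pgroup : IsPGroup p V
  odd : Odd (Nat.card V)
  fix : V ≤ stabilizer G d
  gen : V ≤ Subgroup.closure (invertedBy u V)
  count : p ^ (Nat.card ↥(invAt G d)).factorization p ≤ Nat.card ↥(invertedBy u V)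
  exists_real : ∃ j ∈ V, IsReal u j

omit U [FaithfulSMul G Ω] hp in
theorem VCore.conj {u : G} {d : Ω} {V : Subgroup G} (U : Hyp G Ω) (h : VCore p u d V) {c : G}
    (hc : c ∈ normalizer (V : Set G)) : VCore p (c * u * c⁻¹) (c • d) V := by
  have himg : invertedBy (c * u * c⁻¹) V = (fun y => c * y * c⁻¹) '' invertedBy u V := by
    ext y
    constructor
    · rintro ⟨hy, hyi⟩
      refine ⟨c⁻¹ * y * c, ⟨conj_mem_of_normalizer' hc hy, ?_⟩, by group⟩
      calc u * (c⁻¹ * y * c) * u⁻¹ = c⁻¹ * (c * u * c⁻¹ * y * (c * u * c⁻¹)⁻¹) * c := by group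
        _ = _ := by rw [hyi]; group
    · rintro ⟨z, ⟨hz, hzi⟩, rfl⟩
      refine ⟨conj_mem_of_normalizer hc hz, ?_⟩
      calc c * u * c⁻¹ * (c * z * c⁻¹) * (c * u * c⁻¹)⁻¹ = c * (u * z * u⁻¹) * c⁻¹ := by group
        _ = _ := by rw [hzi]; group
  obtain ⟨j, hjV, hj⟩ := h.exists_real
  refine ⟨⟨(orderOf_conj_eq c u).trans h.invol.1, by rw [conj_smul_smul, h.invol.2]⟩,
    mul_mem (mul_mem hc h.normalises) (inv_mem hc), h.pgroup, h.odd, smul_fix hc h.fix, ?_, ?_,
    ⟨_, conj_mem_of_normalizer hc hjV, hj.conj c⟩⟩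
  · intro y hy
    have h1 := Subgroup.mem_map_of_mem (MulAut.conj c).toMonoidHom (h.gen (conj_mem_of_normalizer' hc hy))
    rw [MonoidHom.map_closure, show (MulAut.conj c).toMonoidHom (c⁻¹ * y * c) = y by simp [mul_assoc]] at h1
    rw [himg]
    exact h1
  · rw [himg, Nat.card_image_of_injective (fun a b hab => mul_left_cancel (mul_right_cancel hab))]
    rw [U.card_invAt (c • d) d]
    exact h.count

/-- Sylow subgroups of pair stabilisers above the inverted elements fix the centre. -/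
theorem VCore.exists_tri {u : G} {d g : Ω} {V : Subgroup G} (h : VCore p u d V) (hg : g ≠ d)
    (hVg : V ≤ stabilizer G g) : ∃ R, RTri p u d g R ∧ V ≤ R := by
  have hgb : g ≠ u • g := fun e => hg (U.fix_eq h.invol e.symm)
  obtain ⟨R, hR, huR, hVR⟩ := Grp.exists_invariant_sylow_ge (Subgroup.zpowers u) (pairStab G g (u • g))
    (zpowers_le_normalizer (pair_normalizes U h.invol g)) (coprime_two_odd h.invol.1 (U.odd_pair hgb))
    (Or.inl inferInstance) (p := p) (le_inf hVg (smul_fix h.normalises hVg)) h.pgroup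
    (zpowers_le_normalizer h.normalises)
  have huR' := huR (mem_zpowers u)
  obtain ⟨j, hjV, hj⟩ := h.exists_real
  exact ⟨R, ⟨h.invol, hg, huR', hR,
    le_stabilizer_of_count U h.invol hg hR huR' hVR h.fix h.count, j, hVR hjV, hj⟩, hVR⟩

theorem RTri.vcore {u : G} {d g : Ω} {Y : Subgroup G} (h : RTri p u d g Y) :
    VCore p u d (Subgroup.closure (invertedBy u Y)) := by
  have hle : Subgroup.closure (invertedBy u Y) ≤ Y := (Subgroup.closure_le _).2 fun y hy => hy.1
  have hsub : invertedBy u Y ⊆ invertedBy u (Subgroup.closure (invertedBy u Y)) := fun y hy =>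
    ⟨Subgroup.subset_closure hy, hy.2⟩
  have hgb : g ≠ u • g := fun e => h.ne (U.fix_eq h.invol e.symm)
  obtain ⟨j, hjY, hj⟩ := h.exists_real
  refine ⟨h.invol, mem_normalizer_fintype fun y hy => ?_, h.sylow.2.1.to_le hle,
    (U.odd_pair hgb).of_dvd_nat (Subgroup.card_dvd_of_le (hle.trans h.sylow.1)), hle.trans h.fix,
    Subgroup.closure_mono hsub, ?_, j, Subgroup.subset_closure ⟨hjY, hj.1⟩, hj⟩
  · have hcl : Subgroup.closure (invertedBy u Y) ≤
        (Subgroup.closure (invertedBy u Y)).comap (MulAut.conj u).toMonoidHom := by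
      refine (Subgroup.closure_le _).2 fun z hz => ?_
      show u * z * u⁻¹ ∈ Subgroup.closure (invertedBy u Y)
      rw [hz.2]
      exact inv_mem (Subgroup.subset_closure hz)
    exact hcl hy
  · rw [← card_inverted_sylow U h.invol h.ne h.sylow h.normalises, Nat.card_coe_set_eq, Nat.card_coe_set_eq]
    exact Set.ncard_le_ncard hsub (Set.toFinite _)

/-- Two triangles with the same `p'`-core are contradictory. -/
theorem false_of_pair (hr : TwoRank (⊤ : Subgroup G)) (hp2 : p ≠ 2) (hNK : NoKernelSpecial G Ω)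
    (hB : SplitBelow G Ω) {u w j : G} {d g ε : Ω} {Y : Subgroup G} (hT : RTri p u d g Y) (hjY : j ∈ Y)
    (hj : IsReal u j) (hw : orderOf w = 2) (hwd : w • d = g) (hwε : w • ε = ε) (hjε : j • ε = ε)
    (hXd : O' p (pairStab G g (u • g)) ≤ stabilizer G d)
    (hcard : Nat.card ↥(O' p (pairStab G d g)) ≤ Nat.card ↥(O' p (pairStab G g (u • g)))) : False := by
  have hu2 := hT.invol.1
  have hud := hT.invol.2
  have hgb : g ≠ u • g := fun e => hT.ne (U.fix_eq hT.invol e.symm)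
  have hodd := U.odd_pair hgb
  have hodd1 := U.odd_pair hT.ne.symm
  have hεd : ε ≠ d := fun e => hT.ne (by rw [← hwd, ← e, hwε])
  have hle : Y ≤ pairStab G d g := le_inf hT.fix (hT.sylow.1.trans inf_le_left)
  have hsyl : Grp.IsSylowIn p Y (pairStab G d g) := by
    refine ⟨hle, hT.sylow.2.1, ?_⟩
    have h1 := Subgroup.card_mul_index (Y.subgroupOf (pairStab G d g))
    have h2 := Subgroup.card_mul_index (Y.subgroupOf (pairStab G g (u • g)))
    rw [Nat.card_congr (subgroupOfEquivOfLe hle).toEquiv] at h1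
    rw [Nat.card_congr (subgroupOfEquivOfLe hT.sylow.1).toEquiv, U.card_triangle hu2 hud rfl hgb, ← h1] at h2
    show ¬ p ∣ (Y.subgroupOf (pairStab G d g)).index
    rw [← Nat.eq_of_mul_eq_mul_left Nat.card_pos h2]
    exact hT.sylow.2.2
  obtain ⟨X, hX⟩ : ∃ X, X = O' p (pairStab G g (u • g)) := ⟨_, rfl⟩
  rw [← hX] at hcard hXd
  have hXle : X ≤ pairStab G g (u • g) := hX ▸ O'_le p _
  have hYX : Y ≤ normalizer (X : Set G) := fun y hy => hX ▸ mem_normalizer_O' (le_normalizer (hT.sylow.1 hy))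
  haveI := solvable_of_odd hodd1
  have hX1 : X ≤ O' p (pairStab G d g) :=
    le_O'_of_sylow hsyl (le_inf hXd (hXle.trans inf_le_left)) (hX ▸ O'_coprime _) hYX
  have hXeq : O' p (pairStab G d g) = X := (Subgroup.eq_of_le_of_card_ge hX1 hcard).symm
  have hwD : w ∈ normalizer (pairStab G d g : Set G) := hwd ▸ pair_normalizes U ⟨hw, hwε⟩ d
  have hfinal : ∀ W : Subgroup G, W ≠ ⊥ → W ≤ stabilizer G d → u ∈ normalizer (W : Set G) →
      w ∈ normalizer (W : Set G) → j ∈ normalizer (W : Set G) →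
      pairStab G d g ≤ normalizer (W : Set G) → False := by
    intro W hW hWd huW hwW hjW hDW
    refine U.false_of_real_overgroup hNK hB (U.normalizer_ne_top hW hWd) (U.twoRank_of_invAt hr (d := d) ?_) huW
      hT.invol hjW (hodd1.of_dvd_nat (Subgroup.orderOf_dvd_natCard _ (hle hjY))) hj.1 hj.2
      (mem_stabilizer_iff.1 (hT.fix hjY)) ⟨w, hwW, hw, hwε⟩ hεd hjε
    intro t ht
    obtain ⟨x, hx, rfl⟩ := U.exists_conj_invAt hT.ne.symm hT.invol ht
    exact mul_mem (mul_mem (hDW hx) huW) (Subgroup.inv_mem _ (hDW hx))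
  by_cases hXb : X = ⊥
  · have hY1 : Y ≠ ⊥ := fun e => hj.2 (mem_bot.1 (e ▸ hjY))
    have hF := isZJFunctor_centerThompsonA.{u} (p := p)
    have hD1 := le_normalizer_zj hp2 hodd1 (hXeq.trans hXb) hsyl
    refine hfinal (Cfsg.centerThompsonAOf Y) (hF.ne_bot hT.sylow.2.1 hY1) ((hF.le Y).trans hT.fix)
      (hF.normalizer_le Y hT.normalises) ?_ (hF.normalizer_le Y (le_normalizer hjY)) hD1
    obtain ⟨y, hy, hyY⟩ := hsyl.conj (hsyl.smul (Grp.normalizer_le_smul (le_refl _) hwD))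
    have h1 : y⁻¹ * w ∈ normalizer (Y : Set G) := mem_normalizer_fintype fun z hz => by
      have h2 : w * z * w⁻¹ ∈ MulAut.conj y • Y := hyY ▸ ⟨z, hz, rfl⟩
      obtain ⟨z', hz', hzz⟩ := h2
      have h3 : y⁻¹ * w * z * (y⁻¹ * w)⁻¹ = z' := by
        rw [show y⁻¹ * w * z * (y⁻¹ * w)⁻¹ = y⁻¹ * (w * z * w⁻¹) * y by group, ← hzz]
        simp [mul_assoc]
      show y⁻¹ * w * z * (y⁻¹ * w)⁻¹ ∈ Y
      exact h3 ▸ hz'
    have h4 := mul_mem (hD1 hy) (hF.normalizer_le Y h1)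
    simpa using h4
  · refine hfinal X hXb hXd (hX ▸ mem_normalizer_O' (pair_normalizes U hT.invol g)) ?_ (hYX hjY) ?_
    · exact hXeq ▸ mem_normalizer_O' hwD
    · exact fun x hx => hXeq ▸ mem_normalizer_O' (le_normalizer hx)

omit hp in
/-- A real element fixes only the centre of the involution inverting it. -/
theorem Hyp.real_no_fix (hr : TwoRank (⊤ : Subgroup G)) (hNK : NoKernelSpecial G Ω) (hB : SplitBelow G Ω)
    {x u : G} {d g : Ω} (hu : u ∈ invAt G d) (hinv : u * x * u⁻¹ = x⁻¹) (hx1 : x ≠ 1) (hodd : Odd (orderOf x))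
    (hxd : x • d = d) (hg : g ≠ d) : x • g ≠ g := by
  intro hxg
  classical
  haveI := U.finite_points
  obtain ⟨p, hp, hpd⟩ := Nat.exists_prime_and_dvd (fun h => hx1 (orderOf_eq_one_iff.1 h))
  haveI : Fact p.Prime := ⟨hp⟩
  have hp2 : p ≠ 2 := fun e => Nat.not_even_iff_odd.2 hodd (even_iff_two_dvd.2 (e ▸ hpd))
  obtain ⟨k, hk⟩ := hpd
  have hk0 : k ≠ 0 := fun e => by
    have h0 := orderOf_pos x
    rw [e, mul_zero] at hk; omega
  have hord : orderOf (x ^ k) = p := by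
    rw [orderOf_pow_of_dvd hk0 ⟨p, by rw [hk, mul_comm]⟩, hk, Nat.mul_div_cancel _ (Nat.pos_of_ne_zero hk0)]
  have hxk : x ^ k ≠ 1 := fun e => hp.ne_one (by rw [← hord, e, orderOf_one])
  have hfixpow : ∀ {y : Ω}, x • y = y → (x ^ k) • y = y := fun hy =>
    mem_stabilizer_iff.1 (pow_mem (mem_stabilizer_iff.2 hy) k)
  obtain ⟨g₀, Y₀, h₀⟩ := exists_rtri U hp2 hNK hB hu (j := x ^ k) ⟨by rw [← conj_pow, hinv, inv_pow], hxk⟩ hord
    (hfixpow hxd) hg (hfixpow hxg)
  by_cases hall : ∀ (u : G) (d g : Ω) (Y : Subgroup G), RTri p u d g Y →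
      O' p (pairStab G g (u • g)) ≤ stabilizer G d
  · -- every core fixes its centre
    let S : Set (G × Ω × Ω × Subgroup G) := {t | RTri p t.1 t.2.1 t.2.2.1 t.2.2.2}
    obtain ⟨⟨u', d', g', Y⟩, hT, hmax⟩ := Set.exists_max_image S
      (fun t => Nat.card (O' p (pairStab G t.2.2.1 (t.1 • t.2.2.1)))) (Set.toFinite _) ⟨⟨u, d, g₀, Y₀⟩, h₀⟩
    replace hT : RTri p u' d' g' Y := hT
    have hle : Y ≤ pairStab G d' g' := le_inf hT.fix (hT.sylow.1.trans inf_le_left)
    have hgb : g' ≠ u' • g' := fun e => hT.ne (U.fix_eq hT.invol e.symm)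
    have hsyl : Grp.IsSylowIn p Y (pairStab G d' g') := by
      refine ⟨hle, hT.sylow.2.1, ?_⟩
      have h1 := Subgroup.card_mul_index (Y.subgroupOf (pairStab G d' g'))
      have h2 := Subgroup.card_mul_index (Y.subgroupOf (pairStab G g' (u' • g')))
      rw [Nat.card_congr (subgroupOfEquivOfLe hle).toEquiv] at h1
      rw [Nat.card_congr (subgroupOfEquivOfLe hT.sylow.1).toEquiv,
        U.card_triangle hT.invol.1 hT.invol.2 rfl hgb, ← h1] at h2
      show ¬ p ∣ (Y.subgroupOf (pairStab G d' g')).index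
      rw [← Nat.eq_of_mul_eq_mul_left Nat.card_pos h2]
      exact hT.sylow.2.2
    obtain ⟨w, hw, hwY⟩ := exists_swapper_normalizer U hT.ne.symm hsyl
    obtain ⟨ε, hwε⟩ := U.exists_fix w hw.1
    have hεd : ε ≠ d' := fun e => hT.ne (by rw [← hw.2, ← e, hwε])
    obtain ⟨c, hcY, hcu, hcd⟩ := U.exists_conj_centre hT.invol.1 hw.1 hT.invol.2 hwε hεd.symm hT.normalises hwY
    have hYε : Y ≤ stabilizer G ε := hcd ▸ smul_fix hcY hT.fix
    obtain ⟨j, hjY, hj⟩ := hT.exists_real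
    have hT' : RTri p w ε d' Y := ⟨⟨hw.1, hwε⟩, hεd.symm, hwY, by rw [hw.2]; exact hsyl, hYε,
      _, conj_mem_of_normalizer hcY hjY, hcu ▸ hj.conj c⟩
    have h1 := hmax ⟨w, ε, d', Y⟩ hT'
    dsimp only at h1
    rw [hw.2] at h1
    exact false_of_pair U hr hp2 hNK hB hT hjY hj hw.1 hw.2 hwε (mem_stabilizer_iff.1 (hYε hjY))
      (hall _ _ _ _ hT) h1
  · -- a mover gives a block
    push Not at hall
    obtain ⟨u', d', g', Y, hT, hX⟩ := hall
    have hV := hT.vcore U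
    obtain ⟨V, hVdef⟩ : ∃ V, V = Subgroup.closure (invertedBy u' (Y : Subgroup G)) := ⟨_, rfl⟩
    rw [← hVdef] at hV
    have hgb : g' ≠ u' • g' := fun e => hT.ne (U.fix_eq hT.invol e.symm)
    have hmove : ∀ {v : G} {e a b : Ω}, VCore p v e V → v • a = b → a ≠ b → V ≤ pairStab G a b →
        ¬ O' p (pairStab G a b) ≤ stabilizer G e →
        ∃ c ∈ normalizer (V : Set G), c • a = a ∧ c • b = b ∧ c • e ≠ e := by
      intro v e a b hv hvab hab hVD hX
      have hcop : (Nat.card V).Coprime (Nat.card ↥(O' p (pairStab G a b))) := by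
        obtain ⟨m, hm⟩ := IsPGroup.iff_card.1 hv.pgroup
        rw [hm]; exact ((O'_coprime _).symm).pow_left m
      obtain ⟨c, hc, hcV, hce⟩ := exists_commute_move hv.invol.1 (fun c hc => U.commute_fix hv.invol hc) hv.fix
        hv.odd hv.gen _ _ rfl ((U.odd_pair hab).of_dvd_nat (Subgroup.card_dvd_of_le (O'_le p _))) hcop
        (mem_normalizer_O' (hvab ▸ pair_normalizes U hv.invol a)) (hVD.trans (le_normalizer_core' _)) hX
      refine ⟨c, mem_normalizer_fintype fun y hy => ?_, (mem_pair.1 (O'_le p _ hc)).1,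
        (mem_pair.1 (O'_le p _ hc)).2, hce⟩
      rw [(hcV y hy).eq, mul_inv_cancel_right]
      exact hy
    have hVY : V ≤ Y := hVdef ▸ (Subgroup.closure_le _).2 fun y hy => hy.1
    obtain ⟨n, hn, -, -, hnd⟩ := hmove hV rfl hgb (hVY.trans hT.sylow.1) hX
    obtain ⟨j, hjV, hj⟩ := hV.exists_real
    obtain ⟨L, hLN, -, ⟨l, hl, hld⟩, hflip, -, hblock⟩ :=
      exists_block U (twoRankOne_of_move U hNK hB hV.invol hV.odd hV.fix hV.normalises hjV hj hn hnd) hV.invol
        hV.normalises ⟨n, hn, hnd⟩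
    have hVL : ∀ a ∈ L, V ≤ stabilizer G (a • d') := fun a ha => smul_fix (hLN ha) hV.fix
    let S : Set (G × G) := {t | t.1 ∈ L ∧ t.2 ∈ L ∧ t.1 • d' ≠ t.2 • d'}
    obtain ⟨⟨a, b⟩, ⟨ha, hb, hab⟩, hmax⟩ := Set.exists_max_image S
      (fun t => Nat.card (O' p (pairStab G (t.1 • d') (t.2 • d')))) (Set.toFinite _)
      ⟨⟨l, 1⟩, hl, one_mem L, by rwa [one_smul]⟩
    dsimp only at ha hb hab hmax
    obtain ⟨h, hh, hswap, hfix⟩ := hblock a ha b hb hab
    have hV' := hV.conj U (hLN hh)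
    have hah : a • d' ≠ h • d' := fun e => hab (by rw [← hswap, e, hV'.invol.2])
    obtain ⟨R, hR, hVR⟩ := hV'.exists_tri U hah (hVL a ha)
    obtain ⟨j', hj'V, hj'⟩ := hV'.exists_real
    obtain ⟨h', hh', hswap', -⟩ := hblock h hh a ha hah.symm
    have hw := (hV.conj U (hLN hh')).invol
    have hXh : O' p (pairStab G (a • d') ((h * u' * h⁻¹) • a • d')) ≤ stabilizer G (h • d') := by
      rw [hswap]
      by_contra hcon
      obtain ⟨c, hcN, hca, hcb, hch⟩ := hmove hV' hswap hab (le_inf (hVL a ha) (hVL b hb)) hcon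
      exact hch (hfix c hcN hca hcb)
    refine false_of_pair U hr hp2 hNK hB hR (hVR hj'V) hj' hw.1 hswap' hw.2
      (mem_stabilizer_iff.1 (hVL h' hh' hj'V)) hXh ?_
    rw [hswap]
    exact hmax ⟨h, a⟩ ⟨hh, ha, hah.symm⟩

end Cfsg.Agent.Invol.Bender
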