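import Cfsg.Agent.Lib.Invol.Bender.Spec

/-!
# Commuting is transitive on the involutions at a point

The swappers of a pair are a symmetric space for the pair stabiliser, in bijection with the involutions at one of
its points.  The reflection in the middle of two swappers shows that the number of common partners for commuting
has the parity of commuting with the middle, and counting involutions of a centraliser shows that it is odd as soon
as it is positive.
-/

set_option autoImplicit false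
set_option linter.unusedSectionVars false

namespace Cfsg.Agent.Invol.Bender

open MulAction Subgroup

universe u v

/-- An involutive map has as many fixed points as points, modulo two. -/
theorem card_modEq_two_fixed {α : Type*} [Finite α] {f : α → α} (hf : ∀ x, f (f x) = x) :
    Nat.card α ≡ Nat.card {x : α // f x = x} [MOD 2] := by
  classical
  have := Fintype.ofFinite α
  have : Fact (Nat.Prime 2) := ⟨Nat.prime_two⟩
  let f' : Function.End α := f
  have h : f' ^ 2 ^ 1 = 1 := funext fun x => hf x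
  have h2 := Equiv.Perm.card_fixedPoints_modEq h
  rw [Nat.card_eq_fintype_card, Nat.card_eq_fintype_card]
  convert h2 using 2
  rfl

variable {G : Type u} [Group G] [Finite G]

/-- A subgroup of even order has an odd number of involutions. -/
theorem odd_card_involutions {X : Subgroup G} (hX : Even (Nat.card X)) :
    Odd (Nat.card {x : G // x ∈ X ∧ orderOf x = 2}) := by
  classical
  have h1 : Nat.card {x : X // x⁻¹ = x} = Nat.card {x : G // x ∈ X ∧ orderOf x = 2} + 1 := by
    rw [← Nat.card_unique (α := PUnit.{1}), ← Nat.card_sum]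
    refine (Nat.card_congr (Equiv.ofBijective (Sum.elim
      (fun i => (⟨⟨i.1, i.2.1⟩, Subtype.ext (inv_of_orderOf_two i.2.2)⟩ : {x : X // x⁻¹ = x}))
      fun _ => ⟨1, inv_one⟩) ⟨?_, ?_⟩)).symm
    · rintro (⟨i, hi⟩ | ⟨⟩) (⟨k, hk⟩ | ⟨⟩) e
      · exact congrArg Sum.inl (Subtype.ext (congrArg (fun z => ((z.1 : X) : G)) e))
      · have e' : i = 1 := congrArg (fun z => ((z.1 : X) : G)) e
        exact absurd hi.2 (by rw [e', orderOf_one]; omega)
      · have e' : (1 : G) = k := congrArg (fun z => ((z.1 : X) : G)) e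
        exact absurd hk.2 (by rw [← e', orderOf_one]; omega)
      · rfl
    · rintro ⟨⟨x, hxX⟩, hx⟩
      by_cases hx1 : x = 1
      · exact ⟨Sum.inr ⟨⟩, Subtype.ext (Subtype.ext hx1.symm)⟩
      · have e : x⁻¹ = x := congrArg Subtype.val hx
        exact ⟨Sum.inl ⟨x, hxX, orderOf_two_iff.2 ⟨inv_eq_iff_mul_eq_one.1 e, hx1⟩⟩, rfl⟩
  have h2 := card_modEq_two_fixed (f := fun x : X => x⁻¹) inv_inv
  rw [h1, Nat.ModEq, Nat.even_iff.1 hX] at h2
  rw [Nat.odd_iff]
  omega

variable {Ω : Type v} [MulAction G Ω]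

namespace Hyp

variable (U : Hyp G Ω)
include U

/-- An involution at a point commutes with an odd number of involutions at that point. -/
theorem odd_commuting {c : Ω} {s : G} (hs : s ∈ invAt G c) :
    Odd (Nat.card {t : G // t ∈ invAt G c ∧ Commute s t}) := by
  have hsX : s ∈ centralizer ({s} : Set G) := mem_centralizer_singleton_iff.2 rfl
  have he : Even (Nat.card (centralizer ({s} : Set G))) := by
    rw [even_iff_two_dvd, ← hs.1]
    exact Subgroup.orderOf_dvd_natCard _ hsX
  convert odd_card_involutions he using 1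
  refine (Nat.card_congr (Equiv.subtypeEquivRight fun x => ?_)).symm
  rw [mem_centralizer_singleton_iff]
  exact ⟨fun h => ⟨⟨h.2, U.fix_of_commute hs.1 hs.2 h.1⟩, h.1.symm⟩, fun h => ⟨h.2.symm, h.1.1⟩⟩

/-- The involution in the middle of two swappers. -/
theorem exists_middle {c a : Ω} (hca : c ≠ a) {x y : G} (hx : x ∈ swapAt G c a) (hy : y ∈ swapAt G c a) :
    ∃ w ∈ swapAt G c a, w * x * w⁻¹ = y ∧ w * y * w⁻¹ = x := by
  have hD : x * y ∈ pairStab G c a := mem_pair.2
    ⟨by rw [mul_smul, hy.2, swap_symm hx.1 hx.2], by rw [mul_smul, swap_symm hy.1 hy.2, hx.2]⟩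
  obtain ⟨n, hn⟩ : Odd (orderOf (x * y)) := (U.odd_pair hca).of_dvd_nat (Subgroup.orderOf_dvd_natCard _ hD)
  obtain ⟨k, hk⟩ : ∃ k, k = (x * y) ^ (n : ℤ) := ⟨_, rfl⟩
  have hkD : k ∈ pairStab G c a := hk ▸ zpow_mem hD _
  have hkx : k * x * k⁻¹ = y := by
    rw [hk, ← zpow_neg, mul_assoc, mul_zpow_comm hx.1 hy.1, neg_neg, ← mul_assoc, ← zpow_add]
    have h1 : (x * y) ^ ((n : ℤ) + n) = (x * y)⁻¹ := by
      rw [eq_inv_iff_mul_eq_one, ← zpow_add_one, show (n : ℤ) + n + 1 = ((2 * n + 1 : ℕ) : ℤ) by push_cast; ring,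
        zpow_natCast, ← hn, pow_orderOf_eq_one]
    rw [h1, mul_inv_rev, mul_assoc, inv_mul_cancel, mul_one, inv_of_orderOf_two hy.1]
  have hconj : k * x * x * (k * x)⁻¹ = y := by rw [← hkx]; group
  have hswap : (k * x) • c = a := by rw [mul_smul, hx.2, (mem_pair.1 hkD).2]
  have hww : k * x * (k * x) = 1 := by
    have e : x * k = k⁻¹ * x := by rw [hk, mul_zpow_comm hx.1 hy.1, zpow_neg]
    calc k * x * (k * x) = k * (x * k) * x := by group
      _ = k * (k⁻¹ * x) * x := by rw [e]
      _ = 1 := by rw [mul_inv_cancel_left, mul_self_of_orderOf_two hx.1]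
  have hw2 : orderOf (k * x) = 2 :=
    orderOf_two_iff.2 ⟨hww, fun h => hca (by rw [← hswap, h, one_smul])⟩
  refine ⟨k * x, ⟨hw2, hswap⟩, hconj, ?_⟩
  rw [← hconj]
  simp only [inv_of_orderOf_two hw2]
  calc k * x * (k * x * x * (k * x)) * (k * x) = k * x * (k * x) * x * (k * x * (k * x)) := by group
    _ = x := by rw [hww, one_mul, mul_one]

/-- Commuting is transitive on the involutions at a point. -/
theorem commute_trans (_hr : TwoRank (⊤ : Subgroup G)) (_hF : RealFree G Ω) (hC : ConjPair G Ω) :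
    ∀ c : Ω, ∀ r ∈ invAt G c, ∀ s ∈ invAt G c, ∀ t ∈ invAt G c, Commute r s → Commute s t → Commute r t := by
  classical
  intro c r hr' s hs t ht hrs hst
  obtain ⟨a, hac⟩ := U.nontrivial |> fun h => @exists_ne Ω h c
  have hca := hac.symm
  obtain ⟨v, hv⟩ := U.exists_swap_pair hca
  obtain ⟨t₀, ht₀, hvt⟩ := hC c a hca v hv
  -- the equivariant bijection from the swappers to the involutions
  have hex : ∀ x : ↥(swapAt G c a), ∃ g ∈ pairStab G c a, g * v * g⁻¹ = x :=
    fun x => U.exists_conj_swappers hca hv x.2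
  choose g hgD hg using hex
  have hkey : ∀ k ∈ pairStab G c a, ∀ l ∈ pairStab G c a,
      (k * v * k⁻¹ = l * v * l⁻¹ ↔ k * t₀ * k⁻¹ = l * t₀ * l⁻¹) := by
    intro k hk l hl
    have e : ∀ z : G, k * z * k⁻¹ = l * z * l⁻¹ ↔ Commute (l⁻¹ * k) z := fun z => by
      constructor
      · intro h
        show l⁻¹ * k * z = z * (l⁻¹ * k)
        calc l⁻¹ * k * z = l⁻¹ * (k * z * k⁻¹) * k := by group
          _ = l⁻¹ * (l * z * l⁻¹) * k := by rw [h]
          _ = _ := by group
      · intro h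
        calc k * z * k⁻¹ = l * (l⁻¹ * k * z) * k⁻¹ := by group
          _ = l * (z * (l⁻¹ * k)) * k⁻¹ := by rw [h.eq]
          _ = _ := by group
    rw [e, e]
    exact hvt _ (mul_mem (inv_mem hl) hk)
  let β : ↥(swapAt G c a) → ↥(invAt G c) := fun x => ⟨g x * t₀ * (g x)⁻¹, U.invAt_conj (hgD x) ht₀⟩
  have hβ : ∀ (x : ↥(swapAt G c a)) (d : G), d ∈ pairStab G c a → ∀ y : ↥(swapAt G c a),
      d * (x : G) * d⁻¹ = y → d * (β x : G) * d⁻¹ = β y := by
    intro x d hd y hxy
    have h1 : d * g x * v * (d * g x)⁻¹ = g y * v * (g y)⁻¹ := by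
      rw [hg y, ← hxy, ← hg x]
      group
    have h2 := (hkey _ (mul_mem hd (hgD x)) _ (hgD y)).1 h1
    show d * (g x * t₀ * (g x)⁻¹) * d⁻¹ = g y * t₀ * (g y)⁻¹
    rw [← h2]
    group
  have hinj : Function.Injective β := fun x y e => Subtype.ext (by
    rw [← hg x, ← hg y]
    exact (hkey _ (hgD x) _ (hgD y)).2 (congrArg Subtype.val e))
  have hsurj : Function.Surjective β := fun i => by
    obtain ⟨d, hd, hdi⟩ := U.exists_conj_invAt hca ht₀ i.2
    let y : ↥(swapAt G c a) := ⟨d * v * d⁻¹, U.swappers_conj hd hv⟩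
    refine ⟨y, Subtype.ext ?_⟩
    show g y * t₀ * (g y)⁻¹ = i
    rw [← hdi]
    exact (hkey _ (hgD y) _ hd).1 (hg y)
  let R : ↥(swapAt G c a) → ↥(swapAt G c a) → Prop := fun x y => Commute (β x : G) (β y)
  -- reflections of the space of swappers
  let σ : ↥(swapAt G c a) → ↥(swapAt G c a) → ↥(swapAt G c a) := fun w z =>
    ⟨(w : G) * z * (w : G)⁻¹, (orderOf_conj_eq _ _).trans z.2.1, by
      rw [inv_of_orderOf_two w.2.1, mul_smul, mul_smul, w.2.2, swap_symm z.2.1 z.2.2, w.2.2]⟩
  have hσσ : ∀ w z, σ w (σ w z) = z := fun w z => Subtype.ext (by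
    show (w : G) * ((w : G) * z * (w : G)⁻¹) * (w : G)⁻¹ = z
    calc (w : G) * ((w : G) * z * (w : G)⁻¹) * (w : G)⁻¹ = (w : G) * w * z * ((w : G) * w)⁻¹ := by group
      _ = z := by rw [mul_self_of_orderOf_two w.2.1, one_mul, inv_one, mul_one])
  have hσR : ∀ w x y, R x y → R (σ w x) (σ w y) := by
    intro w x y hxy
    obtain ⟨m, hm, hmx, hmy⟩ := U.exists_middle hca x.2 y.2
    have hd : (w : G) * m ∈ pairStab G c a := mem_pair.2
      ⟨by rw [mul_smul, hm.2, swap_symm w.2.1 w.2.2], by rw [mul_smul, swap_symm hm.1 hm.2, w.2.2]⟩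
    have h1 := hβ y _ hd (σ w x) (by
      show (w : G) * m * y * ((w : G) * m)⁻¹ = (w : G) * x * (w : G)⁻¹
      rw [← hmy]; group)
    have h2 := hβ x _ hd (σ w y) (by
      show (w : G) * m * x * ((w : G) * m)⁻¹ = (w : G) * y * (w : G)⁻¹
      rw [← hmx]; group)
    show Commute (β (σ w x) : G) (β (σ w y))
    rw [← h1, ← h2]
    exact ((SemiconjBy.conj_iff).2 hxy.symm.eq :)
  have hσfix : ∀ w z, σ w z = z ↔ z = w := by
    intro w z
    constructor
    · intro e
      have e' : (w : G) * z * (w : G)⁻¹ = z := congrArg Subtype.val e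
      have hd : (z : G) * w ∈ pairStab G c a := mem_pair.2
        ⟨by rw [mul_smul, w.2.2, swap_symm z.2.1 z.2.2], by rw [mul_smul, swap_symm w.2.1 w.2.2, z.2.2]⟩
      have h1 : (z : G) * w * ((z : G) * w) = 1 := by
        have hc : (w : G) * z = z * w := mul_inv_eq_iff_eq_mul.1 e'
        calc (z : G) * w * ((z : G) * w) = z * ((w : G) * z) * w := by group
          _ = z * (z * w) * w := by rw [hc]
          _ = (z : G) * z * ((w : G) * w) := by group
          _ = 1 := by rw [mul_self_of_orderOf_two z.2.1, mul_self_of_orderOf_two w.2.1, one_mul]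
      by_contra hne
      have h2 : orderOf ((z : G) * w) = 2 :=
        orderOf_two_iff.2 ⟨h1, mul_ne_one_of_ne z.2.1 fun h => hne (Subtype.ext h)⟩
      exact U.pair_no_invol hca h2 (mem_pair.1 hd).1 (mem_pair.1 hd).2
    · rintro rfl
      exact Subtype.ext (mul_inv_cancel_right _ _)
  -- two swappers with a common partner: their middle commutes with both
  have hmid : ∀ x y w, σ w x = y → (∃ z, R x z ∧ R z y) → R x w := by
    intro x y w hw ⟨z, hxz, hzy⟩
    let X := centralizer ({(β x : G), (β y : G)} : Set G)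
    have hX : ∀ i : G, i ∈ X ↔ Commute i (β x : G) ∧ Commute i (β y : G) := fun i => by
      simp only [X, mem_centralizer_iff, Set.mem_insert_iff, Set.mem_singleton_iff, forall_eq_or_imp, forall_eq]
      exact ⟨fun h => ⟨h.1.symm, h.2.symm⟩, fun h => ⟨h.1.symm, h.2.symm⟩⟩
    have heven : Even (Nat.card X) := by
      rw [even_iff_two_dvd, ← (β z).2.1]
      exact Subgroup.orderOf_dvd_natCard _ ((hX _).2 ⟨hxz.symm, hzy⟩)
    have hodd : Odd (Nat.card {z // R x z ∧ R z y}) := by
      convert odd_card_involutions heven using 1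
      refine (Nat.card_congr (Equiv.ofBijective (fun z : {z // R x z ∧ R z y} =>
        (⟨β z.1, (hX _).2 ⟨z.2.1.symm, z.2.2⟩, (β z.1).2.1⟩ : {i : G // i ∈ X ∧ orderOf i = 2}))
        ⟨fun p q e => Subtype.ext (hinj (Subtype.ext (congrArg (fun i => i.1) e))), ?_⟩))
      rintro ⟨i, hi, hi2⟩
      obtain ⟨z, hz⟩ := hsurj ⟨i, hi2, U.fix_of_commute (β x).2.1 (β x).2.2 ((hX i).1 hi).1⟩
      have hz' : (β z : G) = i := congrArg Subtype.val hz
      exact ⟨⟨z, by show Commute (β x : G) (β z); rw [hz']; exact ((hX i).1 hi).1.symm,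
        by show Commute (β z : G) (β y); rw [hz']; exact ((hX i).1 hi).2⟩, Subtype.ext hz'⟩
    have hwy : σ w y = x := by rw [← hw, hσσ]
    let f : {z // R x z ∧ R z y} → {z // R x z ∧ R z y} := fun z => ⟨σ w z.1,
      by have := hσR w _ _ z.2.2.symm; rwa [hwy] at this,
      by have := hσR w _ _ z.2.1.symm; rwa [hw] at this⟩
    have h2 := card_modEq_two_fixed (f := f) fun z => Subtype.ext (hσσ w z.1)
    by_contra hne
    have : IsEmpty {z // f z = z} := ⟨fun z => hne ((hσfix w z.1.1).1 (congrArg Subtype.val z.2) ▸ z.1.2.1)⟩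
    rw [@Nat.card_of_isEmpty {z // f z = z}, Nat.ModEq, Nat.odd_iff.1 hodd] at h2
    omega
  -- commuting is contained in having a common partner, and the latter is not larger
  obtain ⟨x, hx⟩ := hsurj ⟨r, hr'⟩
  obtain ⟨z, hz⟩ := hsurj ⟨s, hs⟩
  obtain ⟨y, hy⟩ := hsurj ⟨t, ht⟩
  let T : Set ↥(swapAt G c a) := {y | ∃ z, R x z ∧ R z y}
  let P : Set ↥(swapAt G c a) := {y | R x y}
  have hsub : P ⊆ T := fun y hy => ⟨x, Commute.refl _, hy⟩
  have hmw : ∀ y, ∃ w, σ w x = y := fun y => by
    obtain ⟨w, hw, hwx, -⟩ := U.exists_middle hca x.2 y.2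
    exact ⟨⟨w, hw⟩, Subtype.ext hwx⟩
  choose μ hμ using hmw
  have hle : T.ncard ≤ P.ncard := by
    refine Set.ncard_le_ncard_of_injOn μ (fun y hy => hmid x y _ (hμ y) hy) ?_ (Set.toFinite P)
    intro y _ y' _ e
    rw [← hμ y, ← hμ y', e]
  have hTP : P = T := Set.eq_of_subset_of_ncard_le hsub hle (Set.toFinite T)
  have hR : ∀ {x y : ↥(swapAt G c a)} {i j : G}, (β x : G) = i → (β y : G) = j → (R x y ↔ Commute i j) :=
    fun h1 h2 => by subst h1 h2; exact Iff.rfl
  have hyT : y ∈ T := ⟨z, (hR (congrArg Subtype.val hx) (congrArg Subtype.val hz)).2 hrs,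
    (hR (congrArg Subtype.val hz) (congrArg Subtype.val hy)).2 hst⟩
  rw [← hTP] at hyT
  exact (hR (congrArg Subtype.val hx) (congrArg Subtype.val hy)).1 hyT

end Hyp

end Cfsg.Agent.Invol.Bender
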