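import Cfsg.Agent.Lib.Invol.Bender.RankOneBridge
import Cfsg.Agent.Lib.Transfer.RankOneCor.Basic

/-!
# A regular normal subgroup gives the split structure

In a faithful doubly transitive action the regular normal subgroup of a point stabiliser gives a rank one set-up,
so it is a two-group and the action is split.
-/

set_option autoImplicit false
set_option linter.unusedSectionVars false

namespace Cfsg.Agent.Invol.Bender

open MulAction Subgroup

universe u

variable {G Ω : Type u} [Group G] [Finite G] [MulAction G Ω]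

theorem ker_top_eq_bot (U : Hyp G Ω) [FaithfulSMul G Ω] : ker Ω (⊤ : Subgroup G) = ⊥ := by
  rw [eq_bot_iff]
  exact fun g hg => Subgroup.mem_bot.2 (FaithfulSMul.eq_of_smul_eq_smul fun x : Ω => by
    rw [(mem_ker_top U).1 hg x, one_smul])

/-- A regular normal subgroup of a point stabiliser contains the involutions at the point. -/
theorem invol_mem_of_regular (U : Hyp G Ω) {c : Ω} {Q : Subgroup G}
    (hn : ∀ h ∈ stabilizer G c, ∀ x ∈ Q, h * x * h⁻¹ ∈ Q) (hle : Q ≤ stabilizer G c)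
    (htr : ∀ x y : Ω, x ≠ c → y ≠ c → ∃ q ∈ Q, q • x = y) {t : G} (ht : t ∈ invAt G c) : t ∈ Q := by
  obtain ⟨a, b, hab⟩ := U.nontrivial.exists_pair_ne
  obtain ⟨a, hac⟩ : ∃ a : Ω, a ≠ c := by
    rcases eq_or_ne a c with rfl | h
    · exact ⟨b, hab.symm⟩
    · exact ⟨a, h⟩
  obtain ⟨q, hq, hqa⟩ := htr a (t • a) hac fun e => hac (smul_left_cancel t (e.trans ht.2.symm))
  obtain ⟨S, hS⟩ : ∃ S, S = stabilizer G c := ⟨_, rfl⟩
  haveI hQn : (Q.subgroupOf S).Normal := ⟨fun y hy g => by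
    rw [Subgroup.mem_subgroupOf] at hy ⊢
    exact hn _ (hS ▸ g.2) _ hy⟩
  have htS : t ∈ S := hS ▸ mem_stabilizer_iff.2 ht.2
  have hqS : q ∈ S := hS ▸ hle hq
  have hx : q⁻¹ * t ∈ pairStab G c a := mem_pair.2
    ⟨by rw [mul_smul, ht.2, inv_smul_eq_iff, mem_stabilizer_iff.1 (hle hq)],
      by rw [mul_smul, ← hqa, inv_smul_smul]⟩
  obtain ⟨k, hk⟩ : Odd (orderOf (q⁻¹ * t)) :=
    (U.odd_pair hac.symm).of_dvd_nat (Subgroup.orderOf_dvd_natCard _ hx)
  -- modulo `Q` the involution is an element of odd order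
  let π := QuotientGroup.mk' (Q.subgroupOf S)
  have h1 : π ⟨t, htS⟩ = π (⟨q, hqS⟩⁻¹ * ⟨t, htS⟩) := by
    rw [map_mul, map_inv, show π ⟨q, hqS⟩ = 1 from (QuotientGroup.eq_one_iff _).2 hq, inv_one, one_mul]
  have h2 : π ⟨t, htS⟩ = 1 := by
    have e1 : π ⟨t, htS⟩ ^ 2 = 1 := by
      rw [← map_pow, show (⟨t, htS⟩ : S) ^ 2 = 1 from Subtype.ext (by
        rw [SubmonoidClass.coe_pow, ← ht.1, pow_orderOf_eq_one]; rfl), map_one]
    have e2 : π ⟨t, htS⟩ ^ (2 * k + 1) = 1 := by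
      rw [h1, ← map_pow, show ((⟨q, hqS⟩⁻¹ * ⟨t, htS⟩ : S)) ^ (2 * k + 1) = 1 from Subtype.ext (by
        rw [SubmonoidClass.coe_pow, ← hk]
        exact pow_orderOf_eq_one _), map_one]
    rwa [pow_succ, pow_mul, e1, one_pow, one_mul] at e2
  exact Subgroup.mem_subgroupOf.1 ((QuotientGroup.eq_one_iff _).1 h2)

theorem isPretransitive_of_pairs (h2 : ∀ c a c' a' : Ω, c ≠ a → c' ≠ a' → ∃ g : G, g • c = c' ∧ g • a = a') :
    IsMultiplyPretransitive G Ω 2 :=
  is_two_pretransitive_iff.2 fun {a₁ a₂ b₁ b₂} ha hb => h2 a₁ a₂ b₁ b₂ ha hb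

/-- A regular normal subgroup of each point stabiliser gives the split structure. -/
theorem split_of_hasRegular (U : Hyp G Ω) [FaithfulSMul G Ω] (hr : TwoRank (⊤ : Subgroup G))
    (h2 : ∀ c a c' a' : Ω, c ≠ a → c' ≠ a' → ∃ g : G, g • c = c' ∧ g • a = a')
    (hQ : ∀ c : Ω, HasRegular G Ω c) : Split Ω (⊤ : Subgroup G) := by
  intro c _
  obtain ⟨Q, hle, hn, htr, hreg⟩ := hQ c
  obtain ⟨a, hac⟩ : ∃ a : Ω, a ≠ c := by
    obtain ⟨x, y, hxy⟩ := U.nontrivial.exists_pair_ne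
    rcases eq_or_ne x c with rfl | h
    · exact ⟨y, hxy.symm⟩
    · exact ⟨x, h⟩
  obtain ⟨v, hv⟩ := U.exists_swap_pair hac.symm
  have hQ2 : IsPGroup 2 Q := by
    have hR : Transfer.RankOne.Hyp G Ω c v Q := by
      refine ⟨⟨isPretransitive_of_pairs h2, mul_self_of_orderOf_two hv.1, fun e => ?_, fun e => ?_, hle, hn,
        ?_, ?_, ?_, ?_⟩, ?_⟩
      · rw [e] at hv
        exact absurd hv.1 (by rw [orderOf_one]; norm_num)
      · exact hac ((mem_stabilizer_iff.1 e).symm.trans hv.2).symm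
      · rw [hv.2, eq_bot_iff]
        exact fun g hg => Subgroup.mem_bot.2 (hreg g hg.1 a hac (mem_stabilizer_iff.1 hg.2))
      · rw [hv.2]
        refine le_antisymm (sup_le hle inf_le_left) fun g hg => ?_
        obtain ⟨q, hq, hqa⟩ := htr a (g • a) hac fun e => hac (smul_left_cancel g (e.trans (mem_stabilizer_iff.1 hg).symm))
        have hd : q⁻¹ * g ∈ pairStab G c a := mem_pair.2
          ⟨by rw [mul_smul, mem_stabilizer_iff.1 hg, inv_smul_eq_iff, mem_stabilizer_iff.1 (hle hq)],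
            by rw [mul_smul, ← hqa, inv_smul_smul]⟩
        rw [show g = q * (q⁻¹ * g) by group]
        exact mul_mem (Subgroup.mem_sup_left hq) (Subgroup.mem_sup_right hd)
      · obtain ⟨t, ht, htc⟩ := U.invol_at c
        rw [even_iff_two_dvd, ← ht]
        exact Subgroup.orderOf_dvd_natCard _ (invol_mem_of_regular U hn hle htr ⟨ht, htc⟩)
      · rw [hv.2]
        exact U.odd_pair hac.symm
      · obtain ⟨x, -, y, -, hx, hy, hxy, hc⟩ := hr
        exact ⟨x, y, fun e => by rw [e, orderOf_one] at hx; norm_num at hx,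
          fun e => by rw [e, orderOf_one] at hy; norm_num at hy, hxy, mul_self_of_orderOf_two hx,
          mul_self_of_orderOf_two hy, hc.eq⟩
    exact Transfer.RankOneCor.isPGroup_regular hR
  refine ⟨Q, ker_top_eq_bot U ▸ bot_le, le_inf le_top hle,
    fun h hh x hx => hn h (Subgroup.mem_inf.1 hh).2 x hx, ?_, fun e _ he f _ hf => htr e f he hf, ?_,
    fun e _ he => (U.odd_pair he.symm).of_dvd_nat (Subgroup.card_dvd_of_le inf_le_right)⟩
  · obtain ⟨k, hk⟩ := IsPGroup.iff_card.1 hQ2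
    exact ⟨k, by rw [ker_top_eq_bot U, Subgroup.card_bot, one_mul, hk]⟩
  · rintro e - he g ⟨hg, hge⟩
    rw [hreg g hg e he (mem_stabilizer_iff.1 hge)]
    exact one_mem _

end Cfsg.Agent.Invol.Bender
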