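import Cfsg.Agent.Lib.Invol.Bender.BelowFacts
import Cfsg.Agent.Lib.Invol.Bender.Tools
import Cfsg.Agent.S0205

/-!
# The centraliser of a swapper is the centraliser of an involution

If the real elements of the pair stabilisers fix only their pair, then each subgroup centralising a swapper of a
pair centralises an involution at each point of the pair: otherwise, for a normal subgroup of prime index `l`
which does, the inverted `l`-elements would make both the pair and a pair of centres the fixed sets of Sylow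
subgroups of the centraliser, and the points of the pair would be centres.
-/

set_option autoImplicit false
set_option linter.unusedSectionVars false

namespace Cfsg.Agent.Invol.Bender

open MulAction Subgroup

universe u v

variable {G : Type u} [Group G] [Finite G]

theorem modEq_of_eq {l m k : ℕ} (h : m = k) : m ≡ k [MOD l] := h ▸ Nat.ModEq.refl m

/-- Fixed points of conjugation by an element whose `l`-th power centralises the set. -/
theorem card_modEq_commuting {l : ℕ} [Fact l.Prime] (S : Set G) (x : G)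
    (hS : ∀ s ∈ S, x * s * x⁻¹ ∈ S) (hl : ∀ s ∈ S, Commute (x ^ l) s) :
    Nat.card S ≡ Nat.card {s : G | s ∈ S ∧ Commute x s} [MOD l] := by
  classical
  haveI := Fintype.ofFinite S
  let f : Function.End S := fun s => ⟨x * s * x⁻¹, hS s s.2⟩
  have hpow : ∀ (k : ℕ) (s : S), (((f ^ k) s : S) : G) = x ^ k * s * (x ^ k)⁻¹ := by
    intro k
    induction k with
    | zero => intro s; simp [Function.End.one_def]
    | succ k ih =>
      intro s
      rw [pow_succ]
      show (((f ^ k) (f s) : S) : G) = _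
      rw [ih, pow_succ]
      show x ^ k * (x * (s : G) * x⁻¹) * (x ^ k)⁻¹ = _
      group
  have hf : f ^ l ^ 1 = 1 := by
    funext s
    refine Subtype.ext ?_
    rw [pow_one, hpow, (hl s s.2).eq, mul_inv_cancel_right]
    rfl
  have h := Equiv.Perm.card_fixedPoints_modEq (f := f) hf
  rw [← Nat.card_eq_fintype_card, ← Nat.card_eq_fintype_card] at h
  refine h.trans (modEq_of_eq ?_)
  exact Nat.card_congr
    { toFun := fun s => ⟨(s.1 : G), s.1.2,
        mul_inv_eq_iff_eq_mul.1 (congrArg Subtype.val (show f s.1 = s.1 from s.2))⟩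
      invFun := fun s => ⟨⟨s.1, s.2.1⟩, Subtype.ext (mul_inv_eq_iff_eq_mul.2 s.2.2)⟩
      left_inv := fun _ => rfl
      right_inv := fun _ => rfl }

/-- A nontrivial group of odd order has a subgroup of prime index normalised by a generator of the rest. -/
theorem exists_prime_step {K : Subgroup G} (hK : K ≠ ⊥) (hodd : Odd (Nat.card K)) :
    ∃ (l : ℕ) (K1 : Subgroup G) (x : G), l.Prime ∧ K1 < K ∧ x ∈ K ∧ x ^ l ∈ K1 ∧
      K = K1 ⊔ zpowers x ∧ x ∈ normalizer (K1 : Set G) := by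
  haveI := solvable_of_odd hodd
  haveI : Nontrivial K := (nontrivial_iff_ne_bot K).2 hK
  obtain ⟨M, hM, hcM⟩ : ∃ M : Subgroup K, IsCoatom M ∧ commutator K ≤ M := by
    obtain h | ⟨M, hM, hle⟩ := eq_top_or_exists_le_coatom (commutator K)
    · exact absurd h (Group.IsSolvable.commutator_lt_top_of_nontrivial K).ne
    · exact ⟨M, hM, hle⟩
  haveI hMn : M.Normal := ⟨fun y hy g => by
    have h1 := M.mul_mem (hcM (Subgroup.commutator_mem_commutator (mem_top g) (mem_top y))) hy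
    simpa [commutatorElement_def] using h1⟩
  obtain ⟨x₀, -, hx₀⟩ := SetLike.exists_of_lt (lt_top_iff_ne_top.2 hM.1)
  obtain ⟨k, hk, hmin⟩ : ∃ k, (0 < k ∧ x₀ ^ k ∈ M) ∧ ∀ j, 0 < j → x₀ ^ j ∈ M → k ≤ j := by
    classical
    have hex : ∃ k, 0 < k ∧ x₀ ^ k ∈ M := ⟨orderOf x₀, orderOf_pos x₀, by rw [pow_orderOf_eq_one]; exact one_mem M⟩
    exact ⟨Nat.find hex, Nat.find_spec hex, fun j h1 h2 => Nat.find_min' hex ⟨h1, h2⟩⟩
  obtain ⟨l, hl, r, rfl⟩ := Nat.exists_prime_and_dvd (n := k) fun h => hx₀ (by simpa [h] using hk.2)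
  have hr : 0 < r := Nat.pos_of_mul_pos_left hk.1
  have hxM : x₀ ^ r ∉ M := fun h => by
    have h1 := hmin r hr h
    have h2 : 2 * r ≤ l * r := Nat.mul_le_mul_right r hl.two_le
    omega
  have htop : M ⊔ zpowers (x₀ ^ r) = ⊤ :=
    hM.2 _ (lt_of_le_of_ne le_sup_left fun e => hxM (e ▸ mem_sup_right (mem_zpowers _)))
  refine ⟨l, M.map K.subtype, (x₀ ^ r : K), hl, ?_, (x₀ ^ r).2, ?_, ?_, ?_⟩
  · refine lt_of_le_of_ne (map_subtype_le M) fun e => hM.1 ?_
    refine Subgroup.map_injective K.subtype_injective ?_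
    rw [e, ← MonoidHom.range_eq_map, range_subtype]
  · refine ⟨(x₀ ^ r) ^ l, by rw [← pow_mul, mul_comm]; exact hk.2, ?_⟩
    rfl
  · conv_lhs => rw [← range_subtype K, MonoidHom.range_eq_map, ← htop, Subgroup.map_sup, MonoidHom.map_zpowers]
    rfl
  · refine mem_normalizer_fintype fun y hy => ?_
    obtain ⟨y, hy, rfl⟩ := hy
    exact ⟨(x₀ ^ r) * y * (x₀ ^ r)⁻¹, hMn.conj_mem y hy _, rfl⟩

variable {Ω : Type v} [MulAction G Ω]

/-- An involution normalising a subgroup of odd order inverts an `l`-element of one of its Sylow subgroups, if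
`l` divides the index of the centraliser. -/
theorem exists_inverted_of_dvd {l : ℕ} [Fact l.Prime] {A : Subgroup G} (hA : Odd (Nat.card A)) {v : G}
    (hv : orderOf v = 2) (hvA : v ∈ normalizer (A : Set G))
    (hdvd : l ∣ (A ⊓ centralizer ({v} : Set G)).relIndex A) :
    ∃ L, Grp.IsSylowIn l L A ∧ ∃ j ∈ L, j ≠ 1 ∧ v * j * v⁻¹ = j⁻¹ := by
  obtain ⟨L, hL, hvL⟩ := Grp.exists_invariant_sylow (zpowers v) A (zpowers_le_normalizer hvA)
    (coprime_two_odd hv hA) (Or.inl inferInstance) l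
  refine ⟨L, hL, ?_⟩
  by_contra h
  push Not at h
  refine hL.2.2 (hdvd.trans ?_)
  refine Subgroup.relIndex_dvd_of_le_left A (le_inf hL.1 fun x hx => ?_)
  have hvn : v ∈ normalizer (L : Set G) := hvL (mem_zpowers v)
  have h1 : x⁻¹ * (v * x * v⁻¹) = 1 := by
    by_contra h1
    exact h _ (L.mul_mem (L.inv_mem hx) (conj_mem_of_normalizer hvn hx)) h1 (inverted_of_involution hv x)
  rw [inv_mul_eq_one] at h1
  rw [mem_centralizer_singleton_iff]
  conv_lhs => rw [h1]
  group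

/-- A Sylow subgroup of a pair stabiliser in `X` with a fixed set of two points is one of `X`. -/
theorem isSylowIn_of_fix_two {l : ℕ} [Fact l.Prime] (hl2 : l ≠ 2) {X : Subgroup G} {c a : Ω} (hca : c ≠ a)
    {L : Subgroup G} (hL : Grp.IsSylowIn l L (X ⊓ pairStab G c a))
    (hfix : ∀ z : Ω, L ≤ stabilizer G z → z = c ∨ z = a) : Grp.IsSylowIn l L X := by
  have hLX : L ≤ X := hL.1.trans inf_le_left
  obtain ⟨P₀, hP₀⟩ := (hL.2.1.comap_subtype (K := X)).exists_le_sylow
  have hPX : (P₀ : Subgroup X).map X.subtype ≤ X := map_subtype_le _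
  have hLP : L ≤ (P₀ : Subgroup X).map X.subtype := fun x hx => ⟨⟨x, hLX hx⟩, hP₀ (show x ∈ L from hx), rfl⟩
  suffices hPL : (P₀ : Subgroup X).map X.subtype = L from hPL ▸ Grp.isSylowIn_iff.2 ⟨P₀, rfl⟩
  obtain ⟨P, hPdef⟩ : ∃ P, P = (P₀ : Subgroup X).map X.subtype := ⟨_, rfl⟩
  rw [← hPdef] at hPX hLP ⊢
  have hP : IsPGroup l P := hPdef ▸ P₀.isPGroup'.map _
  by_contra hne
  haveI := hP.isNilpotent
  have hlt : L.subgroupOf P < ⊤ := lt_top_iff_ne_top.2 fun e => hne (le_antisymm (fun x hx => by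
    have h1 : (⟨x, hx⟩ : P) ∈ L.subgroupOf P := by rw [e]; exact mem_top _
    exact h1) hLP)
  have hnc := Group.normalizerCondition_of_isNilpotent (G := P) (L.subgroupOf P) hlt
  obtain ⟨g, hg, hgL⟩ := SetLike.exists_of_lt hnc
  have hgn : ∀ y ∈ L, (g : G) * y * (g : G)⁻¹ ∈ L := fun y hy =>
    (Subgroup.mem_normalizer_iff.1 hg ⟨y, hLP hy⟩).1 hy
  have hgn' : ∀ y ∈ L, (g : G)⁻¹ * y * (g : G) ∈ L := fun y hy => by
    have := (Subgroup.mem_normalizer_iff.1 (inv_mem hg) ⟨y, hLP hy⟩).1 hy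
    rw [Subgroup.mem_subgroupOf] at this
    simpa using this
  have hmove : ∀ z : Ω, L ≤ stabilizer G z → L ≤ stabilizer G ((g : G) • z) := fun z hz y hy => by
    rw [mem_stabilizer_iff]
    have h1 := mem_stabilizer_iff.1 (hz (hgn' y hy))
    rwa [mul_smul, mul_smul, inv_smul_eq_iff] at h1
  have hc : L ≤ stabilizer G c := hL.1.trans (inf_le_right.trans inf_le_left)
  have ha : L ≤ stabilizer G a := hL.1.trans (inf_le_right.trans inf_le_right)
  have hgc : (g : G) • c = c := by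
    rcases hfix _ (hmove c hc) with h | h
    · exact h
    rcases hfix _ (hmove a ha) with h' | h'
    · obtain ⟨k, hk⟩ := IsPGroup.iff_orderOf.1 hP g
      obtain ⟨r, hr⟩ : Odd (orderOf (g : G)) := by
        rw [Subgroup.orderOf_coe, hk]
        exact Odd.pow ((Nat.Prime.odd_of_ne_two Fact.out) hl2)
      have h3 : ∀ i : ℕ, ((g : G) ^ (2 * i)) • c = c := fun i => by
        induction i with
        | zero => simp
        | succ i ih => rw [show 2 * (i + 1) = 2 * i + 1 + 1 by ring, pow_succ, pow_succ, mul_smul, mul_smul, h, h', ih]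
      have h4 := h3 r
      have h5 : (g : G) ^ (2 * r + 1) = 1 := by rw [← hr, pow_orderOf_eq_one]
      have h6 := congrArg (fun y : G => y • c) h5
      simp only [one_smul] at h6
      rw [pow_succ', mul_smul, h4, h] at h6
      exact absurd h6.symm hca
    · exact absurd (smul_left_cancel _ (h.trans h'.symm)) hca
  have hga : (g : G) • a = a := by
    rcases hfix _ (hmove a ha) with h | h
    · exact absurd (smul_left_cancel _ (h.trans hgc.symm)) hca.symm
    · exact h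
  obtain ⟨N, hN⟩ : ∃ N, N = L ⊔ zpowers (g : G) := ⟨_, rfl⟩
  have hNP : IsPGroup l N := hP.to_le (hN ▸ sup_le hLP (zpowers_le.2 g.2))
  have hNle : N ≤ X ⊓ pairStab G c a :=
    hN ▸ sup_le hL.1 (zpowers_le.2 ⟨hPX g.2, mem_pair.2 ⟨hgc, hga⟩⟩)
  have h7 := hL.eq_of_le (hN ▸ le_sup_left) hNle hNP
  exact hgL (show (g : G) ∈ L by rw [h7, hN]; exact mem_sup_right (mem_zpowers _))

/-- The involutions of a subgroup at a point. -/
def invIn (X : Subgroup G) (c : Ω) : Set G := {i | i ∈ invAt G c ∧ i ∈ X}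

/-- The involutions of a subgroup moving one point to another. -/
def swapIn (X : Subgroup G) (c a : Ω) : Set G := {i | i ∈ swapAt G c a ∧ i ∈ X}

theorem card_invAt_cen {X : Subgroup G} (c : cenAct Ω X) :
    Nat.card (invAt X c) = Nat.card (invIn X (c : Ω)) :=
  Nat.card_congr
    { toFun := fun i => ⟨(i.1 : G), ⟨(Subgroup.orderOf_coe i.1).trans i.2.1, congrArg Subtype.val i.2.2⟩, i.1.2⟩
      invFun := fun i => ⟨⟨i.1, i.2.2⟩, (Subgroup.orderOf_coe ⟨i.1, i.2.2⟩).symm.trans i.2.1.1, Subtype.ext i.2.1.2⟩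
      left_inv := fun _ => rfl
      right_inv := fun _ => rfl }

theorem card_swapAt_cen {X : Subgroup G} (c a : cenAct Ω X) :
    Nat.card (swapAt X c a) = Nat.card (swapIn X (c : Ω) (a : Ω)) :=
  Nat.card_congr
    { toFun := fun i => ⟨(i.1 : G), ⟨(Subgroup.orderOf_coe i.1).trans i.2.1, congrArg Subtype.val i.2.2⟩, i.1.2⟩
      invFun := fun i => ⟨⟨i.1, i.2.2⟩, (Subgroup.orderOf_coe ⟨i.1, i.2.2⟩).symm.trans i.2.1.1, Subtype.ext i.2.1.2⟩
      left_inv := fun _ => rfl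
      right_inv := fun _ => rfl }

namespace Hyp

variable (U : Hyp G Ω)
include U

theorem card_invIn {X : Subgroup G} {c a : Ω} (hc : c ∈ cen Ω X) (ha : a ∈ cen Ω X) :
    Nat.card (invIn X c) = Nat.card (invIn X a) := by
  rcases eq_or_ne c a with rfl | hca
  · rfl
  rw [← card_invAt_cen (⟨c, hc⟩ : cenAct Ω X), ← card_invAt_cen (⟨a, ha⟩ : cenAct Ω X)]
  exact (U.hyp_cen ⟨c, hc, a, ha, hca⟩).card_invAt _ _

theorem card_swapIn {X : Subgroup G} {c a : Ω} (hca : c ≠ a) (hc : c ∈ cen Ω X) (ha : a ∈ cen Ω X) :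
    Nat.card (swapIn X c a) = Nat.card (invIn X c) := by
  rw [← card_swapAt_cen (⟨c, hc⟩ : cenAct Ω X) ⟨a, ha⟩, ← card_invAt_cen (⟨c, hc⟩ : cenAct Ω X)]
  exact (U.hyp_cen ⟨c, hc, a, ha, hca⟩).card_swappers fun e => hca (congrArg Subtype.val e)

/-- If `l` divides the number of swappers in `X`, a Sylow `l`-subgroup of `X` fixes exactly the pair. -/
theorem exists_sylow_pair (hF : RealFree G Ω) {l : ℕ} [Fact l.Prime] (hl2 : l ≠ 2) {X : Subgroup G} {c a : Ω}
    (hca : c ≠ a) {v : G} (hv : v ∈ swapIn X c a) (hdvd : l ∣ Nat.card (swapIn X c a)) :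
    ∃ L, Grp.IsSylowIn l L X ∧ L ≤ stabilizer G c ∧ L ≤ stabilizer G a ∧
      ∀ z : Ω, L ≤ stabilizer G z → z = c ∨ z = a := by
  obtain ⟨A, hA⟩ : ∃ A, A = X ⊓ pairStab G c a := ⟨_, rfl⟩
  have hodd : Odd (Nat.card A) := hA ▸ (U.odd_pair hca).of_dvd_nat (card_dvd_of_le inf_le_right)
  have hconjv : ∀ x ∈ A, v * x * v⁻¹ ∈ A := fun x hx => by
    rw [hA] at hx ⊢
    refine ⟨X.mul_mem (X.mul_mem hv.2 hx.1) (X.inv_mem hv.2), mem_pair.2 ⟨?_, ?_⟩⟩
    · conv_lhs => rw [← swap_symm hv.1.1 hv.1.2]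
      rw [conj_smul_smul, (mem_pair.1 hx.2).2, swap_symm hv.1.1 hv.1.2]
    · conv_lhs => rw [← hv.1.2]
      rw [conj_smul_smul, (mem_pair.1 hx.2).1, hv.1.2]
  have hconj : ∀ g ∈ A, ∀ t ∈ swapIn X c a, g * t * g⁻¹ ∈ swapIn X c a := fun g hg t ht => by
    rw [hA] at hg
    exact ⟨U.swappers_conj hg.2 ht.1, X.mul_mem (X.mul_mem hg.1 ht.2) (X.inv_mem hg.1)⟩
  -- the swappers of `X` are the conjugates of `v` under `A`
  have htr : ∀ t ∈ swapIn X c a, ∃ g ∈ A, g * v * g⁻¹ = t := fun t ht => by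
    obtain ⟨hv1, hvX⟩ := hv
    obtain ⟨ht1, htX⟩ := ht
    have hvt : v * t ∈ pairStab G c a := mem_pair.2
      ⟨by rw [mul_smul, ht1.2, swap_symm hv1.1 hv1.2], by rw [mul_smul, swap_symm ht1.1 ht1.2, hv1.2]⟩
    obtain ⟨n, hn⟩ : Odd (orderOf (v * t)) := (U.odd_pair hca).of_dvd_nat (Subgroup.orderOf_dvd_natCard _ hvt)
    refine ⟨(v * t) ^ (n : ℤ), hA ▸ ⟨zpow_mem (X.mul_mem hvX htX) _, zpow_mem hvt _⟩, ?_⟩
    rw [← zpow_neg, mul_assoc, mul_zpow_comm hv1.1 ht1.1, neg_neg, ← mul_assoc, ← zpow_add]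
    have h1 : (v * t) ^ ((n : ℤ) + n) = (v * t)⁻¹ := by
      rw [eq_inv_iff_mul_eq_one, ← zpow_add_one,
        show (n : ℤ) + n + 1 = ((2 * n + 1 : ℕ) : ℤ) by push_cast; ring, zpow_natCast, ← hn, pow_orderOf_eq_one]
    rw [h1, mul_inv_rev, mul_assoc, inv_mul_cancel, mul_one, inv_of_orderOf_two ht1.1]
  have hindex : (A ⊓ centralizer ({v} : Set G)).relIndex A = Nat.card (swapIn X c a) := by
    let f : A → ↥(swapIn X c a) := fun g => ⟨(g : G) * v * (g : G)⁻¹, hconj g g.2 v hv⟩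
    have hcos : ∀ g h : A, f g = f h ↔ g⁻¹ * h ∈ (A ⊓ centralizer ({v} : Set G)).subgroupOf A := fun g h => by
      rw [Subgroup.mem_subgroupOf, Subgroup.mem_inf, mem_centralizer_singleton_iff, Subgroup.coe_mul,
        Subgroup.coe_inv]
      constructor
      · intro e
        have e' : (g : G) * v * (g : G)⁻¹ = h * v * (h : G)⁻¹ := congrArg Subtype.val e
        refine ⟨A.mul_mem (A.inv_mem g.2) h.2, ?_⟩
        calc (g : G)⁻¹ * h * v = (g : G)⁻¹ * ((h : G) * v * (h : G)⁻¹) * h := by group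
          _ = (g : G)⁻¹ * ((g : G) * v * (g : G)⁻¹) * h := by rw [e']
          _ = _ := by group
      · rintro ⟨-, e⟩
        refine Subtype.ext ?_
        show (g : G) * v * (g : G)⁻¹ = h * v * (h : G)⁻¹
        calc (g : G) * v * (g : G)⁻¹ = g * (v * ((g : G)⁻¹ * h)) * (h : G)⁻¹ := by group
          _ = g * ((g : G)⁻¹ * h * v) * (h : G)⁻¹ := by rw [e]
          _ = _ := by group
    rw [Subgroup.relIndex, Subgroup.index_eq_card]
    refine Nat.card_congr (Equiv.ofBijective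
      (Quotient.lift f fun g h e => (hcos g h).2 (QuotientGroup.leftRel_apply.1 e)) ⟨fun a b => ?_, fun t => ?_⟩)
    · exact Quotient.inductionOn₂ a b fun g h e =>
        Quotient.sound (QuotientGroup.leftRel_apply.2 ((hcos g h).1 e))
    · obtain ⟨g, hg, he⟩ := htr t.1 t.2
      exact ⟨Quotient.mk _ ⟨g, hg⟩, Subtype.ext he⟩
  obtain ⟨L, hL, j, hjL, hj1, hjv⟩ := exists_inverted_of_dvd hodd hv.1.1
    (mem_normalizer_fintype fun x hx => hconjv x hx) (hindex.symm ▸ hdvd)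
  rw [hA] at hL
  have hLD : L ≤ pairStab G c a := hL.1.trans inf_le_right
  have hfix : ∀ z : Ω, L ≤ stabilizer G z → z = c ∨ z = a := fun z hz =>
    (hF c a hca v hv.1 j (hLD hjL) hjv hj1).1 z (mem_stabilizer_iff.1 (hz hjL))
  exact ⟨L, isSylowIn_of_fix_two hl2 hca hL hfix, hLD.trans inf_le_left, hLD.trans inf_le_right, hfix⟩

/-- A subgroup centralising a swapper centralises an involution at each point of the pair. -/
theorem exists_commute_invAt (hF : RealFree G Ω) {c a : Ω} (hca : c ≠ a) {v : G} (hv : v ∈ swapAt G c a) :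
    ∀ (n : ℕ) (K : Subgroup G), Nat.card K = n → K ≤ pairStab G c a →
      K ≤ centralizer ({v} : Set G) → ∃ t ∈ invAt G c, K ≤ centralizer ({t} : Set G) := by
  intro n
  induction n using Nat.strong_induction_on with
  | _ n ih =>
  intro K hn hKD hKv
  by_cases hbot : K = ⊥
  · obtain ⟨t, ht, htc⟩ := U.invol_at c
    exact ⟨t, ⟨ht, htc⟩, hbot ▸ bot_le⟩
  have hodd : Odd (Nat.card K) := (U.odd_pair hca).of_dvd_nat (card_dvd_of_le hKD)
  obtain ⟨l, K1, x, hl, hK1, hxK, hxl, hsup, hxn⟩ := exists_prime_step hbot hodd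
  haveI := Fact.mk hl
  obtain ⟨t₁, ht₁, hK1t⟩ := ih _ (by
    rw [← hn]
    exact lt_of_le_of_ne (Nat.le_of_dvd Nat.card_pos (card_dvd_of_le hK1.le))
      fun e => hK1.ne (Subgroup.eq_of_le_of_card_ge hK1.le e.ge)) K1 rfl (hK1.le.trans hKD) (hK1.le.trans hKv)
  have hl2 : l ≠ 2 := by
    rintro rfl
    have hx1 : x ∈ K1 := by
      obtain ⟨k, hk⟩ := hodd.of_dvd_nat (Subgroup.orderOf_dvd_natCard _ hxK)
      have e : x = (x ^ 2) ^ (k + 1) := by
        rw [← pow_mul, show 2 * (k + 1) = orderOf x + 1 by omega, pow_succ, pow_orderOf_eq_one, one_mul]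
      rw [e]
      exact pow_mem hxl _
    exact hK1.ne (by rw [hsup, sup_eq_left.2 (zpowers_le.2 hx1)])
  obtain ⟨X, hX⟩ : ∃ X, X = centralizer (K : Set G) := ⟨_, rfl⟩
  obtain ⟨X1, hX1⟩ : ∃ X1, X1 = centralizer (K1 : Set G) := ⟨_, rfl⟩
  have hmemX : ∀ {g : G}, g ∈ X ↔ g ∈ X1 ∧ Commute x g := fun {g} => by
    rw [hX, hX1, mem_centralizer_iff, mem_centralizer_iff]
    refine ⟨fun h => ⟨fun y hy => h y (hK1.le hy), h x hxK⟩, fun h y hy => ?_⟩
    have hle : K1 ⊔ zpowers x ≤ centralizer ({g} : Set G) :=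
      sup_le (fun z hz => mem_centralizer_singleton_iff.2 (h.1 z hz))
        (zpowers_le.2 (mem_centralizer_singleton_iff.2 h.2.eq))
    exact mem_centralizer_singleton_iff.1 (hle (hsup ▸ hy))
  have hxconj : ∀ {g : G}, g ∈ X1 → x * g * x⁻¹ ∈ X1 := fun {g} hg => by
    rw [hX1, mem_centralizer_iff] at hg ⊢
    intro y hy
    have h1 := hg _ (conj_mem_of_normalizer' hxn hy)
    calc y * (x * g * x⁻¹) = x * (x⁻¹ * y * x * g) * x⁻¹ := by group
      _ = x * (g * (x⁻¹ * y * x)) * x⁻¹ := by rw [h1]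
      _ = _ := by group
  have hmod : ∀ z : Ω, x • z = z → Nat.card (invIn X1 z) ≡ Nat.card (invIn X z) [MOD l] := fun z hz => by
    refine (card_modEq_commuting (invIn X1 z) x (fun s hs => ⟨⟨(orderOf_conj_eq x s).trans hs.1.1, ?_⟩,
      hxconj hs.2⟩) fun s hs => (mem_centralizer_iff.1 (hX1 ▸ hs.2) _ hxl)).trans (modEq_of_eq ?_)
    · conv_lhs => rw [← hz]
      rw [conj_smul_smul, hs.1.2, hz]
    · exact Nat.card_congr (Equiv.subtypeEquivRight fun s => by
        show (s ∈ invAt G z ∧ s ∈ X1) ∧ Commute x s ↔ s ∈ invAt G z ∧ s ∈ X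
        rw [hmemX, and_assoc])
  by_contra hno
  push Not at hno
  have hxc : x • c = c := (mem_pair.1 (hKD hxK)).1
  have hc0 : Nat.card (invIn X c) = 0 := by
    haveI : IsEmpty ↥(invIn X c) := ⟨fun s => hno s s.2.1 fun y hy => mem_centralizer_singleton_iff.2
      ((mem_centralizer_iff.1 (hX ▸ s.2.2)) y hy)⟩
    exact Nat.card_of_isEmpty
  have hdvd1 : l ∣ Nat.card (invIn X1 c) := Nat.modEq_zero_iff_dvd.1 ((hmod c hxc).trans (modEq_of_eq hc0))
  have hvX : v ∈ X := by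
    rw [hX, mem_centralizer_iff]
    exact fun y hy => mem_centralizer_singleton_iff.1 (hKv hy)
  have hvX1 : v ∈ X1 := (hmemX.1 hvX).1
  have htX1 : t₁ ∈ X1 := by
    rw [hX1, mem_centralizer_iff]
    exact fun y hy => mem_centralizer_singleton_iff.1 (hK1t hy)
  have hc1 : c ∈ cen Ω X1 := ⟨t₁, htX1, ht₁.1, ht₁.2⟩
  have ha1 : a ∈ cen Ω X1 := hv.2 ▸ mem_cen_smul hvX1 hc1
  -- the pair
  have hswap : l ∣ Nat.card (swapIn X c a) := by
    have hxa : x • a = a := (mem_pair.1 (hKD hxK)).2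
    have h1 := card_modEq_commuting (l := l) (swapIn X1 c a) x (fun s hs => ⟨U.swappers_conj (hKD hxK) hs.1,
      hxconj hs.2⟩) fun s hs => (mem_centralizer_iff.1 (hX1 ▸ hs.2) _ hxl)
    rw [U.card_swapIn hca hc1 ha1] at h1
    have h2 : Nat.card {s : G | s ∈ swapIn X1 c a ∧ Commute x s} = Nat.card (swapIn X c a) :=
      Nat.card_congr (Equiv.subtypeEquivRight fun s => by
        show (s ∈ swapAt G c a ∧ s ∈ X1) ∧ Commute x s ↔ s ∈ swapAt G c a ∧ s ∈ X
        rw [hmemX, and_assoc])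
    rw [h2] at h1
    exact Nat.modEq_zero_iff_dvd.1 (h1.symm.trans (Nat.modEq_zero_iff_dvd.2 hdvd1))
  obtain ⟨L, hL, hLc, hLa, hLfix⟩ := U.exists_sylow_pair hF hl2 hca ⟨hv, hvX⟩ hswap
  -- a pair of centres of `X`
  obtain ⟨e, he⟩ := U.exists_fix v hv.1
  have hxe : x • e = e := U.fix_of_commute hv.1 he (hmemX.1 hvX).2
  have he1 : e ∈ cen Ω X1 := ⟨v, hvX1, hv.1, he⟩
  have hdvde : l ∣ Nat.card (invIn X e) :=
    Nat.modEq_zero_iff_dvd.1 (((hmod e hxe).symm.trans (modEq_of_eq (U.card_invIn he1 hc1))).trans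
      (Nat.modEq_zero_iff_dvd.2 hdvd1))
  have hec : e ≠ c := fun h => hno v ⟨hv.1, h ▸ he⟩ hKv
  obtain ⟨u, hu, huv⟩ : ∃ u ∈ swapIn X c a, u ≠ v := by
    by_contra hc'
    push Not at hc'
    haveI : Subsingleton ↥(swapIn X c a) := ⟨fun p q => Subtype.ext ((hc' p p.2).trans (hc' q q.2).symm)⟩
    haveI : Nonempty ↥(swapIn X c a) := ⟨⟨v, hv, hvX⟩⟩
    have h1 : Nat.card ↥(swapIn X c a) = 1 := Nat.card_eq_one_iff_unique.2 ⟨inferInstance, inferInstance⟩
    exact hl.one_lt.ne' (Nat.dvd_one.1 (h1 ▸ hswap))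
  obtain ⟨f, hf⟩ := U.exists_fix u hu.1.1
  have hef : e ≠ f := by
    rintro rfl
    have hj : v * u ∈ pairStab G c a := mem_pair.2
      ⟨by rw [mul_smul, hu.1.2, swap_symm hv.1 hv.2], by rw [mul_smul, swap_symm hu.1.1 hu.1.2, hv.2]⟩
    have hjv : v * (v * u) * v⁻¹ = (v * u)⁻¹ := by
      rw [← mul_assoc, mul_self_of_orderOf_two hv.1, one_mul, mul_inv_rev, inv_of_orderOf_two hu.1.1]
    have hj1 : v * u ≠ 1 := fun h => huv (by
      rw [← inv_of_orderOf_two hv.1]; exact (eq_inv_of_mul_eq_one_right h))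
    rcases (hF c a hca v hv (v * u) hj hjv hj1).1 e (by rw [mul_smul, hf, he]) with h | h
    · exact hec h
    · exact hca (smul_left_cancel v (hv.2.trans (h ▸ he).symm))
  have hce : e ∈ cen Ω X := ⟨v, hvX, hv.1, he⟩
  have hcf : f ∈ cen Ω X := ⟨u, hu.2, hu.1.1, hf⟩
  have hdvdef : l ∣ Nat.card (swapIn X e f) := U.card_swapIn hef hce hcf ▸ hdvde
  obtain ⟨w, hw⟩ : ∃ w, w ∈ swapIn X e f := by
    by_contra hc'
    push Not at hc'
    haveI : IsEmpty ↥(swapIn X e f) := ⟨fun s => hc' s s.2⟩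
    have h1 := U.card_swapIn hef hce hcf
    rw [Nat.card_of_isEmpty] at h1
    haveI : Nonempty ↥(invIn X e) := ⟨⟨v, ⟨hv.1, he⟩, hvX⟩⟩
    exact Nat.card_pos.ne' h1.symm
  obtain ⟨L', hL', hL'e, hL'f, hL'fix⟩ := U.exists_sylow_pair hF hl2 hef hw hdvdef
  -- a conjugate in `X` carries one pair to the other, so `c` is a centre of `X`
  obtain ⟨g, hgX, hg⟩ := hL'.conj hL
  have hmv : ∀ z : Ω, L' ≤ stabilizer G z → L ≤ stabilizer G (g • z) := fun z hz y hy => by
    rw [← hg] at hy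
    obtain ⟨y, hy', rfl⟩ := hy
    refine mem_stabilizer_iff.2 ?_
    show (g * y * g⁻¹) • (g • z) = g • z
    rw [conj_smul_smul, mem_stabilizer_iff.1 (hz hy')]
  have hgc : c = g • e ∨ c = g • f := by
    rcases hLfix _ (hmv e hL'e) with h | h
    · exact Or.inl h.symm
    rcases hLfix _ (hmv f hL'f) with h' | h'
    · exact Or.inr h'.symm
    · exact absurd (smul_left_cancel g (h.trans h'.symm)) hef
  obtain ⟨s, hsX, hs, hsc⟩ : c ∈ cen Ω X := by
    rcases hgc with h | h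
    · exact h ▸ mem_cen_smul hgX hce
    · exact h ▸ mem_cen_smul hgX hcf
  exact hno s ⟨hs, hsc⟩ fun y hy => mem_centralizer_singleton_iff.2 ((mem_centralizer_iff.1 (hX ▸ hsX)) y hy)

end Hyp

/-- The centraliser of a swapper in a pair stabiliser is that of an involution at the point. -/
theorem conjPair_of_realFree (U : Hyp G Ω) (hF : RealFree G Ω) : ConjPair G Ω := by
  intro c a hca v hv
  obtain ⟨t, ht, hle⟩ := U.exists_commute_invAt hF hca hv _ (pairStab G c a ⊓ centralizer ({v} : Set G)) rfl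
    inf_le_left inf_le_right
  refine ⟨t, ht, fun x hx => ?_⟩
  have h1 := U.card_centralizer_swapper hca hv
  have h2 := U.card_centralizer_invAt hca ht
  have heq : pairStab G c a ⊓ centralizer ({v} : Set G) = pairStab G c a ⊓ centralizer ({t} : Set G) := by
    refine Subgroup.eq_of_le_of_card_ge (le_inf inf_le_left hle) (le_of_eq ?_)
    haveI : Nonempty ↥(invAt G c) := ⟨⟨t, ht⟩⟩
    exact (Nat.eq_of_mul_eq_mul_right Nat.card_pos (h1.trans h2.symm)).symm
  constructor <;> intro h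
  · have h3 : x ∈ pairStab G c a ⊓ centralizer ({t} : Set G) :=
      heq ▸ ⟨hx, mem_centralizer_singleton_iff.2 h.eq⟩
    exact mem_centralizer_singleton_iff.1 (Subgroup.mem_inf.1 h3).2
  · have h3 : x ∈ pairStab G c a ⊓ centralizer ({v} : Set G) :=
      heq.symm ▸ ⟨hx, mem_centralizer_singleton_iff.2 h.eq⟩
    exact mem_centralizer_singleton_iff.1 (Subgroup.mem_inf.1 h3).2

end Cfsg.Agent.Invol.Bender
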