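import Cfsg.Agent.Lib.Invol.Bender.Parity
import Cfsg.Agent.Lib.Invol.Bender.SplitFacts
import Cfsg.Agent.Lib.Grp.Coprime

/-!
# All involutions at a point commute

If commuting splits the involutions at a point into several classes, the point stabiliser acts on the classes as a
group in which every involution fixes exactly one of them, so it has the split structure by induction.  A Sylow
subgroup of the stabiliser of a class in a pair stabiliser then fixes exactly one further class, which an element of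
odd order cannot exchange with the first.
-/

set_option autoImplicit false
set_option linter.unusedSectionVars false

namespace Cfsg.Agent.Invol.Bender

open MulAction Subgroup
open scoped Pointwise

universe u v

variable {G : Type u} [Group G] [Finite G] {Ω : Type v} [MulAction G Ω]

namespace Hyp

variable (U : Hyp G Ω)
include U

/-- A group of odd order fixing three centres centralises an involution at the first of them modulo the kernel. -/
theorem exists_centralised_mod_ker {M : Subgroup G} {d e f : Ω} {Q : Subgroup G} (hM : (cen Ω M).Nontrivial)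
    (hQ : SplitAt M d Q) {A : Subgroup G} (hA : A ≤ M ⊓ stabilizer G d)
    (hec : e ∈ cen Ω M) (hed : e ≠ d) (hAe : A ≤ stabilizer G e)
    (hfc : f ∈ cen Ω M) (hfd : f ≠ d) (hAf : A ≤ stabilizer G f) (hef : e ≠ f) :
    ∃ i ∈ M, i ∈ invAt G d ∧ ∀ a ∈ A, a * i * a⁻¹ * i⁻¹ ∈ ker Ω M := by
  obtain ⟨q, hq, hqe⟩ := hQ.exists_move e hec hed f hfc hfd
  have hqK : q ∉ ker Ω M := fun h => hef (by rw [← hqe, (mem_ker.1 h).2 e hec])
  have hstep : ∀ a ∈ A, a * q * a⁻¹ * q⁻¹ ∈ ker Ω M := fun a ha => by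
    refine hQ.inf_le f hfc hfd ⟨mul_mem (hQ.conj_mem a (hA ha) q hq) (Q.inv_mem hq), ?_⟩
    show (a * q * a⁻¹ * q⁻¹) • f = f
    rw [mul_smul, inv_smul_eq_iff.2 hqe.symm, mul_smul, mul_smul,
      inv_smul_eq_iff.2 (mem_stabilizer_iff.1 (hAe ha)).symm, hqe, mem_stabilizer_iff.1 (hAf ha)]
  have hpow : ∀ j : ℕ, ∀ a ∈ A, a * q ^ j * a⁻¹ * (q ^ j)⁻¹ ∈ ker Ω M := by
    intro j a ha
    induction j with
    | zero => simp
    | succ j ih =>
      have := mul_mem ih (ker_conj_mem (pow_mem (Subgroup.mem_inf.1 (hQ.le hq)).1 j) (hstep a ha))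
      rw [pow_succ]
      convert this using 1
      group
  obtain ⟨k, hk⟩ := hQ.two_index
  have hoddK := U.odd_ker hM
  have : Fact (Nat.Prime 2) := ⟨Nat.prime_two⟩
  have hcop : (2 ^ k).Coprime (Nat.card (ker Ω M)) := Nat.Coprime.pow_left _ (Nat.coprime_two_left.2 hoddK)
  have hqQ : q ^ Nat.card Q = 1 := congrArg Subtype.val (pow_card_eq_one' (x := (⟨q, hq⟩ : Q)))
  obtain ⟨r, hr⟩ : ∃ r, r = q ^ Nat.card (ker Ω M) := ⟨_, rfl⟩
  have hr1 : r ≠ 1 := by
    intro h
    refine hqK ?_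
    have : ((ker Ω M).subgroupOf Q).Normal := ⟨fun a ha g => by
      rw [Subgroup.mem_subgroupOf] at ha ⊢
      simpa using ker_conj_mem (Subgroup.mem_inf.1 (hQ.le g.2)).1 ha⟩
    have h5 : q ^ 2 ^ k ∈ ker Ω M := by
      have h6 := Subgroup.pow_index_mem ((ker Ω M).subgroupOf Q) (⟨q, hq⟩ : Q)
      have h7 : ((ker Ω M).subgroupOf Q).index = 2 ^ k := by
        have h8 := Subgroup.card_mul_index ((ker Ω M).subgroupOf Q)
        rw [Nat.card_congr (subgroupOfEquivOfLe hQ.ker_le).toEquiv, hk] at h8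
        exact Nat.eq_of_mul_eq_mul_left Nat.card_pos h8
      rw [h7, Subgroup.mem_subgroupOf] at h6
      exact h6
    obtain ⟨m, hm⟩ := exists_pow_eq_self_of_coprime (x := q) (n := 2 ^ k)
      (hcop.coprime_dvd_right (orderOf_dvd_of_pow_eq_one (hr ▸ h)))
    exact hm ▸ pow_mem h5 m
  obtain ⟨l, -, hl⟩ := (Nat.dvd_prime_pow Nat.prime_two).1 (orderOf_dvd_of_pow_eq_one
    (by rw [hr, ← pow_mul, ← hk, hqQ] : r ^ 2 ^ k = 1))
  have hl0 : 2 ∣ orderOf r := by
    rcases l with _ | l
    · exact absurd (orderOf_eq_one_iff.1 (by rw [hl, pow_zero])) hr1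
    · exact hl ▸ dvd_pow_self 2 l.succ_ne_zero
  have hi2 : orderOf (r ^ (orderOf r / 2)) = 2 := orderOf_pow_orderOf_div (orderOf_pos r).ne' hl0
  rw [hr, ← pow_mul] at hi2
  obtain ⟨hiM, hid⟩ := Subgroup.mem_inf.1 (hQ.le (pow_mem hq _ : q ^ (Nat.card (ker Ω M) * (orderOf (q ^ Nat.card (ker Ω M)) / 2)) ∈ Q))
  exact ⟨_, hiM, ⟨hi2, mem_stabilizer_iff.1 hid⟩, fun a ha => hpow _ a ha⟩

end Hyp

/-- The stabiliser of a point acts by conjugation on the involutions at that point. -/
instance conjInvAt (c : Ω) : MulAction (stabilizer G c) ↥(invAt G c) where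
  smul h t := ⟨h * t * (h : G)⁻¹, (orderOf_conj_eq _ _).trans t.2.1, by
    rw [mul_smul, mul_smul, inv_smul_eq_iff.2 (mem_stabilizer_iff.1 h.2).symm, t.2.2, mem_stabilizer_iff.1 h.2]⟩
  one_smul t := Subtype.ext (by simp [HSMul.hSMul, SMul.smul])
  mul_smul g h t := Subtype.ext (by
    show (g * h : G) * t * (g * h : G)⁻¹ = g * (h * t * (h : G)⁻¹) * (g : G)⁻¹
    group)

theorem coe_conjInvAt {c : Ω} (h : stabilizer G c) (t : ↥(invAt G c)) :
    ((h • t : ↥(invAt G c)) : G) = h * t * (h : G)⁻¹ := rfl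

section

variable {G : Type u} [Group G] [Finite G] {Ω : Type u} [MulAction G Ω]

/-- All involutions fixing one point commute. -/
theorem invComm (U : Hyp G Ω) (hr : TwoRank (⊤ : Subgroup G)) (hb : Below.{u} (Nat.card G)) (hF : RealFree G Ω)
    (hC : ConjPair G Ω) : InvComm G Ω := by
  classical
  intro c s₀ hs₀ t₀ ht₀
  by_contra hne
  have htrans := U.commute_trans hr hF hC c
  obtain ⟨a, hac⟩ := @exists_ne Ω U.nontrivial c
  have hca := hac.symm
  -- the classes of commuting involutions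
  let S : Setoid ↥(invAt G c) :=
    ⟨fun x y => Commute (x : G) y, fun x => Commute.refl _, fun h => h.symm,
      fun {x y z} h h' => htrans x x.2 y y.2 z z.2 h h'⟩
  have hconj : ∀ (h : stabilizer G c) (x y : ↥(invAt G c)),
      Commute (x : G) y → Commute ((h • x : ↥(invAt G c)) : G) (h • y : ↥(invAt G c)) := fun h x y e => by
    rw [coe_conjInvAt, coe_conjInvAt]
    exact ((SemiconjBy.conj_iff).2 e :)
  let act : MulAction (stabilizer G c) (Quotient S) :=
    { smul := fun h => Quotient.map (fun x => h • x) (fun x y e => hconj h x y e)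
      one_smul := fun q => Quotient.inductionOn q fun x => congrArg (Quotient.mk S) (one_smul _ x)
      mul_smul := fun g h q => Quotient.inductionOn q fun x => congrArg (Quotient.mk S) (mul_smul g h x) }
  let D := (pairStab G c a).subgroupOf (stabilizer G c)
  have hDodd : Odd (Nat.card D) := by
    have hle : pairStab G c a ≤ stabilizer G c := inf_le_left
    have e := Nat.card_congr (subgroupOfEquivOfLe hle).toEquiv
    exact e.symm ▸ U.odd_pair hca
  have hDtr : ∀ x y : ↥(invAt G c), ∃ g ∈ D, g • x = y := fun x y => by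
    obtain ⟨g, hg, hgxy⟩ := U.exists_conj_invAt hca x.2 y.2
    exact ⟨⟨g, (Subgroup.mem_inf.1 hg).1⟩, hg, Subtype.ext hgxy⟩
  have hmk : ∀ (g : stabilizer G c) (x : ↥(invAt G c)),
      g • (Quotient.mk S x : Quotient S) = Quotient.mk S (g • x) := fun g x => rfl
  -- the stabiliser of the point as a group of the same kind
  have hinvH : ∀ i : stabilizer G c, orderOf i = 2 → (i : G) ∈ invAt G c :=
    fun i hi => ⟨(Subgroup.orderOf_coe i).trans hi, mem_stabilizer_iff.1 i.2⟩
  have hfix : ∀ (i : stabilizer G c) (hi : orderOf i = 2) (x : ↥(invAt G c)),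
      (i • (Quotient.mk S x : Quotient S) = Quotient.mk S x) ↔
        (Quotient.mk S x : Quotient S) = Quotient.mk S ⟨i, hinvH i hi⟩ := by
    intro i hi x
    constructor
    · intro e
      rw [hmk] at e
      have e' : Commute ((i • x : ↥(invAt G c)) : G) x := Quotient.exact e
      -- the class has odd size
      let f : {t : G // t ∈ invAt G c ∧ Commute (x : G) t} → {t : G // t ∈ invAt G c ∧ Commute (x : G) t} :=
        fun t => ⟨(i • (⟨t.1, t.2.1⟩ : ↥(invAt G c)) : ↥(invAt G c)), Subtype.prop _,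
          htrans x x.2 _ (Subtype.prop _) _ (Subtype.prop _) e'.symm (hconj i x ⟨t.1, t.2.1⟩ t.2.2)⟩
      have hii : (i : G) * i = 1 := mul_self_of_orderOf_two (hinvH i hi).1
      have h2 := card_modEq_two_fixed (f := f) fun t => Subtype.ext (by
        show (i : G) * ((i : G) * t.1 * (i : G)⁻¹) * (i : G)⁻¹ = t.1
        calc (i : G) * ((i : G) * t.1 * (i : G)⁻¹) * (i : G)⁻¹ = (i : G) * i * t.1 * ((i : G) * i)⁻¹ := by group
          _ = t.1 := by rw [hii, one_mul, inv_one, mul_one])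
      rw [Nat.ModEq, Nat.odd_iff.1 (U.odd_commuting x.2)] at h2
      have : Nonempty {t // f t = t} := by
        by_contra hemp
        rw [not_nonempty_iff] at hemp
        rw [@Nat.card_of_isEmpty {t // f t = t}] at h2
        omega
      obtain ⟨⟨⟨t, ht, hxt⟩, he⟩⟩ := this
      have he' : (i : G) * t * (i : G)⁻¹ = t := congrArg Subtype.val he
      exact Quotient.sound (htrans x x.2 t ht _ (hinvH i hi) hxt (mul_inv_eq_iff_eq_mul.1 he').symm)
    · intro e
      rw [e, hmk]
      exact congrArg (Quotient.mk S) (Subtype.ext (mul_inv_cancel_right _ _))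
  have hnt : Nontrivial (Quotient S) :=
    ⟨Quotient.mk S ⟨s₀, hs₀⟩, Quotient.mk S ⟨t₀, ht₀⟩, fun e => hne (Quotient.exact e)⟩
  have U' : Hyp (stabilizer G c) (Quotient S) :=
    { transitive := ⟨fun p q => Quotient.inductionOn₂ p q fun x y => by
        obtain ⟨g, -, hg⟩ := hDtr x y
        exact ⟨g, by rw [hmk, hg]⟩⟩
      nontrivial := hnt
      exists_inv := ⟨⟨s₀, hs₀.2⟩, by rw [← Subgroup.orderOf_coe]; exact hs₀.1⟩
      unique_fix := fun i hi => ⟨Quotient.mk S ⟨i, hinvH i hi⟩, (hfix i hi _).2 rfl,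
        fun q hq => by induction q using Quotient.inductionOn with | h x => exact (hfix i hi x).1 hq⟩ }
  -- two different commuting involutions at each point
  have hpair : ∀ x : ↥(invAt G c), ∃ y : ↥(invAt G c), y ≠ x ∧ Commute (x : G) y := by
    obtain ⟨u, -, w, -, hu, hw, huw, hcm⟩ := hr
    obtain ⟨z, hz⟩ := U.exists_fix u hu
    obtain ⟨g, hg⟩ := U.exists_smul_eq z c
    have hu' : g * u * g⁻¹ ∈ invAt G c := ⟨(orderOf_conj_eq g u).trans hu, by rw [← hg, conj_smul_smul, hz]⟩
    have hw' : g * w * g⁻¹ ∈ invAt G c := ⟨(orderOf_conj_eq g w).trans hw,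
      by rw [← hg, conj_smul_smul, U.fix_of_commute hu hz hcm.symm]⟩
    intro x
    obtain ⟨k, -, hk⟩ := hDtr ⟨_, hu'⟩ x
    refine ⟨k • ⟨_, hw'⟩, fun e => ?_, ?_⟩
    · rw [← hk] at e
      have e' : g * w * g⁻¹ = g * u * g⁻¹ := congrArg Subtype.val ((smul_left_cancel_iff k).1 e)
      exact huw (mul_left_cancel (mul_right_cancel e'.symm))
    · rw [← hk]
      exact hconj k ⟨_, hu'⟩ ⟨_, hw'⟩ ((SemiconjBy.conj_iff).2 hcm :)
  have hr' : TwoRank (⊤ : Subgroup (stabilizer G c)) := by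
    obtain ⟨y, hy, hc⟩ := hpair ⟨s₀, hs₀⟩
    exact ⟨⟨s₀, hs₀.2⟩, mem_top _, ⟨y, y.2.2⟩, mem_top _, by rw [← Subgroup.orderOf_coe]; exact hs₀.1,
      by rw [← Subgroup.orderOf_coe]; exact y.2.1, fun e => hy (Subtype.ext (congrArg Subtype.val e).symm),
      Subtype.ext hc.eq⟩
  have hlt : Nat.card (stabilizer G c) < Nat.card G :=
    lt_of_le_of_ne (Subgroup.card_le_card_group _) fun e => by
      obtain ⟨g, hg⟩ := U.exists_smul_eq c a
      exact hca (by rw [← hg]; exact (mem_stabilizer_iff.1 (Subgroup.eq_top_of_card_eq _ e ▸ mem_top g)).symm)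
  have hsplit := hb (stabilizer G c) (Quotient S) hlt U' hr'
  have hcen : ∀ q : Quotient S, q ∈ cen (Quotient S) (⊤ : Subgroup (stabilizer G c)) := fun q =>
    Quotient.inductionOn q fun x => ⟨⟨x, x.2.2⟩, mem_top _, by rw [← Subgroup.orderOf_coe]; exact x.2.1,
      (hfix ⟨x, x.2.2⟩ (by rw [← Subgroup.orderOf_coe]; exact x.2.1) x).2 rfl⟩
  have hcnt : (cen (Quotient S) (⊤ : Subgroup (stabilizer G c))).Nontrivial :=
    ⟨_, hcen (Quotient.mk S ⟨s₀, hs₀⟩), _, hcen (Quotient.mk S ⟨t₀, ht₀⟩), fun e => hne (Quotient.exact e)⟩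
  -- a Sylow subgroup of the stabiliser of one class for a prime dividing the size of the class
  obtain ⟨e, he⟩ : ∃ e : Quotient S, e = Quotient.mk S ⟨s₀, hs₀⟩ := ⟨_, rfl⟩
  obtain ⟨n, hn⟩ : ∃ n, n = Nat.card {t : G // t ∈ invAt G c ∧ Commute s₀ t} := ⟨_, rfl⟩
  have hn1 : n ≠ 1 := by
    intro h
    obtain ⟨y, hy, hc⟩ := hpair ⟨s₀, hs₀⟩
    have := (Nat.card_eq_one_iff_unique.1 (hn.symm.trans h)).1
    exact hy (Subtype.ext (congrArg (fun z : {t : G // t ∈ invAt G c ∧ Commute s₀ t} => z.1)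
      (Subsingleton.elim (⟨(y : G), y.2, hc⟩ : {t : G // t ∈ invAt G c ∧ Commute s₀ t})
        ⟨s₀, hs₀, Commute.refl _⟩)))
  obtain ⟨p, hp, hpn⟩ := Nat.exists_prime_and_dvd hn1
  have := Fact.mk hp
  obtain ⟨DE, hDE⟩ : ∃ DE, DE = D ⊓ stabilizer (stabilizer G c) e := ⟨_, rfl⟩
  obtain ⟨P, hP⟩ := Grp.exists_isSylowIn p DE
  have hPD : P ≤ D := hP.1.trans (hDE ▸ inf_le_left)
  have hPe : P ≤ stabilizer (stabilizer G c) e := hP.1.trans (hDE ▸ inf_le_right)
  have hPodd : Odd (Nat.card P) := hDodd.of_dvd_nat (Subgroup.card_dvd_of_le hPD)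
  obtain ⟨Q, hQ⟩ := hsplit e (hcen e)
  obtain ⟨f, hfc, hfe, hPf⟩ := U'.exists_fix_centre hcnt hQ (A := P)
    (le_inf le_top hPe) hPodd
  -- no third class is fixed
  have hno : ∀ f' : Quotient S, f' ≠ e → P ≤ stabilizer (stabilizer G c) f' → f' = f := by
    intro f' hf'e hPf'
    by_contra hne'
    obtain ⟨i, -, hi, hiK⟩ := U'.exists_centralised_mod_ker hcnt hQ (le_inf le_top hPe) (hcen f') hf'e hPf'
      hfc hfe hPf hne'
    have hie : (Quotient.mk S ⟨i, hinvH i hi.1⟩ : Quotient S) = e := by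
      have h3 := hi.2
      rw [he] at h3
      exact (he.trans ((hfix i hi.1 _).1 h3)).symm
    have hcent : ∀ g ∈ P, g • (⟨i, hinvH i hi.1⟩ : ↥(invAt G c)) = ⟨i, hinvH i hi.1⟩ := by
      intro g hg
      have hK := hiK g hg
      have hge : (Quotient.mk S (g • (⟨i, hinvH i hi.1⟩ : ↥(invAt G c))) : Quotient S) = e := by
        rw [← hmk, hie, mem_stabilizer_iff.1 (hPe hg)]
      have hcm : Commute ((g : G) * i * (g : G)⁻¹) i := Quotient.exact (hge.trans hie.symm)
      have hii : (i : G) * i = 1 := mul_self_of_orderOf_two (hinvH i hi.1).1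
      have hz2 : (g * i * g⁻¹ * i⁻¹) * (g * i * g⁻¹ * i⁻¹) = 1 := Subtype.ext (by
        simp only [Subgroup.coe_mul, Subgroup.coe_inv, Subgroup.coe_one]
        have h4 : (g : G) * i * (g : G)⁻¹ * ((g : G) * i * (g : G)⁻¹) = 1 := by
          calc (g : G) * i * (g : G)⁻¹ * ((g : G) * i * (g : G)⁻¹) = (g : G) * ((i : G) * i) * (g : G)⁻¹ := by group
            _ = 1 := by rw [hii]; group
        rw [inv_of_orderOf_two (hinvH i hi.1).1]
        generalize (g : G) * i * (g : G)⁻¹ = z at hcm h4 ⊢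
        calc z * i * (z * i) = z * ((i : G) * z) * i := by group
          _ = z * (z * i) * i := by rw [hcm.eq]
          _ = (z * z) * ((i : G) * i) := by group
          _ = 1 := by rw [h4, hii, one_mul])
      obtain ⟨k, hk⟩ := U'.odd_ker hcnt
      have h1 : (g * i * g⁻¹ * i⁻¹) ^ Nat.card (ker (Quotient S) (⊤ : Subgroup (stabilizer G c))) = 1 :=
        congrArg Subtype.val (pow_card_eq_one' (x := (⟨_, hK⟩ : ker (Quotient S) (⊤ : Subgroup (stabilizer G c)))))
      rw [hk, pow_succ, pow_mul, sq, hz2, one_pow, one_mul, mul_inv_eq_one] at h1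
      exact Subtype.ext (congrArg (fun z : stabilizer G c => (z : G)) h1)
    -- so the size of the class is prime to `p`
    let x : ↥(invAt G c) := ⟨i, hinvH i hi.1⟩
    have hcard : (stabilizer DE x).index = n := by
      rw [index_stabilizer, ← Nat.card_coe_set_eq, hn]
      have hiff : ∀ y : ↥(invAt G c), y ∈ orbit DE x ↔ Commute s₀ (y : G) := by
        intro y
        constructor
        · rintro ⟨g, rfl⟩
          have h1 : ((g : stabilizer G c)) • e = e :=
            mem_stabilizer_iff.1 (Subgroup.mem_inf.1 (hDE.le g.2)).2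
          rw [← hie, hmk] at h1
          exact Quotient.exact ((h1.trans hie).trans he).symm
        · intro hy
          obtain ⟨g, hgD, hg⟩ := hDtr x y
          refine ⟨⟨g, ?_⟩, hg⟩
          rw [hDE]
          refine ⟨hgD, mem_stabilizer_iff.2 ?_⟩
          rw [← hie, hmk, hg, hie, he]
          exact Quotient.sound hy.symm
      exact Nat.card_congr
        { toFun := fun y => ⟨y.1, y.1.2, (hiff y.1).1 y.2⟩
          invFun := fun t => ⟨⟨t.1, t.2.1⟩, (hiff _).2 t.2.2⟩
          left_inv := fun y => rfl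
          right_inv := fun t => rfl }
    refine hP.2.2 (hpn.trans ?_)
    rw [← hcard]
    refine Subgroup.index_dvd_of_le fun g hg => ?_
    exact mem_stabilizer_iff.2 (hcent g hg)
  -- exchanging the two classes
  obtain ⟨g, hgD, hge⟩ : ∃ g ∈ D, g • e = f := by
    induction f using Quotient.inductionOn with
    | h y =>
      obtain ⟨g, hgD, hg⟩ := hDtr ⟨s₀, hs₀⟩ y
      exact ⟨g, hgD, by rw [he, hmk, hg]⟩
  obtain ⟨DF, hDF⟩ : ∃ DF, DF = D ⊓ stabilizer (stabilizer G c) f := ⟨_, rfl⟩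
  have hDEF : MulAut.conj g • DE = DF := by
    ext z
    rw [Subgroup.mem_pointwise_smul_iff_inv_smul_mem, hDE, hDF]
    simp only [Subgroup.mem_inf, mem_stabilizer_iff]
    rw [show (MulAut.conj g)⁻¹ • z = g⁻¹ * z * g from by simp, mul_smul, mul_smul, hge,
      inv_smul_eq_iff, hge]
    refine and_congr_left fun _ => ⟨fun h => ?_, fun h => mul_mem (mul_mem (inv_mem hgD) h) hgD⟩
    have := mul_mem (mul_mem hgD h) (inv_mem hgD)
    simpa [mul_assoc] using this
  have hP' : Grp.IsSylowIn p (MulAut.conj g • P) DF := by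
    refine ⟨hDEF ▸ Subgroup.pointwise_smul_le_pointwise_smul_iff.mpr hP.1, hP.2.1.map _, ?_⟩
    rw [← hDEF, Grp.relIndex_smul]
    exact hP.2.2
  have hPF : Grp.IsSylowIn p P DF := by
    have hle : P ≤ DF := hDF ▸ le_inf hPD hPf
    refine ⟨hle, hP.2.1, ?_⟩
    have h1 := Subgroup.card_mul_index (P.subgroupOf DE)
    have h2 := Subgroup.card_mul_index (P.subgroupOf DF)
    rw [Nat.card_congr (subgroupOfEquivOfLe hP.1).toEquiv] at h1
    rw [Nat.card_congr (subgroupOfEquivOfLe hle).toEquiv, ← hDEF,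
      ← Nat.card_congr (Subgroup.equivSMul (MulAut.conj g) DE).toEquiv, ← h1] at h2
    have h3 := Nat.eq_of_mul_eq_mul_left Nat.card_pos h2
    rw [hDEF] at h3
    show ¬ p ∣ P.relIndex DF
    rw [Subgroup.relIndex, h3]
    exact hP.2.2
  obtain ⟨k, hkF, hk⟩ := hP'.conj hPF
  obtain ⟨m, hm⟩ : ∃ m, m = k * g := ⟨_, rfl⟩
  rw [hDF] at hkF
  have hmD : m ∈ D := hm ▸ mul_mem hkF.1 hgD
  have hme : m • e = f := by rw [hm, mul_smul, hge, mem_stabilizer_iff.1 hkF.2]
  have hmP : MulAut.conj m • P = P := by rw [hm, map_mul, mul_smul, hk]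
  have hmf : P ≤ stabilizer (stabilizer G c) (m • f) := by
    intro z hz
    rw [← hmP, Subgroup.mem_pointwise_smul_iff_inv_smul_mem] at hz
    have h1 := mem_stabilizer_iff.1 (hPf hz)
    rw [show (MulAut.conj m)⁻¹ • z = m⁻¹ * z * m from by simp, mul_smul, mul_smul, inv_smul_eq_iff] at h1
    exact mem_stabilizer_iff.2 h1
  have hmfe : m • f = e := by
    by_contra hne'
    have h1 := hno (m • f) hne' hmf
    rw [← hme, ← mul_smul] at h1
    exact hfe (by rw [← hme]; exact smul_left_cancel m (by rw [← mul_smul]; exact h1))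
  obtain ⟨j, hj⟩ : Odd (orderOf m) := hDodd.of_dvd_nat (Subgroup.orderOf_dvd_natCard _ hmD)
  have hpow : ∀ j : ℕ, (m ^ (2 * j)) • e = e := by
    intro j
    induction j with
    | zero => simp
    | succ j ih => rw [show 2 * (j + 1) = 2 * j + 1 + 1 by ring, pow_succ', pow_succ', mul_smul, mul_smul,
        ih, hme, hmfe]
  have h1 := hpow j
  have h2 : m ^ (2 * j) = m⁻¹ := eq_inv_of_mul_eq_one_left (by rw [← pow_succ, ← hj, pow_orderOf_eq_one])
  rw [h2, inv_smul_eq_iff, hme] at h1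
  exact hfe h1.symm

end

end Cfsg.Agent.Invol.Bender
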