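import Cfsg.Agent.Lib.Invol.Bender.NoKernel
import Cfsg.Agent.Lib.Invol.Bender.RealFix

/-!
# The case in which every pair is improper

If the involutions at any two points generate the group, the action is 2-transitive and an element of a pair
stabiliser inverted by a swapper fixes only the pair.
-/

set_option autoImplicit false
set_option linter.unusedSectionVars false

namespace Cfsg.Agent.Invol.Bender

open MulAction Subgroup

universe u v

variable {G : Type u} [Group G] [Finite G] {Ω : Type v} [MulAction G Ω]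

/-- Goodness: some element centralises no involution. -/
def OddCent (h : Ω) (W : Subgroup G) : Prop :=
  ∃ w ∈ W, ∀ z : G, orderOf z = 2 → ¬ Commute z w

variable (U : Hyp G Ω) [FaithfulSMul G Ω]
include U

/-- In the improper case an element of a pair stabiliser inverted by a swapper centralises no involution. -/
theorem improper_not_commute (hr : TwoRank (⊤ : Subgroup G)) (hB : SplitBelow G Ω) (hI : Improper G Ω) {v j : G}
    {c a : Ω} (hca : c ≠ a) (hv : v ∈ swapAt G c a) (hj : j ∈ pairStab G c a) (hinv : v * j * v⁻¹ = j⁻¹)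
    (hj1 : j ≠ 1) {z : G} (hz : orderOf z = 2) : ¬ Commute z j := by
  intro hzj
  obtain ⟨e, hve⟩ := U.exists_fix v hv.1
  have hs : Special j v e :=
    ⟨⟨hv.1, hve⟩, hinv, hj1, (U.odd_pair hca).of_dvd_nat (Subgroup.orderOf_dvd_natCard _ hj), z, hz, hzj⟩
  have hec : c ≠ e := fun h => hca (by rw [← hv.2, h, hve])
  exact special_no_fix U hr (noKernelSpecial_of_improper U hB hI) hB hs hec (mem_pair.1 hj).1

/-- The goodness axioms in the improper case. -/
theorem improper_goodness (hr : TwoRank (⊤ : Subgroup G)) (hB : SplitBelow G Ω) (hI : Improper G Ω) {p : ℕ}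
    [hp : Fact p.Prime] (hp2 : p ≠ 2) {c₀ : Ω} (hdvd : p ∣ Nat.card ↥(invAt G c₀)) :
    Goodness G Ω p (OddCent (G := G) (Ω := Ω)) where
  mono := fun _ _ _ hle _ _ ⟨w, hw, h⟩ => ⟨w, hle hw, h⟩
  conj := fun g _ _ _ ⟨w, hw, h⟩ => ⟨g * w * g⁻¹, ⟨w, hw, rfl⟩, fun z hz hc => by
    refine h (g⁻¹ * z * g) ?_ ?_
    · rw [show g⁻¹ * z * g = g⁻¹ * z * g⁻¹⁻¹ by group, orderOf_conj_eq]; exact hz
    · have h1 := hc.conj g⁻¹
      simpa [mul_assoc] using h1⟩
  cent := by
    rintro f x W i hW hWf hWx hxf hi hiW ⟨w, hw, hgood⟩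
    obtain ⟨y, hy⟩ : ∃ y, y = w * (i * w⁻¹ * i⁻¹) := ⟨_, rfl⟩
    have hyW : y ∈ W := hy ▸ W.mul_mem hw (conj_mem_of_normalizer hiW (W.inv_mem hw))
    have hinv : i * y * i⁻¹ = y⁻¹ := by
      have hii := mul_self_of_orderOf_two hi.1
      rw [hy, inv_of_orderOf_two hi.1]
      calc i * (w * (i * w⁻¹ * i)) * i = (i * w * i) * w⁻¹ * (i * i) := by group
        _ = (i⁻¹ * w * i⁻¹) * w⁻¹ * 1 := by rw [hii, inv_of_orderOf_two hi.1]
        _ = _ := by group
    have hodd : Odd (orderOf y) := by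
      obtain ⟨n, hn⟩ := IsPGroup.iff_card.1 hW
      exact ((hn ▸ (hp.out.odd_of_ne_two hp2).pow : Odd (Nat.card W))).of_dvd_nat
        (Subgroup.orderOf_dvd_natCard _ hyW)
    by_cases hy1 : y = 1
    · refine hgood i hi.1 ?_
      rw [hy, mul_eq_one_iff_eq_inv, eq_comm] at hy1
      show i * w = w * i
      have h2 : i * w * i⁻¹ = w := by simpa [mul_assoc] using hy1
      exact mul_inv_eq_iff_eq_mul.1 h2
    · exact U.real_no_fix hr (noKernelSpecial_of_improper U hB hI) hB hi hinv hy1 hodd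
        (mem_stabilizer_iff.1 (hWf hyW)) hxf (mem_stabilizer_iff.1 (hWx hyW))
  full := by
    intro h k hhk W hW
    obtain ⟨v, hv, hvW⟩ := exists_swapper_normalizer U hhk hW
    obtain ⟨e, hve⟩ := U.exists_fix v hv.1
    have hhe : h ≠ e := fun h' => hhk (by rw [← hv.2, h', hve])
    have hW' : Grp.IsSylowIn p W (pairStab G h (v • h)) := by rw [hv.2]; exact hW
    have hcard := card_inverted_sylow U ⟨hv.1, hve⟩ hhe hW' hvW
    rw [U.card_invAt e c₀] at hcard
    have h1 : 1 < Nat.card ↥(invertedBy v W) := by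
      rw [hcard]
      exact Nat.one_lt_pow (Nat.pos_iff_ne_zero.1
        (hp.out.factorization_pos_of_dvd (fun h0 => by
          rw [h0] at hdvd
          obtain ⟨t, ht⟩ := U.invol_at c₀
          haveI : Nonempty ↥(invAt G c₀) := ⟨⟨t, ht⟩⟩
          exact Nat.card_pos.ne' h0) hdvd)) hp.out.one_lt
    haveI : Nontrivial ↥(invertedBy v W) := Finite.one_lt_card_iff_nontrivial.1 h1
    obtain ⟨⟨j, hjW, hj⟩, hne⟩ := exists_ne (⟨1, W.one_mem, by simp⟩ : ↥(invertedBy v W))
    exact ⟨j, hjW, fun z hz => improper_not_commute U hr hB hI hhk hv (hW.1 hjW) hj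
      (fun e => hne (Subtype.ext e)) hz⟩

/-- An odd prime dividing the number of involutions at a point. -/
theorem exists_odd_prime_dvd (hr : TwoRank (⊤ : Subgroup G)) (c : Ω) :
    ∃ p : ℕ, p.Prime ∧ p ≠ 2 ∧ p ∣ Nat.card ↥(invAt G c) := by
  obtain ⟨x, -, y, -, hx2, hy2, hxy, hc⟩ := hr
  obtain ⟨d, hxd⟩ := U.exists_fix x hx2
  have hyd : y • d = d := U.fix_of_commute hx2 hxd hc.symm
  haveI : Nontrivial ↥(invAt G d) := ⟨⟨x, hx2, hxd⟩, ⟨y, hy2, hyd⟩, fun h => hxy (congrArg Subtype.val h)⟩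
  have h1 : 1 < Nat.card ↥(invAt G c) := by rw [U.card_invAt c d]; exact Finite.one_lt_card
  haveI := U.nontrivial
  obtain ⟨a, hac⟩ := exists_ne c
  obtain ⟨t, ht⟩ := U.invol_at c
  have hodd : Odd (Nat.card ↥(invAt G c)) :=
    (U.odd_pair hac.symm).of_dvd_nat (Dvd.intro_left _ (U.card_centralizer_invAt hac.symm (s := t) ht))
  obtain ⟨p, hp, hpd⟩ := Nat.exists_prime_and_dvd h1.ne'
  exact ⟨p, hp, fun e => Nat.not_even_iff_odd.2 hodd (even_iff_two_dvd.2 (e ▸ hpd)), hpd⟩

/-- In the improper case the action is 2-transitive. -/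
theorem improper_two_trans (hr : TwoRank (⊤ : Subgroup G)) (hB : SplitBelow G Ω) (hI : Improper G Ω) :
    ∀ c a c' a' : Ω, c ≠ a → c' ≠ a' → ∃ g : G, g • c = c' ∧ g • a = a' := by
  haveI := U.nontrivial
  obtain ⟨c₀, -, -⟩ := exists_pair_ne Ω
  obtain ⟨p, hp, hp2, hdvd⟩ := exists_odd_prime_dvd U hr c₀
  haveI : Fact p.Prime := ⟨hp⟩
  exact (core U hp hp2 (improper_goodness U hr hB hI hp2 hdvd)).two_trans

/-- In the improper case an element inverted by a swapper of a pair fixes only the pair. -/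
theorem improper_realFree (hr : TwoRank (⊤ : Subgroup G)) (hB : SplitBelow G Ω) (hI : Improper G Ω) :
    RealFree G Ω := by
  intro c a hca v hv j hj hinv hj1
  refine ⟨fun x hjx => ?_, fun t ht hc => improper_not_commute U hr hB hI hca hv hj hinv hj1 ht.1 hc.symm⟩
  by_contra hcon
  push Not at hcon
  obtain ⟨e, hve⟩ := U.exists_fix v hv.1
  have hce : c ≠ e := fun h => hca (by rw [← hv.2, h, hve])
  have hodd := U.odd_pair hca
  obtain ⟨q, hq, hqd⟩ := Nat.exists_prime_and_dvd (fun h => hj1 (orderOf_eq_one_iff.1 h))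
  haveI : Fact q.Prime := ⟨hq⟩
  have hq2 : q ≠ 2 := fun e => Nat.not_even_iff_odd.2
    (hodd.of_dvd_nat (Subgroup.orderOf_dvd_natCard _ hj)) (even_iff_two_dvd.2 (e ▸ hqd))
  obtain ⟨k, hk⟩ := hqd
  have hk0 : k ≠ 0 := fun e => by
    have h0 := orderOf_pos j
    rw [e, mul_zero] at hk; omega
  have hord : orderOf (j ^ k) = q := by
    rw [orderOf_pow_of_dvd hk0 ⟨q, by rw [hk, mul_comm]⟩, hk, Nat.mul_div_cancel _ (Nat.pos_of_ne_zero hk0)]
  have hjk : j ^ k ≠ 1 := fun e => hq.ne_one (by rw [← hord, e, orderOf_one])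
  have hjkD : j ^ k ∈ pairStab G c a := pow_mem hj k
  have hjkinv : v * j ^ k * v⁻¹ = (j ^ k)⁻¹ := by rw [← conj_pow, hinv, inv_pow]
  have hvn : v ∈ normalizer ((Subgroup.zpowers (j ^ k) : Subgroup G) : Set G) := mem_normalizer_fintype fun y hy => by
    obtain ⟨l, rfl⟩ := mem_zpowers_iff.1 hy
    rw [← conj_zpow, hjkinv]
    exact zpow_mem (Subgroup.inv_mem _ (mem_zpowers _)) l
  have hvD : v ∈ normalizer (pairStab G c (v • c) : Set G) := pair_normalizes U ⟨hv.1, hve⟩ c
  have hle : Subgroup.zpowers (j ^ k) ≤ pairStab G c (v • c) := by rw [hv.2]; exact zpowers_le.2 hjkD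
  have hpq : IsPGroup q (Subgroup.zpowers (j ^ k)) :=
    IsPGroup.of_card (n := 1) (by rw [Nat.card_zpowers, hord, pow_one])
  obtain ⟨P, hP, hvP, hjP⟩ := Grp.exists_invariant_sylow_ge (Subgroup.zpowers v) (pairStab G c (v • c))
    (zpowers_le_normalizer hvD) (coprime_two_odd hv.1 (by rw [hv.2]; exact hodd)) (Or.inl inferInstance) (p := q)
    hle hpq (zpowers_le_normalizer hvn)
  have hcard := card_inverted_sylow U ⟨hv.1, hve⟩ hce hP (hvP (mem_zpowers v))
  rw [U.card_invAt e c] at hcard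
  have hdvd : q ∣ Nat.card ↥(invAt G c) := by
    refine Nat.dvd_of_factorization_pos fun h0 => ?_
    rw [h0, pow_zero, Nat.card_eq_one_iff_unique] at hcard
    obtain ⟨hss, -⟩ := hcard
    have := @Subsingleton.elim _ hss ⟨j ^ k, hjP (mem_zpowers _), hjkinv⟩ ⟨1, P.one_mem, by simp⟩
    exact hjk (congrArg Subtype.val this)
  refine hcon.2 ((core U hq hq2 (improper_goodness U hr hB hI hq2 hdvd)).fix_two c _ hpq
    (zpowers_le.2 (mem_stabilizer_iff.2 (mem_pair.1 hjkD).1))
    ⟨_, mem_zpowers _, fun z hz => improper_not_commute U hr hB hI hca hv hjkD hjkinv hjk hz⟩ x a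
    (zpowers_le.2 (pow_mem (mem_stabilizer_iff.2 hjx) k)) (zpowers_le.2 (mem_stabilizer_iff.2 (mem_pair.1 hjkD).2))
    hcon.1 hca.symm)

end Cfsg.Agent.Invol.Bender
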