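import Cfsg.Agent.Lib.Invol.Bender.Spec

/-!
# Subgroups centralising no involution at a point

If any two involutions at a point commute, then centralising no involution at a point is a goodness predicate on
`p`-subgroups for each odd prime `p` dividing the number of involutions at a point.
-/

set_option autoImplicit false
set_option linter.unusedSectionVars false

namespace Cfsg.Agent.Invol.Bender

open MulAction Subgroup

universe u v

variable {G : Type u} [Group G] [Finite G] {Ω : Type v} [MulAction G Ω]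

theorem goodness_vector (U : Hyp G Ω) (hW : InvComm G Ω) {p : ℕ} [hp : Fact p.Prime] (hp2 : p ≠ 2) {c₀ : Ω}
    (hdvd : p ∣ Nat.card (invAt G c₀)) :
    Goodness G Ω p (fun h W => ∀ t ∈ invAt G h, ¬ W ≤ centralizer {t}) where
  mono h W W' hle _ _ hg t ht hle' := hg t ht (hle.trans hle')
  conj g h W _ hg t ht hle := by
    refine hg (g⁻¹ * t * g) ⟨by
      have := orderOf_conj_eq g⁻¹ t
      rw [inv_inv] at this
      exact this.trans ht.1, by rw [mul_smul, mul_smul, ht.2, inv_smul_smul]⟩ fun w hw => ?_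
    have h1 := mem_centralizer_singleton_iff.1 (hle ⟨w, hw, rfl⟩)
    simp only [MulEquiv.coe_toMonoidHom, MulAut.conj_apply] at h1
    rw [mem_centralizer_singleton_iff]
    calc w * (g⁻¹ * t * g) = g⁻¹ * (g * w * g⁻¹ * t) * g := by group
      _ = g⁻¹ * (t * (g * w * g⁻¹)) * g := by rw [h1]
      _ = _ := by group
  cent f x W i hWp hWf _ _ hi hiW hg := by
    refine hg i hi fun w hw => ?_
    have hs : w * i * w⁻¹ ∈ invAt G f := ⟨(orderOf_conj_eq w i).trans hi.1, by
      conv_lhs => rw [← mem_stabilizer_iff.1 (hWf hw)]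
      rw [conj_smul_smul, hi.2, mem_stabilizer_iff.1 (hWf hw)]⟩
    have hmem : w * i * w⁻¹ * i ∈ W := by
      have h1 : i * w⁻¹ * i⁻¹ ∈ W := (Subgroup.mem_normalizer_iff.1 hiW _).1 (W.inv_mem hw)
      rw [inv_of_orderOf_two hi.1] at h1
      simpa [mul_assoc] using W.mul_mem hw h1
    have hsq : w * i * w⁻¹ * i * (w * i * w⁻¹ * i) = 1 := by
      calc w * i * w⁻¹ * i * (w * i * w⁻¹ * i) = (w * i * w⁻¹) * (i * (w * i * w⁻¹)) * i := by group
        _ = (w * i * w⁻¹) * ((w * i * w⁻¹) * i) * i := by rw [(hW f _ hi _ hs).eq]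
        _ = (w * (i * i) * w⁻¹) * (i * i) := by group
        _ = 1 := by rw [mul_self_of_orderOf_two hi.1]; group
    have h2 : w * i * w⁻¹ * i = 1 := by
      obtain ⟨n, hn⟩ := IsPGroup.iff_card.1 hWp
      obtain ⟨k, hk⟩ : Odd (orderOf (w * i * w⁻¹ * i)) :=
        ((hp.out.odd_of_ne_two hp2).pow (n := n)).of_dvd_nat (hn ▸ Subgroup.orderOf_dvd_natCard _ hmem)
      have h3 := pow_orderOf_eq_one (w * i * w⁻¹ * i)
      rwa [hk, pow_succ, pow_mul, pow_two, hsq, one_pow, one_mul] at h3
    rw [mem_centralizer_singleton_iff]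
    have h4 : w * i * w⁻¹ = i := by
      rw [← inv_of_orderOf_two hi.1]
      exact eq_inv_of_mul_eq_one_left (by rw [inv_of_orderOf_two hi.1]; exact h2)
    exact mul_inv_eq_iff_eq_mul.1 h4
  full h k hhk W hWs t ht hle := by
    obtain ⟨E, hE⟩ : ∃ E, E = pairStab G h k ⊓ centralizer ({t} : Set G) := ⟨_, rfl⟩
    have hWE : W ≤ E := hE ▸ le_inf hWs.1 hle
    have hcard := U.card_centralizer_invAt hhk ht
    rw [← hE, U.card_invAt h c₀] at hcard
    have h1 := Subgroup.card_mul_index (W.subgroupOf (pairStab G h k))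
    rw [Nat.card_congr (subgroupOfEquivOfLe hWs.1).toEquiv, ← hcard] at h1
    obtain ⟨e, he⟩ := Subgroup.card_dvd_of_le hWE
    rw [he, mul_assoc] at h1
    exact hWs.2.2 (Dvd.dvd.trans (dvd_mul_of_dvd_right hdvd e)
      (Nat.eq_of_mul_eq_mul_left Nat.card_pos h1).symm.dvd)

end Cfsg.Agent.Invol.Bender
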