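import Cfsg.Agent.Lib.Invol.Bender.Core
import Cfsg.Agent.Lib.Invol.Bender.Conj
import Cfsg.Agent.Lib.Invol.Bender.RankOneBridge
import Cfsg.Agent.Lib.Invol.Bender.Vector

/-!
# The case of a proper pair

If the involutions at some pair of points generate a proper subgroup, then modulo the derived group of the group they
generate at one point there is a number of involutions at that point prime to two; the core lemma then makes the
action doubly transitive, so that every pair is proper, the involutions at a point commute and the real elements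
fix only their pair.
-/

set_option autoImplicit false
set_option linter.unusedSectionVars false

namespace Cfsg.Agent.Invol.Bender

open MulAction Subgroup
open scoped commutatorElement

universe u v

variable {G : Type u} [Group G] [Finite G] {Ω : Type v} [MulAction G Ω]

/-- The group generated by the involutions at a point. -/
def genAt (G : Type u) [Group G] {Ω : Type v} [MulAction G Ω] (h : Ω) : Subgroup G :=
  Subgroup.closure (invAt G h)

theorem mem_genAt {h : Ω} {t : G} (ht : t ∈ invAt G h) : t ∈ genAt G h := Subgroup.subset_closure ht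

theorem genAt_le_stabilizer (h : Ω) : genAt G h ≤ stabilizer G h :=
  (Subgroup.closure_le _).2 fun _ ht => ht.2

theorem conj_invAt_mem {g t : G} {h : Ω} (ht : t ∈ invAt G h) : g * t * g⁻¹ ∈ invAt G (g • h) :=
  ⟨(orderOf_conj_eq g t).trans ht.1, by rw [conj_smul_smul, ht.2]⟩

theorem conj_genAt_mem {g x : G} {h : Ω} (hx : x ∈ genAt G h) : g * x * g⁻¹ ∈ genAt G (g • h) := by
  have : genAt G h ≤ (genAt G (g • h)).comap (MulAut.conj g).toMonoidHom :=
    (Subgroup.closure_le _).2 fun t ht => mem_genAt (conj_invAt_mem ht)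
  exact this hx

/-- Conjugation between the groups generated by the involutions at two points. -/
def invConj (g : G) (h : Ω) : genAt G h ≃* genAt G (g • h) where
  toFun x := ⟨g * x * g⁻¹, conj_genAt_mem x.2⟩
  invFun y := ⟨g⁻¹ * y * g, by
    have := conj_genAt_mem (g := g⁻¹) y.2
    rwa [inv_smul_smul, inv_inv] at this⟩
  left_inv x := Subtype.ext (by simp [mul_assoc])
  right_inv y := Subtype.ext (by simp [mul_assoc])
  map_mul' x y := Subtype.ext (by simp [mul_assoc])

/-- The conjugation action of a point stabiliser on the group generated by the involutions at the point. -/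
def invAut (h : Ω) : stabilizer G h →* MulAut (genAt G h) where
  toFun g :=
    { toFun := fun x => ⟨(g : G) * x * (g : G)⁻¹, by
        have := conj_genAt_mem (g := (g : G)) x.2
        rwa [mem_stabilizer_iff.1 g.2] at this⟩
      invFun := fun x => ⟨(g : G)⁻¹ * x * (g : G), by
        have := conj_genAt_mem (g := (g : G)⁻¹) x.2
        rwa [mem_stabilizer_iff.1 (inv_mem g.2), inv_inv] at this⟩
      left_inv := fun x => Subtype.ext (by simp [mul_assoc])
      right_inv := fun x => Subtype.ext (by simp [mul_assoc])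
      map_mul' := fun x y => Subtype.ext (by simp [mul_assoc]) }
  map_one' := MulEquiv.ext fun x => Subtype.ext (by simp)
  map_mul' g g' := MulEquiv.ext fun x => Subtype.ext (by simp [mul_assoc])

theorem abel_surjective {H : Type*} [Group H] : Function.Surjective (Abelianization.of (G := H)) :=
  QuotientGroup.mk_surjective

theorem abel_of_genAt {h : Ω} (a : Abelianization (genAt G h)) : a * a = 1 := by
  obtain ⟨⟨x, hx⟩, rfl⟩ := abel_surjective a
  induction hx using Subgroup.closure_induction with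
  | mem t ht =>
    rw [← map_mul, show (⟨t, mem_genAt ht⟩ : genAt G h) * ⟨t, mem_genAt ht⟩ = 1 from
      Subtype.ext (mul_self_of_orderOf_two ht.1), map_one]
  | one =>
    rw [show (⟨1, _⟩ : genAt G h) = 1 from rfl, map_one, one_mul]
  | mul x y hx hy ihx ihy =>
    have e : Abelianization.of (⟨x * y, mul_mem hx hy⟩ : genAt G h) =
        Abelianization.of ⟨x, hx⟩ * Abelianization.of ⟨y, hy⟩ := map_mul _ (⟨x, hx⟩ : genAt G h) ⟨y, hy⟩
    rw [e, mul_mul_mul_comm, ihx, ihy, one_mul]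
  | inv x hx ih =>
    have e : Abelianization.of (⟨x⁻¹, inv_mem hx⟩ : genAt G h) = (Abelianization.of ⟨x, hx⟩)⁻¹ :=
      map_inv _ (⟨x, hx⟩ : genAt G h)
    rw [e, ← mul_inv, ih, inv_one]

/-- Every non-trivial class is the class of an involution at the point. -/
theorem exists_invol_class {h : Ω} (hodd : Odd (Nat.card (commutator (genAt G h))))
    {a : Abelianization (genAt G h)} (ha : a ≠ 1) :
    ∃ t : genAt G h, (t : G) ∈ invAt G h ∧ Abelianization.of t = a := by
  obtain ⟨x, rfl⟩ := abel_surjective a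
  have hsq : x * x ∈ commutator (genAt G h) := by
    rw [← Abelianization.ker_of, MonoidHom.mem_ker, map_mul]
    exact abel_of_genAt _
  obtain ⟨r, hr⟩ := hodd.of_dvd_nat (Subgroup.orderOf_dvd_natCard _ hsq)
  have himg : Abelianization.of (x ^ (2 * r + 1)) = Abelianization.of x := by
    rw [pow_succ, pow_mul, map_mul, map_pow, pow_two, map_mul, abel_of_genAt, one_pow, one_mul]
  have h2 : x ^ (2 * r + 1) * x ^ (2 * r + 1) = 1 := by
    have := pow_orderOf_eq_one (x * x)
    rwa [hr, (Commute.refl x).mul_pow] at this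
  have hne : (x ^ (2 * r + 1) : genAt G h) ≠ 1 := fun e => ha (by rw [← himg, e, map_one])
  exact ⟨x ^ (2 * r + 1), ⟨orderOf_two_iff.2 ⟨congrArg Subtype.val h2, fun e => hne (Subtype.ext e)⟩,
    mem_stabilizer_iff.1 (genAt_le_stabilizer h (x ^ (2 * r + 1)).2)⟩, himg⟩

theorem abel_invol_ne_one {h : Ω} (hodd : Odd (Nat.card (commutator (genAt G h)))) {t : genAt G h}
    (ht : orderOf (t : G) = 2) : Abelianization.of t ≠ 1 := by
  intro e
  have h1 : t ∈ commutator (genAt G h) := by rw [← Abelianization.ker_of]; exact e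
  have h2 := hodd.of_dvd_nat (Subgroup.orderOf_dvd_natCard _ h1)
  rw [← Subgroup.orderOf_coe, ht] at h2
  exact absurd h2 (by decide)

/-- The number of classes of involutions at a point modulo the derived group of the group they generate. -/
noncomputable def classNum (G : Type u) [Group G] {Ω : Type v} [MulAction G Ω] (h : Ω) : ℕ :=
  Nat.card {a : Abelianization (genAt G h) // a ≠ 1}

theorem classNum_smul (g : G) (h : Ω) : classNum G (g • h) = classNum G h :=
  (Nat.card_congr (((invConj g h).abelianizationCongr).toEquiv.subtypeEquiv fun _ =>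
    (MulEquiv.map_ne_one_iff _).symm)).symm

theorem card_commutator_smul (g : G) (h : Ω) :
    Nat.card (commutator (genAt G (g • h))) = Nat.card (commutator (genAt G h)) := by
  have e : (commutator (genAt G h)).map (invConj g h).toMonoidHom = commutator (genAt G (g • h)) := by
    rw [_root_.commutator_def, _root_.commutator_def, Subgroup.map_commutator,
      Subgroup.map_top_of_surjective _ (invConj g h).surjective]
  rw [← e]
  exact Subgroup.card_map_of_injective (invConj g h).injective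

/-- `Good`: the subgroup fixes no class of involutions at the point. -/
def NoClass (h : Ω) (W : Subgroup G) : Prop :=
  ∀ t ∈ invAt G h, ∃ w ∈ W, w * t * w⁻¹ * t ∉ (commutator (genAt G h)).map (genAt G h).subtype

theorem goodness_noClass (U : Hyp G Ω) (hodd : ∀ h : Ω, Odd (Nat.card (commutator (genAt G h)))) {p : ℕ}
    [hp : Fact p.Prime] (hp2 : p ≠ 2) {c₀ : Ω} (hdvd : p ∣ classNum G c₀) :
    Goodness G Ω p (NoClass (G := G) (Ω := Ω)) where
  mono h W W' hle _ _ hg t ht := (hg t ht).imp fun w hw => ⟨hle hw.1, hw.2⟩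
  conj g h W _ hg t ht := by
    have ht' : g⁻¹ * t * g ∈ invAt G h := by
      have := conj_invAt_mem (g := g⁻¹) ht
      rwa [inv_smul_smul, inv_inv] at this
    obtain ⟨w, hw, hwt⟩ := hg _ ht'
    refine ⟨g * w * g⁻¹, ⟨w, hw, rfl⟩, fun hmem => hwt ?_⟩
    obtain ⟨y, hy, hye⟩ := hmem
    refine ⟨(invConj g h).symm y, ?_, ?_⟩
    · have e : (commutator (genAt G (g • h))).map (invConj g h).symm.toMonoidHom = commutator (genAt G h) := by
        rw [_root_.commutator_def, _root_.commutator_def, Subgroup.map_commutator,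
          Subgroup.map_top_of_surjective _ (invConj g h).symm.surjective]
      exact e ▸ ⟨y, hy, rfl⟩
    · show g⁻¹ * (y : G) * g = _
      rw [show (y : G) = _ from hye]
      group
  cent f x W i hWp hWf _ _ hi hiW hg := by
    obtain ⟨w, hw, hnot⟩ := hg i hi
    refine hnot ?_
    have hs : w * i * w⁻¹ ∈ invAt G f := by
      have := conj_invAt_mem (g := w) hi
      rwa [mem_stabilizer_iff.1 (hWf hw)] at this
    have hmem : w * i * w⁻¹ * i ∈ W := by
      have h1 : i * w⁻¹ * i⁻¹ ∈ W := (Subgroup.mem_normalizer_iff.1 hiW _).1 (W.inv_mem hw)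
      rw [inv_of_orderOf_two hi.1] at h1
      simpa [mul_assoc] using W.mul_mem hw h1
    obtain ⟨y, hy⟩ : ∃ y : genAt G f, (y : G) = w * i * w⁻¹ * i :=
      ⟨⟨_, mul_mem (mem_genAt hs) (mem_genAt hi)⟩, rfl⟩
    refine ⟨y, ?_, hy⟩
    rw [← hy] at hmem
    obtain ⟨n, hn⟩ := IsPGroup.iff_card.1 hWp
    obtain ⟨k, hk⟩ : Odd (orderOf y) := by
      rw [← Subgroup.orderOf_coe]
      exact ((hp.out.odd_of_ne_two hp2).pow (n := n)).of_dvd_nat (hn ▸ Subgroup.orderOf_dvd_natCard _ hmem)
    show y ∈ commutator (genAt G f)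
    rw [← Abelianization.ker_of, MonoidHom.mem_ker]
    have h3 := congrArg Abelianization.of (pow_orderOf_eq_one y)
    rw [hk, pow_succ, pow_mul, map_mul, map_pow, pow_two, map_mul, abel_of_genAt, one_pow, one_mul,
      map_one] at h3
    exact h3
  full h k hhk W hW t ht := by
    by_contra hcon
    push Not at hcon
    obtain ⟨D, hD⟩ : ∃ D : Subgroup (stabilizer G h), D = (pairStab G h k).subgroupOf (stabilizer G h) := ⟨_, rfl⟩
    let φ : D →* MulAut (Abelianization (genAt G h)) :=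
      (MonoidHom.mk' (fun f : MulAut (genAt G h) => f.abelianizationCongr) fun f f' => by
        refine MulEquiv.ext fun a => ?_
        obtain ⟨x, rfl⟩ := abel_surjective a
        rfl).comp ((invAut h).comp D.subtype)
    letI : MulAction D (Abelianization (genAt G h)) := MulAction.compHom _ φ
    obtain ⟨a, ha⟩ : ∃ a, a = Abelianization.of (⟨t, mem_genAt ht⟩ : genAt G h) := ⟨_, rfl⟩
    have hact : ∀ (d : D) (x : genAt G h), d • Abelianization.of x = Abelianization.of (invAut h d x) :=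
      fun _ _ => rfl
    have hne : ∀ {s : genAt G h}, (s : G) ∈ invAt G h → Abelianization.of s ≠ 1 :=
      fun hs => abel_invol_ne_one (hodd h) hs.1
    have horb : MulAction.orbit D a = {b | b ≠ 1} := by
      ext b
      constructor
      · rintro ⟨d, rfl⟩
        show d • a ≠ 1
        rw [ha, hact]
        refine hne ?_
        have hd : (d : stabilizer G h) ∈ (pairStab G h k).subgroupOf (stabilizer G h) := hD.le d.2
        exact U.invAt_conj (Subgroup.mem_subgroupOf.1 hd) ht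
      · intro hb
        obtain ⟨s, hs, rfl⟩ := exists_invol_class (hodd h) hb
        obtain ⟨g, hg, hgs⟩ := U.exists_conj_invAt hhk ht hs
        refine ⟨⟨⟨g, mem_stabilizer_iff.2 (mem_pair.1 hg).1⟩, hD.ge (Subgroup.mem_subgroupOf.2 hg)⟩, ?_⟩
        rw [ha]
        exact (hact _ _).trans (congrArg _ (Subtype.ext hgs))
    have hindex : (MulAction.stabilizer D a).index = classNum G h := by
      rw [MulAction.index_stabilizer, horb, ← Nat.card_coe_set_eq]
      rfl
    obtain ⟨g, hg⟩ := U.exists_smul_eq c₀ h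
    have hkk : classNum G h = classNum G c₀ := hg ▸ classNum_smul g c₀
    rw [hkk] at hindex
    -- the subgroup lies in the stabiliser of the class
    obtain ⟨W', hW'⟩ : ∃ W' : Subgroup D, W' = (W.subgroupOf (stabilizer G h)).subgroupOf D := ⟨_, rfl⟩
    have hWh : W ≤ stabilizer G h := hW.1.trans inf_le_left
    have hWa : W' ≤ MulAction.stabilizer D a := by
      intro d hd
      rw [hW', Subgroup.mem_subgroupOf, Subgroup.mem_subgroupOf] at hd
      obtain ⟨y, hy, hye⟩ := hcon _ hd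
      rw [MulAction.mem_stabilizer_iff, ha, hact]
      have h1 : invAut h d ⟨t, mem_genAt ht⟩ * ⟨t, mem_genAt ht⟩ ∈ commutator (genAt G h) := by
        have e : y = invAut h d ⟨t, mem_genAt ht⟩ * ⟨t, mem_genAt ht⟩ := Subtype.ext hye
        exact e ▸ hy
      rw [← Abelianization.ker_of, MonoidHom.mem_ker, map_mul] at h1
      exact (eq_inv_of_mul_eq_one_left h1).trans (inv_eq_of_mul_eq_one_right (abel_of_genAt _))
    have hrel : W'.index = W.relIndex (pairStab G h k) := by
      rw [hW', hD]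
      exact Subgroup.relIndex_subgroupOf inf_le_left
    refine hW.2.2 ?_
    rw [← hrel]
    exact hdvd.trans (hindex ▸ Subgroup.index_dvd_of_le hWa)

section Proper

variable (U : Hyp G Ω) (hr : TwoRank (⊤ : Subgroup G))
include U hr

/-- There are two commuting involutions at each point. -/
theorem exists_two_at (h : Ω) : ∃ x ∈ invAt G h, ∃ y ∈ invAt G h, x ≠ y ∧ Commute x y := by
  obtain ⟨x, -, y, -, hx, hy, hne, hc⟩ := hr
  obtain ⟨z, hz⟩ := U.exists_fix x hx
  have hyz : y • z = z := U.fix_of_commute hx hz hc.symm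
  obtain ⟨g, rfl⟩ := U.exists_smul_eq z h
  refine ⟨g * x * g⁻¹, conj_invAt_mem ⟨hx, hz⟩, g * y * g⁻¹, conj_invAt_mem ⟨hy, hyz⟩,
    fun e => hne (mul_left_cancel (mul_right_cancel e)), hc.map (MulAut.conj g).toMonoidHom⟩

omit U in
/-- The involutions at both points lie in the group they generate, so the points are its centres. -/
theorem invAt_subset_pairGen (c a : Ω) : invAt G c ⊆ (pairGen G c a : Set G) ∧ invAt G a ⊆ (pairGen G c a : Set G) :=
  ⟨fun _ ht => Subgroup.subset_closure (Or.inl ht), fun _ ht => Subgroup.subset_closure (Or.inr ht)⟩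

theorem cen_pairGen {c a : Ω} (hca : c ≠ a) : c ∈ cen Ω (pairGen G c a) ∧ a ∈ cen Ω (pairGen G c a) ∧
    (cen Ω (pairGen G c a)).Nontrivial ∧ TwoRank (pairGen G c a) := by
  obtain ⟨x, hx, y, hy, hne, hc⟩ := exists_two_at U hr c
  obtain ⟨z, hz, hz'⟩ := U.invol_at a
  have hsub := invAt_subset_pairGen hr (G := G) c a
  have h1 : c ∈ cen Ω (pairGen G c a) := ⟨x, hsub.1 hx, hx.1, hx.2⟩
  have h2 : a ∈ cen Ω (pairGen G c a) := ⟨z, hsub.2 ⟨hz, hz'⟩, hz, hz'⟩
  exact ⟨h1, h2, ⟨c, h1, a, h2, hca⟩, ⟨x, hsub.1 hx, y, hsub.1 hy, hx.1, hy.1, hne, hc⟩⟩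

variable (hB : SplitBelow G Ω)
include hB

/-- At a proper pair the derived group of the group generated by the involutions at a point fixes both points. -/
theorem commutator_genAt_le {c a : Ω} (hca : c ≠ a) (hP : pairGen G c a ≠ ⊤) :
    (commutator (genAt G c)).map (genAt G c).subtype ≤ ker Ω (pairGen G c a) := by
  obtain ⟨L, hL⟩ : ∃ L, L = pairGen G c a := ⟨_, rfl⟩
  obtain ⟨hc, ha, hnt, h2⟩ := cen_pairGen U hr hca
  rw [← hL] at hc ha hnt h2 hP ⊢
  obtain ⟨Q, hQ⟩ := hB L hP hnt h2 c hc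
  have hcL : invAt G c ⊆ (L : Set G) := hL ▸ (invAt_subset_pairGen hr c a).1
  have hQn : ∀ g ∈ Q, g ∈ L ∧ g ∈ stabilizer G c := fun g hg => Subgroup.mem_inf.1 (hQ.le hg)
  haveI hKn : ((ker Ω L).subgroupOf Q).Normal := ⟨fun k hk g => by
    rw [Subgroup.mem_subgroupOf] at hk ⊢
    exact ker_conj_mem (hQn g g.2).1 hk⟩
  let π := QuotientGroup.mk' ((ker Ω L).subgroupOf Q)
  have hπ : ∀ {x : Q}, π x = 1 ↔ (x : G) ∈ ker Ω L := fun {x} =>
    (QuotientGroup.eq_one_iff x).trans Subgroup.mem_subgroupOf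
  have hoddK := U.odd_ker hnt
  haveI : Fact (Nat.Prime 2) := ⟨Nat.prime_two⟩
  have h2g : IsPGroup 2 (Q ⧸ (ker Ω L).subgroupOf Q) := by
    obtain ⟨k, hk⟩ := hQ.two_index
    refine IsPGroup.of_card (n := k) ?_
    have h7 := Subgroup.card_eq_card_quotient_mul_card_subgroup ((ker Ω L).subgroupOf Q)
    rw [Nat.card_congr (subgroupOfEquivOfLe hQ.ker_le).toEquiv, hk, mul_comm] at h7
    exact (Nat.mul_right_cancel Nat.card_pos h7).symm
  have hinvQ : ∀ s ∈ invAt G c, s ∈ Q := fun s hs => U.inv_mem hnt hQ (hcL hs) hs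
  obtain ⟨x₀, hx₀, -⟩ := exists_two_at U hr c
  haveI : Nontrivial (Q ⧸ (ker Ω L).subgroupOf Q) := ⟨⟨π ⟨x₀, hinvQ x₀ hx₀⟩, 1, fun e => by
    have h1 := hoddK.of_dvd_nat (Subgroup.orderOf_dvd_natCard _ (hπ.1 e))
    rw [show orderOf x₀ = 2 from hx₀.1] at h1
    exact absurd h1 (by decide)⟩⟩
  -- an involution at the point central modulo the kernel
  obtain ⟨z, hz, hzc⟩ : ∃ z ∈ invAt G c, ∀ q ∈ Q, z * q * z⁻¹ * q⁻¹ ∈ ker Ω L := by
    haveI := h2g.center_nontrivial
    obtain ⟨e, he⟩ := exists_prime_orderOf_dvd_card' (G := Subgroup.center (Q ⧸ (ker Ω L).subgroupOf Q)) 2 (by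
      obtain ⟨k, hk, hk'⟩ := (h2g.to_subgroup (Subgroup.center _)).nontrivial_iff_card.1 inferInstance
      rw [hk']
      exact dvd_pow_self 2 hk.ne')
    obtain ⟨x, hx⟩ := QuotientGroup.mk'_surjective ((ker Ω L).subgroupOf Q) (e : Q ⧸ (ker Ω L).subgroupOf Q)
    rw [← Subgroup.orderOf_coe] at he
    rw [← hx] at he
    have hxx : ((x * x : Q) : G) ∈ ker Ω L := hπ.1 (by rw [map_mul]; exact mul_self_of_orderOf_two he)
    obtain ⟨r, hr⟩ := hoddK.of_dvd_nat (Subgroup.orderOf_dvd_natCard _ hxx)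
    rw [Subgroup.coe_mul] at hr
    have hz2 : ((x : G) ^ (2 * r + 1)) * ((x : G) ^ (2 * r + 1)) = 1 := by
      have := pow_orderOf_eq_one ((x : G) * x)
      rwa [hr, (Commute.refl (x : G)).mul_pow] at this
    have himg : π (x ^ (2 * r + 1)) = π x := by
      rw [pow_succ, pow_mul, map_mul, map_pow, pow_two, map_mul, mul_self_of_orderOf_two he, one_pow, one_mul]
    refine ⟨(x : G) ^ (2 * r + 1), ⟨orderOf_two_iff.2 ⟨hz2, fun e' => ?_⟩,
      mem_stabilizer_iff.1 (pow_mem (hQn x x.2).2 _)⟩, fun q hq => ?_⟩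
    · rw [← himg, show x ^ (2 * r + 1) = 1 from Subtype.ext (by simpa using e'), map_one, orderOf_one] at he
      exact absurd he (by norm_num)
    · have h1 : π (x ^ (2 * r + 1) * ⟨q, hq⟩ * (x ^ (2 * r + 1))⁻¹ * (⟨q, hq⟩ : Q)⁻¹) = 1 := by
        rw [map_mul, map_mul, map_mul, map_inv, map_inv, himg, hx]
        rw [← Subgroup.mem_center_iff.1 e.2 (π ⟨q, hq⟩)]
        group
      simpa using hπ.1 h1
  -- the involutions at the point are conjugate in `L`
  have hcen : ∀ s ∈ invAt G c, ∀ q ∈ Q, s * q * s⁻¹ * q⁻¹ ∈ ker Ω L := by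
    intro s hs q hq
    have hne : (⟨c, hc⟩ : cenAct Ω L) ≠ ⟨a, ha⟩ := fun e => hca (congrArg Subtype.val e)
    obtain ⟨g, hg, hgs⟩ := (U.hyp_cen hnt).exists_conj_invAt hne
      (s := (⟨z, hcL hz⟩ : L)) (t := ⟨s, hcL hs⟩)
      ⟨(Subgroup.orderOf_coe _).symm.trans hz.1, Subtype.ext hz.2⟩
      ⟨(Subgroup.orderOf_coe _).symm.trans hs.1, Subtype.ext hs.2⟩
    have hgs' : (g : G) * z * (g : G)⁻¹ = s := congrArg Subtype.val hgs
    have hgc : (g : G) • c = c := congrArg Subtype.val (mem_pair.1 hg).1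
    have hq' : (g : G)⁻¹ * q * (g : G) ∈ Q := by
      have h9 := hQ.conj_mem (g : G)⁻¹
        (Subgroup.mem_inf.2 ⟨inv_mem g.2, inv_mem (mem_stabilizer_iff.2 hgc : (g : G) ∈ stabilizer G c)⟩) q hq
      rwa [inv_inv] at h9
    have h1 := ker_conj_mem (Ω := Ω) g.2 (hzc _ hq')
    convert h1 using 1
    rw [← hgs']
    group
  -- so the derived group lies in the kernel
  obtain ⟨Z, hZ⟩ : ∃ Z : Subgroup G,
      Z = ((Subgroup.center (Q ⧸ (ker Ω L).subgroupOf Q)).comap π).map Q.subtype := ⟨_, rfl⟩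
  have hJZ : genAt G c ≤ Z := (Subgroup.closure_le _).2 fun s hs => by
    rw [hZ]
    refine ⟨⟨s, hinvQ s hs⟩, Subgroup.mem_center_iff.2 fun b => ?_, rfl⟩
    obtain ⟨q, rfl⟩ := QuotientGroup.mk'_surjective _ b
    have h1 : π (⟨s, hinvQ s hs⟩ * q * (⟨s, hinvQ s hs⟩ : Q)⁻¹ * q⁻¹) = 1 := hπ.2 (by simpa using hcen s hs q q.2)
    rw [map_mul, map_mul, map_mul, map_inv, map_inv, mul_inv_eq_one, mul_inv_eq_iff_eq_mul] at h1
    exact h1.symm
  rw [_root_.commutator_def, Subgroup.map_commutator, ← MonoidHom.range_eq_map, Subgroup.range_subtype]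
  refine Subgroup.commutator_le.2 fun x hx y hy => ?_
  have hx' := hJZ hx
  have hy' := hJZ hy
  rw [hZ] at hx' hy'
  obtain ⟨x, hx', rfl⟩ := hx'
  obtain ⟨y, -, rfl⟩ := hy'
  rw [← map_commutatorElement]
  refine (hπ (x := ⁅x, y⁆)).1 ?_
  rw [map_commutatorElement, commutatorElement_eq_one_iff_mul_comm]
  exact (Subgroup.mem_center_iff.1 hx' (π y)).symm

/-- Modulo the derived group there is an odd number, at least three, of involutions at a point. -/
theorem classNum_odd (c₁ : Ω) (hodd : Odd (Nat.card (commutator (genAt G c₁)))) :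
    Odd (classNum G c₁) ∧ 3 ≤ classNum G c₁ := by
  classical
  haveI : Fact (Nat.Prime 2) := ⟨Nat.prime_two⟩
  have h2 : IsPGroup 2 (Abelianization (genAt G c₁)) := fun a => ⟨1, by rw [pow_one, pow_two]; exact abel_of_genAt a⟩
  obtain ⟨n, hn⟩ := IsPGroup.iff_card.1 h2
  have hcard : classNum G c₁ + 1 = 2 ^ n := by
    rw [← hn, ← Nat.card_congr (Equiv.optionSubtypeNe (1 : Abelianization (genAt G c₁))), Finite.card_option]
    rfl
  obtain ⟨x, hx, y, hy, hne, hc⟩ := exists_two_at U hr c₁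
  have hxy : Abelianization.of (⟨x, mem_genAt hx⟩ : genAt G c₁) ≠ Abelianization.of ⟨y, mem_genAt hy⟩ := by
    intro e
    refine abel_invol_ne_one hodd (t := ⟨x, mem_genAt hx⟩ * ⟨y, mem_genAt hy⟩) ?_ ?_
    · show orderOf (x * y) = 2
      exact orderOf_two_iff.2 ⟨by
        calc x * y * (x * y) = x * (y * x) * y := by group
          _ = x * (x * y) * y := by rw [hc.eq]
          _ = (x * x) * (y * y) := by group
          _ = 1 := by rw [mul_self_of_orderOf_two hx.1, mul_self_of_orderOf_two hy.1, one_mul],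
        fun e' => hne (by rw [← inv_of_orderOf_two hy.1]; exact eq_inv_of_mul_eq_one_left e')⟩
    · rw [map_mul, e, abel_of_genAt]
  have h1 : 1 < classNum G c₁ := by
    haveI : Nontrivial {a : Abelianization (genAt G c₁) // a ≠ 1} :=
      ⟨⟨_, abel_invol_ne_one hodd hx.1⟩, ⟨_, abel_invol_ne_one hodd hy.1⟩, fun e => hxy (congrArg Subtype.val e)⟩
    exact Finite.one_lt_card
  obtain ⟨m, rfl⟩ := Nat.exists_eq_succ_of_ne_zero (n := n) (by rintro rfl; omega)
  rw [pow_succ] at hcard
  exact ⟨⟨2 ^ m - 1, by omega⟩, by omega⟩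

variable (hP : ¬ Improper G Ω)
include hP

theorem proper_core : ∀ c a c' a' : Ω, c ≠ a → c' ≠ a' → ∃ g : G, g • c = c' ∧ g • a = a' := by
  obtain ⟨c, a, hca, hca'⟩ : ∃ c a : Ω, c ≠ a ∧ pairGen G c a ≠ ⊤ := by
    simpa [Improper] using hP
  have hoddc : Odd (Nat.card (commutator (genAt G c))) := by
    rw [← Subgroup.card_map_of_injective (genAt G c).subtype_injective]
    exact (U.odd_ker (cen_pairGen U hr hca).2.2.1).of_dvd_nat
      (Subgroup.card_dvd_of_le (commutator_genAt_le U hr hB hca hca'))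
  have hodd : ∀ h : Ω, Odd (Nat.card (commutator (genAt G h))) := fun h => by
    obtain ⟨g, rfl⟩ := U.exists_smul_eq c h
    rwa [card_commutator_smul]
  obtain ⟨hk, hk3⟩ := classNum_odd U hr hB c hoddc
  obtain ⟨p, hp, hpk⟩ := Nat.exists_prime_and_dvd (n := classNum G c) (by omega)
  haveI : Fact p.Prime := ⟨hp⟩
  have hp2 : p ≠ 2 := by
    rintro rfl
    exact absurd (even_iff_two_dvd.2 hpk) (Nat.not_even_iff_odd.2 hk)
  exact (core U hp hp2 (goodness_noClass U hodd hp2 hpk)).two_trans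

/-- In the case of a proper pair every pair is proper. -/
theorem pairGen_ne_top {h k : Ω} (hhk : h ≠ k) : pairGen G h k ≠ ⊤ := by
  obtain ⟨c, a, hca, hca'⟩ : ∃ c a : Ω, c ≠ a ∧ pairGen G c a ≠ ⊤ := by
    simpa [Improper] using hP
  obtain ⟨g, hgh, hgk⟩ := proper_core U hr hB hP h k c a hhk hca
  refine fun e => hca' (eq_top_iff.2 ?_)
  have h1 : pairGen G h k ≤ (pairGen G c a).comap (MulAut.conj g).toMonoidHom :=
    (Subgroup.closure_le _).2 fun t ht => by
      rcases ht with ht | ht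
      · exact Subgroup.subset_closure (Or.inl (hgh ▸ conj_invAt_mem ht))
      · exact Subgroup.subset_closure (Or.inr (hgk ▸ conj_invAt_mem ht))
  intro y _
  have h2 := h1 (x := g⁻¹ * y * g) (by rw [e]; trivial)
  simpa [mul_assoc] using h2

variable [FaithfulSMul G Ω]

theorem proper_invComm : InvComm G Ω := by
  intro c s hs t ht
  have hY : (commutator (genAt G c)).map (genAt G c).subtype = ⊥ := by
    rw [eq_bot_iff]
    intro y hy
    refine Subgroup.mem_bot.2 (FaithfulSMul.eq_of_smul_eq_smul fun x : Ω => ?_)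
    rw [one_smul]
    rcases eq_or_ne x c with rfl | hx
    · obtain ⟨y, -, rfl⟩ := hy
      exact mem_stabilizer_iff.1 (genAt_le_stabilizer _ y.2)
    · exact (mem_ker.1 (commutator_genAt_le U hr hB hx.symm (pairGen_ne_top U hr hB hP hx.symm) hy)).2 x
        (cen_pairGen U hr hx.symm).2.1
  rw [_root_.commutator_def, Subgroup.map_commutator, ← MonoidHom.range_eq_map, Subgroup.range_subtype] at hY
  have h1 := hY ▸ Subgroup.commutator_mem_commutator (mem_genAt hs) (mem_genAt ht)
  exact commutatorElement_eq_one_iff_mul_comm.1 (Subgroup.mem_bot.1 h1)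

end Proper

/-- The split structure of a subgroup passes to the group induced on its centres. -/
theorem split_image_cen (U : Hyp G Ω) {M : Subgroup G} (hM : (cen Ω M).Nontrivial) (h : Split Ω M) :
    Split (cenAct Ω M) (⊤ : Subgroup (image M (cenAct Ω M))) := by
  have UM := U.hyp_cen hM
  rintro ⟨d, hd⟩ -
  obtain ⟨Q, hQ⟩ := h d hd
  have hQM : Q ≤ M := fun q hq => (Subgroup.mem_inf.1 (hQ.le hq)).1
  have hk : ∀ g : M, toImage M (cenAct Ω M) g = 1 ↔ (g : G) ∈ ker Ω M := fun g => by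
    rw [toImage_eq_one, mem_ker]
    exact ⟨fun h => ⟨g.2, fun x hx => congrArg Subtype.val (h ⟨x, hx⟩)⟩,
      fun h x => Subtype.ext (h.2 x.1 x.2)⟩
  have hker : ker (cenAct Ω M) (⊤ : Subgroup (image M (cenAct Ω M))) = ⊥ := by
    rw [eq_bot_iff]
    intro g hg
    obtain ⟨g, rfl⟩ := toImage_surjective g
    exact Subgroup.mem_bot.2 (toImage_eq_one.2 ((mem_ker_top UM.image).1 hg))
  refine ⟨(Q.subgroupOf M).map (toImage M (cenAct Ω M)), ?_, ?_, ?_, ?_, ?_, ?_, ?_⟩
  · rw [hker]; exact bot_le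
  · rintro _ ⟨q, hq, rfl⟩
    exact ⟨mem_top _, Subtype.ext (mem_stabilizer_iff.1 (Subgroup.mem_inf.1 (hQ.le hq)).2)⟩
  · rintro g ⟨-, hg⟩ _ ⟨q, hq, rfl⟩
    obtain ⟨g, rfl⟩ := toImage_surjective g
    refine ⟨g * q * g⁻¹, hQ.conj_mem _ ⟨g.2, congrArg Subtype.val (mem_stabilizer_iff.1 hg)⟩ _ hq, ?_⟩
    rw [map_mul, map_mul, map_inv]
  · obtain ⟨k, hk'⟩ := hQ.two_index
    refine ⟨k, ?_⟩
    rw [hker, Subgroup.card_bot, one_mul]
    obtain ⟨φ, hφ⟩ : ∃ φ : Q →* image M (cenAct Ω M), φ = (toImage M (cenAct Ω M)).comp (Subgroup.inclusion hQM) :=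
      ⟨_, rfl⟩
    have h1 : φ.range = (Q.subgroupOf M).map (toImage M (cenAct Ω M)) := by
      rw [hφ, MonoidHom.range_comp, Subgroup.inclusion_range]
    have h2 : φ.ker = (ker Ω M).subgroupOf Q := by
      ext q
      rw [MonoidHom.mem_ker, Subgroup.mem_subgroupOf, hφ]
      exact hk _
    have h3 := Subgroup.card_mul_index φ.ker
    rw [Subgroup.index_ker, h1, h2, Nat.card_congr (subgroupOfEquivOfLe hQ.ker_le).toEquiv, hk'] at h3
    exact Nat.eq_of_mul_eq_mul_left Nat.card_pos h3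
  · rintro ⟨e, he⟩ - hed ⟨f, hf⟩ - hfd
    obtain ⟨q, hq, hqe⟩ := hQ.exists_move e he (fun h => hed (Subtype.ext h)) f hf (fun h => hfd (Subtype.ext h))
    exact ⟨_, ⟨⟨q, hQM hq⟩, hq, rfl⟩, Subtype.ext hqe⟩
  · rintro ⟨e, he⟩ - hed _ ⟨⟨q, hq, rfl⟩, hqe⟩
    rw [hker, Subgroup.mem_bot, hk]
    exact hQ.inf_le e he (fun h => hed (Subtype.ext h)) ⟨hq, congrArg Subtype.val (mem_stabilizer_iff.1 hqe)⟩
  · exact fun e _ hed => (UM.image.odd_pair (Ne.symm hed)).of_dvd_nat (Subgroup.card_dvd_of_le inf_le_right)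

section Real

variable (U : Hyp G Ω) [FaithfulSMul G Ω] (hr : TwoRank (⊤ : Subgroup G)) (hB : SplitBelow G Ω)
  (hP : ¬ Improper G Ω)
include U hr hB hP

theorem proper_two_trans : ∀ c a c' a' : Ω, c ≠ a → c' ≠ a' → ∃ g : G, g • c = c' ∧ g • a = a' :=
  proper_core U hr hB hP

/-- A real element of a pair stabiliser centralises no involution at a point of the pair. -/
theorem real_not_commute {c a : Ω} (hca : c ≠ a) {v : G} (hv : v ∈ swapAt G c a) {j : G}
    (hj : j ∈ pairStab G c a) (hjv : v * j * v⁻¹ = j⁻¹) (hj1 : j ≠ 1) :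
    ∀ t ∈ invAt G c, ¬ Commute j t := by
  intro t ht hjt
  obtain ⟨L, hL⟩ : ∃ L, L = pairGen G c a := ⟨_, rfl⟩
  obtain ⟨hc, ha, hnt, h2⟩ := cen_pairGen U hr hca
  have hLt := pairGen_ne_top U hr hB hP hca
  have hsub := invAt_subset_pairGen hr (G := G) c a
  rw [← hL] at hc ha hnt h2 hLt hsub
  have hW := proper_invComm U hr hB hP
  have hvv := mul_self_of_orderOf_two hv.1
  -- all swappers lie in `L`
  have hswap : swapIn L c a = swapAt G c a := by
    refine Set.eq_of_subset_of_ncard_le (fun i hi => hi.1) ?_ (Set.toFinite _)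
    have e : invIn L c = invAt G c := Set.ext fun i => ⟨fun h => h.1, fun h => ⟨h, hsub.1 h⟩⟩
    rw [← Nat.card_coe_set_eq, ← Nat.card_coe_set_eq, U.card_swappers hca, U.card_swapIn hca hc ha, e]
  have hvL : v ∈ L := (hswap ▸ hv : v ∈ swapIn L c a).2
  have hjvL : j * v ∈ L := by
    have h1 : j * v ∈ swapAt G c a := by
      refine ⟨orderOf_two_iff.2 ⟨?_, fun e => ?_⟩, by rw [mul_smul, hv.2, (mem_pair.1 hj).2]⟩
      · calc j * v * (j * v) = j * (v * j * v⁻¹) * (v * v) := by group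
          _ = 1 := by rw [hjv, hvv]; group
      · have h2 := congrArg (· • c) e
        simp only [one_smul, mul_smul, hv.2, (mem_pair.1 hj).2] at h2
        exact hca h2.symm
    exact (hswap ▸ h1 : j * v ∈ swapIn L c a).2
  have hjL : j ∈ L := by
    have := mul_mem hjvL hvL
    rwa [mul_assoc, hvv, mul_one] at this
  -- the kernel is central
  have hkc : ∀ k ∈ ker Ω L, ∀ h ∈ cen Ω L, ∀ s ∈ invAt G h, s ∈ L → Commute k s := by
    intro k hk h hh s hs hsL
    have hkh : k • h = h := (mem_ker.1 hk).2 h hh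
    have hks : k * s * k⁻¹ ∈ invAt G h := by
      have := conj_invAt_mem (g := k) hs
      rwa [hkh] at this
    have hmem : k * s * k⁻¹ * s⁻¹ ∈ ker Ω L := by
      have := mul_mem hk (ker_conj_mem hsL (inv_mem hk))
      simpa [mul_assoc] using this
    obtain ⟨n, hn⟩ := (U.odd_ker hnt).of_dvd_nat (Subgroup.orderOf_dvd_natCard _ hmem)
    have hsq : (k * s * k⁻¹ * s⁻¹) ^ 2 = 1 := by
      rw [inv_of_orderOf_two hs.1, (hW h _ hks _ hs).mul_pow, pow_two, pow_two, mul_self_of_orderOf_two hks.1,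
        mul_self_of_orderOf_two hs.1, one_mul]
    have h1 := pow_orderOf_eq_one (k * s * k⁻¹ * s⁻¹)
    rw [hn, pow_succ, pow_mul, hsq, one_pow, one_mul, mul_inv_eq_one, mul_inv_eq_iff_eq_mul] at h1
    exact h1
  have hjK : j ∉ ker Ω L := fun hk => hj1 (by
    have hle : pairGen G c a ≤ centralizer ({j} : Set G) := (Subgroup.closure_le _).2 fun s hs => by
      rcases hs with hs | hs
      · exact mem_centralizer_singleton_iff.2 (hkc j hk c hc s hs (hsub.1 hs)).eq.symm
      · exact mem_centralizer_singleton_iff.2 (hkc j hk a ha s hs (hsub.2 hs)).eq.symm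
    have h1 : v * j = j * v := mem_centralizer_singleton_iff.1 (hle (hL ▸ hvL))
    rw [h1, mul_inv_cancel_right] at hjv
    exact eq_one_of_sq_of_odd (U.odd_pair hca) hj (eq_inv_iff_mul_eq_one.1 hjv))
  -- the rank one group induced on the centres
  obtain ⟨c', hc'⟩ : ∃ c' : cenAct Ω L, c' = ⟨c, hc⟩ := ⟨_, rfl⟩
  obtain ⟨a', ha'⟩ : ∃ a' : cenAct Ω L, a' = ⟨a, ha⟩ := ⟨_, rfl⟩
  have UL := U.hyp_cen hnt
  obtain ⟨π, hπ⟩ : ∃ π, π = toImage L (cenAct Ω L) := ⟨_, rfl⟩
  obtain ⟨v', hv'⟩ : ∃ v', v' = π ⟨v, hvL⟩ := ⟨_, rfl⟩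
  obtain ⟨Q', hH⟩ := exists_rankOne UL.image (twoRank_image UL (twoRank_top h2))
    (split_image_cen U hnt (hB L hLt hnt h2)) (c := c') (a := a')
    (fun e => hca (congrArg Subtype.val (hc' ▸ ha' ▸ e : (⟨c, hc⟩ : cenAct Ω L) = ⟨a, ha⟩))) (v := v')
    ⟨by
      rw [hv', hπ]
      exact orderOf_toImage UL ((Subgroup.orderOf_coe _).symm.trans hv.1),
    by
      rw [hv', hπ, hc', ha']
      exact Subtype.ext hv.2⟩
  have hj' : π ⟨j, hjL⟩ ∈ Transfer.RankOne.kGrp c' v' := by
    rw [Transfer.RankOne.mem_kGrp hH]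
    refine ⟨⟨mem_stabilizer_iff.2 ?_, mem_stabilizer_iff.2 ?_⟩, ?_⟩
    · rw [hπ, hc']; exact Subtype.ext (mem_pair.1 hj).1
    · rw [hv', hπ, hc']
      refine Subtype.ext ?_
      show j • (v • c) = v • c
      rw [hv.2]; exact (mem_pair.1 hj).2
    · rw [hv', ← map_inv, ← map_mul, ← map_mul, ← map_inv]
      exact congrArg π (Subtype.ext hjv)
  have ht' : π ⟨t, hsub.1 ht⟩ ∈ Q' := by
    refine Lie.RankOne.invol_mem_Q hH.setup (mem_stabilizer_iff.2 ?_) ?_
    · rw [hπ, hc']; exact Subtype.ext ht.2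
    · rw [← map_mul, show (⟨t, hsub.1 ht⟩ : L) * ⟨t, hsub.1 ht⟩ = 1 from Subtype.ext (mul_self_of_orderOf_two ht.1),
        map_one]
  have h9 := Transfer.RankOne.kGrp_fpf hH hj' (fun e => hjK ?_) ht' (by
    rw [← map_mul, ← map_mul]
    exact congrArg π (Subtype.ext hjt.eq))
  · rw [hπ] at h9
    have h10 := orderOf_toImage UL (t := (⟨t, hsub.1 ht⟩ : L)) ((Subgroup.orderOf_coe _).symm.trans ht.1)
    rw [h9, orderOf_one] at h10
    exact absurd h10 (by norm_num)
  · rw [hπ, toImage_eq_one] at e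
    exact mem_ker.2 ⟨hjL, fun x hx => congrArg Subtype.val (e ⟨x, hx⟩)⟩

theorem proper_realFree : RealFree G Ω := by
  intro c a hca v hv j hj hjv hj1
  refine ⟨fun x hx => ?_, real_not_commute U hr hB hP hca hv hj hjv hj1⟩
  have hodd : Odd (orderOf j) := (U.odd_pair hca).of_dvd_nat (Subgroup.orderOf_dvd_natCard _ hj)
  obtain ⟨p, hp, hpj⟩ := Nat.exists_prime_and_dvd (n := orderOf j) (fun e => hj1 (orderOf_eq_one_iff.1 e))
  haveI : Fact p.Prime := ⟨hp⟩
  have hp2 : p ≠ 2 := by
    rintro rfl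
    exact absurd (hodd.of_dvd_nat hpj) (by decide)
  obtain ⟨i, hi⟩ : ∃ i, i = j ^ (orderOf j / p) := ⟨_, rfl⟩
  have hiord : orderOf i = p := hi ▸ orderOf_pow_orderOf_div (orderOf_pos j).ne' hpj
  have hiD : i ∈ pairStab G c a := hi ▸ pow_mem hj _
  have hiv : v * i * v⁻¹ = i⁻¹ := by rw [hi, ← conj_pow, hjv, inv_pow]
  have hi1 : i ≠ 1 := fun e => hp.one_lt.ne' (by rw [← hiord, e, orderOf_one])
  have hnone := real_not_commute U hr hB hP hca hv hiD hiv hi1
  have hdvd : p ∣ Nat.card (invAt G c) := by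
    refine Nat.modEq_zero_iff_dvd.1 ((card_modEq_commuting (invAt G c) i (fun s hs => U.invAt_conj hiD hs)
      (fun s _ => by rw [← hiord, pow_orderOf_eq_one]; exact Commute.one_left s)).trans (modEq_of_eq ?_))
    rw [Nat.card_eq_zero]
    exact Or.inl ⟨fun s => hnone _ s.2.1 s.2.2⟩
  have hcore := core U hp hp2 (goodness_vector U (proper_invComm U hr hB hP) hp2 hdvd)
  have hle : ∀ y : Ω, i • y = y → Subgroup.zpowers i ≤ stabilizer G y := fun y hy =>
    Subgroup.zpowers_le.2 (mem_stabilizer_iff.2 hy)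
  rcases eq_or_ne x c with h | h
  · exact Or.inl h
  refine Or.inr (hcore.fix_two c _ (IsPGroup.of_card (n := 1) (by rw [Nat.card_zpowers, hiord, pow_one]))
    (hle c (mem_pair.1 hiD).1) (fun s hs hsle => hnone s hs
      (mem_centralizer_singleton_iff.1 (hsle (Subgroup.mem_zpowers i)))) x a (hle x ?_) (hle a (mem_pair.1 hiD).2) h hca.symm)
  rw [hi]
  exact mem_stabilizer_iff.1 (pow_mem (mem_stabilizer_iff.2 hx : j ∈ stabilizer G x) _)

end Real

end Cfsg.Agent.Invol.Bender
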