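import Cfsg.Agent.Lib.Invol.Bender.Reduce
import Cfsg.Agent.Lib.Invol.Bender.Proper
import Cfsg.Agent.Lib.Invol.Bender.Improper
import Cfsg.Agent.Lib.Invol.Bender.Classes
import Cfsg.Agent.Lib.Invol.Bender.Complement

/-!
# Bender's theorem from its exceptional case

The pieces give the theorem for every order as soon as the exceptional case, where the centraliser of a swapper
has prime order equal to the rank, is settled.
-/

set_option autoImplicit false
set_option linter.unusedSectionVars false

namespace Cfsg.Agent.Invol.Bender

open MulAction Subgroup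

universe u

/-- The exceptional case: every element of a point stabiliser acts on its involutions as an element of a pair
stabiliser does. -/
def ExceptionalCase : Prop :=
  ∀ (G Ω : Type u) [Group G] [Finite G] [MulAction G Ω] [FaithfulSMul G Ω], Hyp G Ω → TwoRank (⊤ : Subgroup G) →
    (∀ c a c' a' : Ω, c ≠ a → c' ≠ a' → ∃ g : G, g • c = c' ∧ g • a = a') → InvComm G Ω → RealFree G Ω →
      ConjPair G Ω → ∀ c a : Ω, c ≠ a → Exceptional (G := G) c a →
        ∀ h ∈ stabilizer G c, ∃ x ∈ pairStab G c a, ∀ t ∈ invAt G c, Commute (x⁻¹ * h) t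

/-- One step of the induction: two-transitivity and regular normal subgroups. -/
theorem step_of (hE : ExceptionalCase.{u}) : Step.{u} := by
  intro G Ω _ _ _ _ U hr hb
  have hB := splitBelow_of_below U hb
  obtain ⟨h2, hW, hF⟩ : (∀ c a c' a' : Ω, c ≠ a → c' ≠ a' → ∃ g : G, g • c = c' ∧ g • a = a') ∧
      InvComm G Ω ∧ RealFree G Ω := by
    by_cases hI : Improper G Ω
    · have hF := improper_realFree U hr hB hI
      exact ⟨improper_two_trans U hr hB hI, invComm U hr hb hF (conjPair_of_realFree U hF), hF⟩
    · exact ⟨proper_two_trans U hr hB hI, proper_invComm U hr hB hI, proper_realFree U hr hB hI⟩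
  have hC := conjPair_of_realFree U hF
  exact ⟨h2, fun c => hasRegular U hr hb h2 hW hF hC (hE G Ω U hr h2 hW hF hC) c⟩

end Cfsg.Agent.Invol.Bender
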