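import Mathlib
import Cfsg.Prelude.Def_Involutions

/-!
# The setting of Bender's theorem on strongly embedded subgroups

`Hyp G Ω` is the permutation form of a strongly embedded subgroup: every involution fixes exactly one
point.  `Split M` is what the theorem gives, by induction, for a subgroup `M` of 2-rank at least two with
at least two centres: modulo the kernel on its centres, `M` is a rank one group with a regular 2-group in
each point stabiliser.
-/

set_option autoImplicit false

namespace Cfsg.Agent.Invol.Bender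

open MulAction

/-- A transitive action in which every involution fixes exactly one point. -/
structure Hyp (G Ω : Type*) [Group G] [MulAction G Ω] : Prop where
  transitive : IsPretransitive G Ω
  nontrivial : Nontrivial Ω
  exists_inv : ∃ i : G, orderOf i = 2
  unique_fix : ∀ i : G, orderOf i = 2 → ∃! x : Ω, i • x = x

variable {G Ω : Type*} [Group G] [MulAction G Ω]

/-- The involutions fixing the point `a`. -/
def invAt (G : Type*) {Ω : Type*} [Group G] [MulAction G Ω] (a : Ω) : Set G :=
  {i | orderOf i = 2 ∧ i • a = a}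

/-- The involutions moving `a` to `b`. -/
def swapAt (G : Type*) {Ω : Type*} [Group G] [MulAction G Ω] (a b : Ω) : Set G :=
  {u | orderOf u = 2 ∧ u • a = b}

/-- The two point stabiliser. -/
def pairStab (G : Type*) {Ω : Type*} [Group G] [MulAction G Ω] (a b : Ω) : Subgroup G :=
  stabilizer G a ⊓ stabilizer G b

/-- `M` contains two different commuting involutions. -/
def TwoRank (M : Subgroup G) : Prop :=
  ∃ x ∈ M, ∃ y ∈ M, orderOf x = 2 ∧ orderOf y = 2 ∧ x ≠ y ∧ Commute x y

/-- The centres of `M`: the fixed points of its involutions. -/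
def cen (Ω : Type*) [MulAction G Ω] (M : Subgroup G) : Set Ω :=
  {x | ∃ i ∈ M, orderOf i = 2 ∧ i • x = x}

/-- The elements of `M` fixing every centre of `M`. -/
def ker (Ω : Type*) [MulAction G Ω] (M : Subgroup G) : Subgroup G :=
  M ⊓ ⨅ x ∈ cen Ω M, stabilizer G x

/-- The data at one centre `d` of `M`. -/
structure SplitAt (M : Subgroup G) (d : Ω) (Q : Subgroup G) : Prop where
  ker_le : ker Ω M ≤ Q
  le : Q ≤ M ⊓ stabilizer G d
  conj_mem : ∀ h ∈ M ⊓ stabilizer G d, ∀ x ∈ Q, h * x * h⁻¹ ∈ Q
  two_index : ∃ k : ℕ, Nat.card Q = Nat.card (ker Ω M) * 2 ^ k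
  exists_move : ∀ e ∈ cen Ω M, e ≠ d → ∀ f ∈ cen Ω M, f ≠ d → ∃ q ∈ Q, q • e = f
  inf_le : ∀ e ∈ cen Ω M, e ≠ d → Q ⊓ stabilizer G e ≤ ker Ω M
  odd_pair : ∀ e ∈ cen Ω M, e ≠ d → Odd (Nat.card ↥(M ⊓ pairStab G d e))

/-- Bender's conclusion for the subgroup `M` acting on its centres. -/
def Split (Ω : Type*) [MulAction G Ω] (M : Subgroup G) : Prop :=
  ∀ d ∈ cen Ω M, ∃ Q, SplitAt M d Q

/-- The inductive hypothesis: Bender's theorem for all proper subgroups. -/
def SplitBelow (G Ω : Type*) [Group G] [MulAction G Ω] : Prop :=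
  ∀ M : Subgroup G, M ≠ ⊤ → (cen Ω M).Nontrivial → TwoRank M → Split Ω M

end Cfsg.Agent.Invol.Bender
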