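import Cfsg.Agent.Lib.Invol.Bender.Basic
import Cfsg.Agent.Lib.Invol.StronglyEmbeddedCount
import Cfsg.Agent.Lib.Invol.StronglyEmbedded

/-!
# Counting consequences of one fixed point per involution

A pair of points is swapped by as many involutions as fix a point; the stabiliser of a pair is of odd order and
transitive on the involutions at either point and on the swappers; the three pairs of a triangle have stabilisers
of equal order.
-/

set_option autoImplicit false
set_option linter.unusedSectionVars false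

namespace Cfsg.Agent.Invol.Bender

open MulAction Subgroup

universe u v

variable {G : Type u} {Ω : Type v} [Group G] [MulAction G Ω]

theorem conj_smul_smul (g t : G) (x : Ω) : (g * t * g⁻¹) • (g • x) = g • (t • x) := by
  rw [mul_smul, mul_smul, inv_smul_smul]

theorem swap_symm {t : G} (ht : orderOf t = 2) {x y : Ω} (h : t • x = y) : t • y = x := by
  rw [← h, ← mul_smul, mul_self_of_orderOf_two ht, one_smul]

theorem mem_pair {g : G} {x y : Ω} : g ∈ pairStab G x y ↔ g • x = x ∧ g • y = y := by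
  rw [pairStab, Subgroup.mem_inf, mem_stabilizer_iff, mem_stabilizer_iff]

variable [Finite G]

namespace Hyp

variable (U : Hyp G Ω)
include U

omit [Finite G] in
theorem exists_fix (t : G) (ht : orderOf t = 2) : ∃ x : Ω, t • x = x := (U.unique_fix t ht).exists

omit [Finite G] in
theorem fix_unique (t : G) (ht : orderOf t = 2) (x y : Ω) (hx : t • x = x) (hy : t • y = y) : x = y :=
  (U.unique_fix t ht).unique hx hy

omit [Finite G] in
theorem fix_eq {i : G} {a b : Ω} (hi : i ∈ invAt G a) (hb : i • b = b) : b = a :=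
  U.fix_unique i hi.1 b a hb hi.2

omit [Finite G] in
theorem exists_smul_eq (x y : Ω) : ∃ g : G, g • x = y := U.transitive.exists_smul_eq x y

omit [Finite G] in
theorem invol_at (x : Ω) : ∃ t : G, orderOf t = 2 ∧ t • x = x := by
  obtain ⟨t, ht⟩ := U.exists_inv
  obtain ⟨z, hz⟩ := U.exists_fix t ht
  obtain ⟨g, rfl⟩ := U.exists_smul_eq z x
  exact ⟨g * t * g⁻¹, (orderOf_conj_eq g t).trans ht, by rw [conj_smul_smul, hz]⟩

/-- An element commuting with an involution fixes its point. -/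
theorem fix_of_commute {t g : G} (ht : orderOf t = 2) {x : Ω} (hx : t • x = x) (hg : Commute g t) : g • x = x :=
  U.fix_unique t ht _ _ (by rw [← mul_smul, ← hg.eq, mul_smul, hx]) hx

theorem pair_no_invol {x y : Ω} (hxy : x ≠ y) {t : G} (ht : orderOf t = 2) (hx : t • x = x) : t • y ≠ y :=
  fun hy => hxy (U.fix_unique t ht x y hx hy)

/-- The stabiliser of two points has odd order. -/
theorem odd_pair {x y : Ω} (hxy : x ≠ y) : Odd (Nat.card ↥(pairStab G x y)) := by
  refine Nat.not_even_iff_odd.1 fun he => ?_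
  haveI : Fact (Nat.Prime 2) := ⟨Nat.prime_two⟩
  obtain ⟨t, ht⟩ := exists_prime_orderOf_dvd_card' (G := ↥(pairStab G x y)) 2
    (even_iff_two_dvd.1 he)
  obtain ⟨h1, h2⟩ := mem_pair.1 t.2
  exact U.pair_no_invol hxy ((orderOf_coe t).trans ht) h1 h2

/-- Two involutions at different points have a product of odd order. -/
theorem odd_product {s a : G} (hs : orderOf s = 2) (ha : orderOf a = 2) {x y : Ω} (hx : s • x = x)
    (hy : a • y = y) (hxy : x ≠ y) : Odd (orderOf (s * a)) := by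
  refine Nat.not_even_iff_odd.1 fun he => hxy ?_
  obtain ⟨r, hr⟩ := he
  obtain ⟨w, hw⟩ : ∃ w, w = (s * a) ^ r := ⟨_, rfl⟩
  have hw2 : orderOf w = 2 := by
    have h0 := orderOf_pos (s * a)
    rw [hw, orderOf_pow, hr, Nat.gcd_eq_right ⟨2, by ring⟩, ← two_mul]
    exact Nat.mul_div_cancel _ (by omega)
  have h1 : Commute s w := by
    have h2 := mul_zpow_comm hs ha (r : ℤ)
    rw [zpow_natCast, zpow_neg, zpow_natCast, ← hw, inv_of_orderOf_two hw2] at h2
    exact h2
  have h3 : Commute a w := by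
    have hc : Commute (s * a) w := hw ▸ Commute.self_pow (s * a) r
    have := h1.mul_left hc
    rwa [← y_eq hs] at this
  obtain ⟨z, hz⟩ := U.exists_fix w hw2
  exact (U.fix_unique s hs x z hx (U.fix_of_commute hw2 hz h1)).trans
    (U.fix_unique a ha y z hy (U.fix_of_commute hw2 hz h3)).symm

/-- The involution of the dihedral group interchanging two points. -/
theorem exists_swapper {s a : G} (hs : orderOf s = 2) (ha : orderOf a = 2) {x y : Ω} (hx : s • x = x)
    (hy : a • y = y) (hxy : x ≠ y) : ∃ m : G, orderOf m = 2 ∧ m * s * m⁻¹ = a ∧ m • x = y := by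
  obtain ⟨n, hn⟩ := U.odd_product hs ha hx hy hxy
  obtain ⟨k, hk⟩ : ∃ k, k = (s * a) ^ (n : ℤ) := ⟨_, rfl⟩
  have hka : k * s * k⁻¹ = a := by
    rw [hk, ← zpow_neg, mul_assoc, mul_zpow_comm hs ha, neg_neg, ← mul_assoc, ← zpow_add]
    have h1 : (s * a) ^ ((n : ℤ) + n) = (s * a)⁻¹ := by
      rw [eq_inv_iff_mul_eq_one, ← zpow_add_one, show (n : ℤ) + n + 1 = ((2 * n + 1 : ℕ) : ℤ) by push_cast; ring,
        zpow_natCast, ← hn, pow_orderOf_eq_one]
    rw [h1, mul_inv_rev, mul_assoc, inv_mul_cancel, mul_one, inv_of_orderOf_two ha]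
  have hss := mul_self_of_orderOf_two hs
  have hm2 : orderOf (k * s) = 2 := orderOf_two_iff.2 ⟨by
    calc k * s * (k * s) = k * (s * k) * s := by group
      _ = k * (k⁻¹ * s) * s := by rw [hk, mul_zpow_comm hs ha, zpow_neg]
      _ = 1 := by rw [mul_inv_cancel_left, hss], fun h1 => notMem_zpowers_mul hs ha
        (Subgroup.mem_zpowers_iff.2 ⟨(n : ℤ), by rw [← hk]
                                                 exact (eq_inv_of_mul_eq_one_left h1).trans (inv_of_orderOf_two hs)⟩)⟩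
  have hconj : k * s * s * (k * s)⁻¹ = a := by rw [← hka]; group
  refine ⟨k * s, hm2, hconj, U.fix_unique a ha _ _ ?_ hy⟩
  rw [← hconj, conj_smul_smul, hx]

theorem exists_swap_pair {x y : Ω} (hxy : x ≠ y) : ∃ m : G, m ∈ swapAt G x y := by
  obtain ⟨s, hs, hx⟩ := U.invol_at x
  obtain ⟨a, ha, hy⟩ := U.invol_at y
  obtain ⟨m, hm, -, hmx⟩ := U.exists_swapper hs ha hx hy hxy
  exact ⟨m, hm, hmx⟩

theorem finite_points : Finite Ω := by
  classical
  by_cases hΩ : Nonempty Ω
  · obtain ⟨x⟩ := hΩ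
    exact Finite.of_surjective (fun g : G => g • x) fun y => U.exists_smul_eq x y
  · rw [not_nonempty_iff] at hΩ
    exact Finite.of_subsingleton

/-- All points have the same number of involutions. -/
theorem card_invAt (x y : Ω) : Nat.card ↥(invAt G x) = Nat.card ↥(invAt G y) := by
  obtain ⟨g, rfl⟩ := U.exists_smul_eq x y
  refine Nat.card_congr ((MulAut.conj g).toEquiv.subtypeEquiv fun t => ?_)
  show (orderOf t = 2 ∧ t • x = x) ↔ (orderOf (g * t * g⁻¹) = 2 ∧ (g * t * g⁻¹) • (g • x) = g • x)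
  rw [orderOf_conj_eq, conj_smul_smul, smul_left_cancel_iff]

/-- Two points are interchanged by exactly as many involutions as fix a point. -/
theorem card_swappers {x y : Ω} (hxy : x ≠ y) :
    Nat.card ↥(swapAt G x y) = Nat.card ↥(invAt G x) := by
  classical
  haveI := U.finite_points
  have := Fintype.ofFinite Ω
  have := Fintype.ofFinite G
  have hle : ∀ z : Ω, Nat.card ↥(invAt G x) ≤ Nat.card ↥(swapAt G x z) := by
    intro z
    rcases eq_or_ne x z with rfl | hz
    · exact le_of_eq rfl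
    obtain ⟨a, ha, haz⟩ := U.invol_at z
    have hex : ∀ s : ↥(invAt G x), ∃ m : G, orderOf m = 2 ∧ m * (s : G) * m⁻¹ = a ∧ m • x = z :=
      fun s => U.exists_swapper s.2.1 ha s.2.2 haz hz
    choose m h1 h2 h3 using hex
    refine Nat.card_le_card_of_injective (fun s => (⟨m s, h1 s, h3 s⟩ : ↥(swapAt G x z))) fun s s' he => ?_
    have he' : m s = m s' := congrArg Subtype.val he
    refine Subtype.ext ?_
    have := h2 s
    rw [he', ← h2 s'] at this
    exact mul_left_cancel (mul_right_cancel this)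
  have hsum : ∑ _z : Ω, Nat.card ↥(invAt G x) = ∑ z : Ω, Nat.card ↥(swapAt G x z) := by
    have e1 : Nat.card {t : G // orderOf t = 2} = ∑ z : Ω, Nat.card ↥(invAt G z) := by
      rw [← Nat.card_sigma]
      refine Nat.card_congr (Equiv.ofBijective (fun p : (z : Ω) × ↥(invAt G z) =>
        (⟨(p.2 : G), p.2.2.1⟩ : {t : G // orderOf t = 2})) ⟨?_, fun t => ?_⟩).symm
      · rintro ⟨z, t, ht⟩ ⟨z', t', ht'⟩ he
        obtain rfl : t = t' := congrArg Subtype.val he
        obtain rfl := U.fix_unique t ht.1 z z' ht.2 ht'.2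
        rfl
      · obtain ⟨z, hz⟩ := U.exists_fix t t.2
        exact ⟨⟨z, t, t.2, hz⟩, rfl⟩
    have e2 : Nat.card {t : G // orderOf t = 2} = ∑ z : Ω, Nat.card ↥(swapAt G x z) := by
      rw [← Nat.card_sigma]
      exact Nat.card_congr
        { toFun := fun t => ⟨t.1 • x, t.1, t.2, rfl⟩
          invFun := fun p => ⟨p.2.1, p.2.2.1⟩
          left_inv := fun t => rfl
          right_inv := by rintro ⟨z, t, ht, rfl⟩; rfl }
    rw [← e2, e1]
    exact Finset.sum_congr rfl fun z _ => U.card_invAt x z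
  exact ((Finset.sum_eq_sum_iff_of_le fun z _ => hle z).1 hsum y (Finset.mem_univ _)).symm

/-- The stabiliser of a pair is transitive on the involutions at either point. -/
theorem exists_conj_invAt {x y : Ω} (hxy : x ≠ y) {s t : G} (hs : s ∈ invAt G x) (ht : t ∈ invAt G x) :
    ∃ g ∈ pairStab G x y, g * s * g⁻¹ = t := by
  obtain ⟨a, ha, hay⟩ := U.invol_at y
  obtain ⟨m, hm, hms, hmx⟩ := U.exists_swapper hs.1 ha hs.2 hay hxy
  obtain ⟨n, hn, hnt, hnx⟩ := U.exists_swapper ht.1 ha ht.2 hay hxy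
  refine ⟨n⁻¹ * m, mem_pair.2 ⟨?_, ?_⟩, ?_⟩
  · rw [mul_smul, hmx, ← hnx, inv_smul_smul]
  · rw [mul_smul, swap_symm hm hmx, inv_of_orderOf_two hn, hnx]
  · calc n⁻¹ * m * s * (n⁻¹ * m)⁻¹ = n⁻¹ * (m * s * m⁻¹) * n := by group
      _ = n⁻¹ * (n * t * n⁻¹) * n := by rw [hms, hnt]
      _ = t := by group

/-- The stabiliser of a pair is transitive on the swappers. -/
theorem exists_conj_swappers {x y : Ω} (hxy : x ≠ y) {s t : G} (hs : s ∈ swapAt G x y) (ht : t ∈ swapAt G x y) :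
    ∃ g ∈ pairStab G x y, g * s * g⁻¹ = t := by
  have hD : s * t ∈ pairStab G x y := mem_pair.2
    ⟨by rw [mul_smul, ht.2, swap_symm hs.1 hs.2], by rw [mul_smul, swap_symm ht.1 ht.2, hs.2]⟩
  obtain ⟨n, hn⟩ : Odd (orderOf (s * t)) :=
    (U.odd_pair hxy).of_dvd_nat (Subgroup.orderOf_dvd_natCard _ hD)
  refine ⟨(s * t) ^ (n : ℤ), zpow_mem hD _, ?_⟩
  rw [← zpow_neg, mul_assoc, mul_zpow_comm hs.1 ht.1, neg_neg, ← mul_assoc, ← zpow_add]
  have h1 : (s * t) ^ ((n : ℤ) + n) = (s * t)⁻¹ := by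
    rw [eq_inv_iff_mul_eq_one, ← zpow_add_one, show (n : ℤ) + n + 1 = ((2 * n + 1 : ℕ) : ℤ) by push_cast; ring,
      zpow_natCast, ← hn, pow_orderOf_eq_one]
  rw [h1, mul_inv_rev, mul_assoc, inv_mul_cancel, mul_one, inv_of_orderOf_two ht.1]

theorem card_centralizer_mul_card {x y : Ω} {S : Set G} {s : G} (hs : s ∈ S)
    (hS : ∀ g ∈ pairStab G x y, ∀ t ∈ S, g * t * g⁻¹ ∈ S)
    (htr : ∀ t ∈ S, ∃ g ∈ pairStab G x y, g * s * g⁻¹ = t) :
    Nat.card ↥((pairStab G x y) ⊓ centralizer ({s} : Set G)) * Nat.card ↥S =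
      Nat.card ↥(pairStab G x y) := by
  obtain ⟨D, hD⟩ : ∃ D, D = pairStab G x y := ⟨_, rfl⟩
  rw [← hD] at hS htr ⊢
  let f : D → ↥S := fun g => ⟨(g : G) * s * (g : G)⁻¹, hS g g.2 s hs⟩
  have hf : Function.Surjective f := fun t => by
    obtain ⟨g, hg, he⟩ := htr t t.2
    exact ⟨⟨g, hg⟩, Subtype.ext he⟩
  have hcos : ∀ g h : D, f g = f h ↔ (g : G)⁻¹ * h ∈ D ⊓ centralizer ({s} : Set G) := fun g h => by
    rw [Subgroup.mem_inf, mem_centralizer_singleton_iff]
    constructor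
    · intro e
      have e' : (g : G) * s * (g : G)⁻¹ = h * s * (h : G)⁻¹ := congrArg Subtype.val e
      refine ⟨mul_mem (inv_mem g.2) h.2, ?_⟩
      calc (g : G)⁻¹ * h * s = (g : G)⁻¹ * ((h : G) * s * (h : G)⁻¹) * h := by group
        _ = (g : G)⁻¹ * ((g : G) * s * (g : G)⁻¹) * h := by rw [e']
        _ = _ := by group
    · rintro ⟨-, e⟩
      refine Subtype.ext ?_
      show (g : G) * s * (g : G)⁻¹ = h * s * (h : G)⁻¹
      calc (g : G) * s * (g : G)⁻¹ = g * (s * ((g : G)⁻¹ * h)) * (h : G)⁻¹ := by group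
        _ = g * ((g : G)⁻¹ * h * s) * (h : G)⁻¹ := by rw [e]
        _ = _ := by group
  rw [← Nat.card_congr (subgroupOfEquivOfLe (inf_le_left : D ⊓ centralizer ({s} : Set G) ≤ D)).toEquiv,
    mul_comm, ← Nat.card_congr (Equiv.ofBijective
      (Quotient.lift f fun g h e => (hcos g h).2 (mem_subgroupOf.1 (QuotientGroup.leftRel_apply.1 e)))
      ⟨fun a b => Quotient.inductionOn₂ a b fun g h e =>
        Quotient.sound (QuotientGroup.leftRel_apply.2 (mem_subgroupOf.2 ((hcos g h).1 e))),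
      fun t => let ⟨g, hg⟩ := hf t; ⟨Quotient.mk _ g, hg⟩⟩)]
  exact (Subgroup.card_eq_card_quotient_mul_card_subgroup _).symm

theorem invAt_conj {x y : Ω} {g t : G} (hg : g ∈ pairStab G x y) (ht : t ∈ invAt G x) :
    g * t * g⁻¹ ∈ invAt G x := by
  refine ⟨(orderOf_conj_eq g t).trans ht.1, ?_⟩
  conv_lhs => rw [← (mem_pair.1 hg).1]
  rw [conj_smul_smul, ht.2, (mem_pair.1 hg).1]

theorem swappers_conj {x y : Ω} {g t : G} (hg : g ∈ pairStab G x y) (ht : t ∈ swapAt G x y) :
    g * t * g⁻¹ ∈ swapAt G x y := by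
  refine ⟨(orderOf_conj_eq g t).trans ht.1, ?_⟩
  conv_lhs => rw [← (mem_pair.1 hg).1]
  rw [conj_smul_smul, ht.2, (mem_pair.1 hg).2]

/-- The centraliser of an involution at a point inside the stabiliser of a pair has index `m`. -/
theorem card_centralizer_invAt {x y : Ω} (hxy : x ≠ y) {s : G} (hs : s ∈ invAt G x) :
    Nat.card ↥((pairStab G x y) ⊓ centralizer ({s} : Set G)) * Nat.card ↥(invAt G x) =
      Nat.card ↥(pairStab G x y) :=
  U.card_centralizer_mul_card hs (fun _ hg _ ht => U.invAt_conj hg ht) fun _ ht => U.exists_conj_invAt hxy hs ht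

/-- The centraliser of a swapper inside the stabiliser of a pair has index `m`. -/
theorem card_centralizer_swapper {x y : Ω} (hxy : x ≠ y) {s : G} (hs : s ∈ swapAt G x y) :
    Nat.card ↥((pairStab G x y) ⊓ centralizer ({s} : Set G)) * Nat.card ↥(invAt G x) =
      Nat.card ↥(pairStab G x y) := by
  rw [← U.card_swappers hxy]
  exact U.card_centralizer_mul_card hs (fun _ hg _ ht => U.swappers_conj hg ht)
    fun _ ht => U.exists_conj_swappers hxy hs ht

/-- The three pair stabilisers of a triangle have the same order. -/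
theorem card_triangle {u : G} (hu : orderOf u = 2) {d g b : Ω} (hd : u • d = d) (hg : u • g = b) (hgb : g ≠ b) :
    Nat.card ↥(pairStab G g b) = Nat.card ↥(pairStab G d g) := by
  have hdg : d ≠ g := fun e => hgb (by rw [← hg, ← e, hd])
  have h1 := U.card_centralizer_swapper hgb (s := u) ⟨hu, hg⟩
  have h2 := U.card_centralizer_invAt hdg (s := u) ⟨hu, hd⟩
  rw [← h1, ← h2, U.card_invAt g d]
  suffices e : (pairStab G g b) ⊓ centralizer ({u} : Set G) =
      (pairStab G d g) ⊓ centralizer ({u} : Set G) by rw [e]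
  ext c
  simp only [Subgroup.mem_inf, mem_pair, mem_centralizer_singleton_iff]
  constructor
  · rintro ⟨⟨h3, -⟩, hc⟩
    exact ⟨⟨U.fix_of_commute hu hd hc, h3⟩, hc⟩
  · rintro ⟨⟨-, h3⟩, hc⟩
    exact ⟨⟨h3, by rw [← hg, ← mul_smul, hc, mul_smul, h3]⟩, hc⟩

/-- Every element of the stabiliser of a pair is an inverted element times an element centralising the swapper. -/
theorem exists_inverted_mul {x y : Ω} (hxy : x ≠ y) {t : G} (ht : t ∈ swapAt G x y) {g : G}
    (hg : g ∈ pairStab G x y) :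
    ∃ j c : G, j ∈ pairStab G x y ∧ c ∈ pairStab G x y ∧ Commute c t ∧
      t * j * t⁻¹ = j⁻¹ ∧ g = j * c := by
  obtain ⟨D, hD⟩ : ∃ D, D = pairStab G x y := ⟨_, rfl⟩
  have htn : ∀ z ∈ D, t * z * t⁻¹ ∈ D := fun z hz => by
    rw [hD] at hz ⊢
    obtain ⟨h1, h2⟩ := mem_pair.1 hz
    exact mem_pair.2 ⟨by conv_lhs => rw [← swap_symm ht.1 ht.2]
                         rw [conj_smul_smul, h2, swap_symm ht.1 ht.2],
      by conv_lhs => rw [← ht.2]
         rw [conj_smul_smul, h1, ht.2]⟩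
  rw [← hD] at hg ⊢
  obtain ⟨y', hy'⟩ : ∃ y', y' = g * (t * g⁻¹ * t⁻¹) := ⟨_, rfl⟩
  have hy'D : y' ∈ D := hy' ▸ mul_mem hg (htn _ (inv_mem hg))
  obtain ⟨n, hn⟩ : Odd (orderOf y') := by
    refine (U.odd_pair hxy).of_dvd_nat ?_
    rw [← hD]
    exact Subgroup.orderOf_dvd_natCard _ hy'D
  have hty : t * y' * t⁻¹ = y'⁻¹ := by
    rw [hy']
    calc t * (g * (t * g⁻¹ * t⁻¹)) * t⁻¹ = t * g * t * g⁻¹ * (t * t)⁻¹ := by group
      _ = _ := by
        rw [mul_self_of_orderOf_two ht.1, inv_one, mul_one]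
        simp only [mul_inv_rev, inv_inv, inv_of_orderOf_two ht.1]
        group
  obtain ⟨j, hj⟩ : ∃ j, j = y' ^ (n + 1) := ⟨_, rfl⟩
  have hj2 : j * j = y' := by
    rw [hj, ← pow_add, show n + 1 + (n + 1) = 2 * n + 1 + 1 by ring, pow_succ, ← hn, pow_orderOf_eq_one, one_mul]
  have htj : t * j * t⁻¹ = j⁻¹ := by rw [hj, ← conj_pow, hty, inv_pow]
  have hjD : j ∈ D := hj ▸ pow_mem hy'D _
  refine ⟨j, j⁻¹ * g, hjD, mul_mem (inv_mem hjD) hg, ?_, htj, by rw [mul_inv_cancel_left]⟩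
  show j⁻¹ * g * t = t * (j⁻¹ * g)
  have e1 : t * j⁻¹ * t⁻¹ = j := by
    have h3 := congrArg (·⁻¹) htj
    simpa [mul_assoc] using h3
  have e2 : y' = g * t * g⁻¹ * t := by
    rw [hy']
    simp only [inv_of_orderOf_two ht.1, mul_assoc]
  calc j⁻¹ * g * t = j⁻¹ * (g * t * g⁻¹ * t) * t⁻¹ * g := by group
    _ = j⁻¹ * (j * j) * t⁻¹ * g := by rw [← e2, hj2]
    _ = j * t⁻¹ * g := by rw [← mul_assoc, inv_mul_cancel, one_mul]
    _ = t * j⁻¹ * t⁻¹ * t⁻¹ * g := by rw [e1]
    _ = _ := by rw [inv_of_orderOf_two ht.1, mul_assoc (t * j⁻¹), mul_self_of_orderOf_two ht.1, mul_one, mul_assoc]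

/-- The centraliser of an involution is transitive on each orbit of the stabiliser of its point. -/
theorem exists_commute_smul {s : G} {x y : Ω} (hs : s ∈ invAt G x) {g : G} (hg : g • x = x) :
    ∃ c : G, Commute c s ∧ c • y = g • y := by
  rcases eq_or_ne x y with rfl | hxy
  · exact ⟨1, Commute.one_left s, by rw [one_smul, hg]⟩
  have ht : g⁻¹ * s * g⁻¹⁻¹ ∈ invAt G x := by
    refine ⟨(orderOf_conj_eq _ s).trans hs.1, ?_⟩
    conv_lhs => rw [← (inv_smul_eq_iff.2 hg.symm : g⁻¹ • x = x)]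
    rw [conj_smul_smul, hs.2, inv_smul_eq_iff.2 hg.symm]
  obtain ⟨d, hd, e⟩ := U.exists_conj_invAt hxy hs ht
  refine ⟨g * d, ?_, by rw [mul_smul, (mem_pair.1 hd).2]⟩
  show g * d * s = s * (g * d)
  calc g * d * s = g * (d * s * d⁻¹) * d := by group
    _ = _ := by rw [e]; group

theorem stronglyEmbedded (a : Ω) : Cfsg.IsStronglyEmbedded (stabilizer G a) := by
  haveI := U.nontrivial
  refine ⟨fun e => ?_, ?_, fun g hg => ?_⟩
  · obtain ⟨b, hb⟩ := exists_ne a
    obtain ⟨g, hg⟩ := U.exists_smul_eq a b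
    exact hb (hg ▸ mem_stabilizer_iff.1 (e ▸ Subgroup.mem_top g))
  · obtain ⟨t, ht, hta⟩ := U.invol_at a
    rw [even_iff_two_dvd, ← ht]
    exact Subgroup.orderOf_dvd_natCard _ (mem_stabilizer_iff.2 hta)
  · rw [← stabilizer_smul_eq_stabilizer_map_conj]
    exact U.odd_pair fun e => hg (mem_stabilizer_iff.2 e.symm)

theorem commute_fix {a : Ω} {g i : G} (hi : i ∈ invAt G a) (hg : Commute g i) : g • a = a :=
  U.fix_of_commute hi.1 hi.2 hg

theorem isConj {s t : G} (hs : orderOf s = 2) (ht : orderOf t = 2) : IsConj s t := by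
  obtain ⟨x, hx⟩ := U.exists_fix s hs
  exact isConj_involutions (U.stronglyEmbedded x) hs ht

theorem odd_pairStab {a b : Ω} (hab : a ≠ b) : Odd (Nat.card (pairStab G a b)) := U.odd_pair hab

theorem ncard_swapAt {a b : Ω} (hab : a ≠ b) : (swapAt G a b).ncard = (invAt G a).ncard :=
  U.card_swappers hab

theorem conj_invAt {a b : Ω} (hab : a ≠ b) : ∀ s ∈ invAt G a, ∀ t ∈ invAt G a,
    ∃ x ∈ pairStab G a b, x * s * x⁻¹ = t := fun _ hs _ ht => U.exists_conj_invAt hab hs ht

theorem conj_swapAt {a b : Ω} (hab : a ≠ b) : ∀ u ∈ swapAt G a b, ∀ v ∈ swapAt G a b,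
    ∃ x ∈ pairStab G a b, x * u * x⁻¹ = v := fun _ hu _ hv => U.exists_conj_swappers hab hu hv

theorem triangle {a b d : Ω} (hab : a ≠ b) {u : G} (hu : u ∈ swapAt G a b) (hd : u • d = d) :
    Nat.card (pairStab G a b) = Nat.card (pairStab G a d) ∧
      Nat.card (pairStab G a b) = Nat.card (pairStab G b d) := by
  have e : ∀ x y : Ω, pairStab G x y = pairStab G y x := fun x y => inf_comm _ _
  refine ⟨by rw [e a d]; exact U.card_triangle hu.1 hd hu.2 hab, ?_⟩
  rw [e a b, e b d]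
  exact U.card_triangle hu.1 hd (swap_symm hu.1 hu.2) hab.symm

/-- The number of points is odd. -/
theorem odd_card : Odd (Nat.card Ω) := by
  haveI := U.finite_points
  haveI : Fact (Nat.Prime 2) := ⟨Nat.prime_two⟩
  obtain ⟨t, ht⟩ := U.exists_inv
  have hP : IsPGroup 2 (Subgroup.zpowers t) := IsPGroup.of_card (n := 1) (by rw [Nat.card_zpowers, ht, pow_one])
  have h1 := hP.card_modEq_card_fixedPoints Ω
  have h2 : Nat.card (fixedPoints (Subgroup.zpowers t) Ω) = 1 := by
    obtain ⟨x, hx⟩ := U.exists_fix t ht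
    refine Nat.card_eq_one_iff_unique.2 ⟨⟨fun p q => Subtype.ext
      (U.fix_unique t ht _ _ (p.2 ⟨t, Subgroup.mem_zpowers t⟩) (q.2 ⟨t, Subgroup.mem_zpowers t⟩))⟩, ⟨⟨x, ?_⟩⟩⟩
    rintro ⟨g, hg⟩
    exact mem_stabilizer_iff.1 ((Subgroup.zpowers_le.2 (mem_stabilizer_iff.2 hx)) hg)
  rw [h2] at h1
  exact Nat.odd_iff.2 h1

end Hyp

/-- The action on the cosets of a strongly embedded subgroup. -/
theorem of_stronglyEmbedded {H : Subgroup G} (hH : Cfsg.IsStronglyEmbedded H) : Hyp G (G ⧸ H) where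
  transitive := inferInstance
  nontrivial := by
    by_contra hc
    rw [not_nontrivial_iff_subsingleton] at hc
    exact hH.1 (eq_top_iff.2 fun g _ => by simpa using QuotientGroup.eq.1 (Subsingleton.elim (QuotientGroup.mk 1 : G ⧸ H) (QuotientGroup.mk g)))
  exists_inv := (exists_orderOf_two_mem hH.2.1).imp fun _ h => h.2
  unique_fix t ht := by
    obtain ⟨g, hg⟩ := exists_fixed hH ht
    refine ⟨QuotientGroup.mk g, smul_coset_eq_iff.2 hg, fun y hy => ?_⟩
    obtain ⟨h, rfl⟩ := QuotientGroup.mk_surjective y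
    exact (QuotientGroup.eq.2 (stronglyEmbedded_fix hH ht hg (smul_coset_eq_iff.1 hy))).symm

end Cfsg.Agent.Invol.Bender
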