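import Mathlib

/-!
# The arithmetic of the exceptional configuration

The multiplicities, values on the cyclic group and at an involution of the constituents of the induced
character admit no solution.
-/

set_option autoImplicit false

namespace Cfsg.Agent.Invol.Bender.ExcArith

open Finset

variable {ι : Type*}

theorem two_pow_ge {l : ℕ} (hl : 5 ≤ l) : 2 * l * (l - 2) + 2 ≤ 2 ^ l := by
  induction l, hl using Nat.le_induction with
  | base => norm_num
  | succ n hn ih =>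
    obtain ⟨k, rfl⟩ : ∃ k, n = k + 5 := ⟨n - 5, by omega⟩
    rw [pow_succ]
    simp only [show k + 5 + 1 - 2 = k + 4 by omega, show k + 5 - 2 = k + 3 by omega] at ih ⊢
    nlinarith

/-- No exceptional family: `l = 3`, `m = 7`. -/
theorem false_three (T : Finset ι) (μ k : ι → ℕ) (c z : ι → ℤ) (hμ : ∀ x ∈ T, 1 ≤ μ x)
    (hk : ∀ x ∈ T, 1 ≤ k x) (hcol : ∑ x ∈ T, c x ^ 2 ≤ 6) (hpair : ∑ x ∈ T, (μ x : ℤ) * c x = -2)
    (hdeg : ∑ x ∈ T, μ x * k x = 6) (hnorm : ∑ x ∈ T, μ x ^ 2 = 3)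
    (hz : ∀ x ∈ T, 2 * (k x : ℤ) - c x = 7 * z x) : False := by
  classical
  have h1 : ∀ x ∈ T, μ x = 1 := fun x hx => by
    have h := single_le_sum (f := fun x => μ x ^ 2) (fun _ _ => Nat.zero_le _) hx
    rw [hnorm] at h
    have := hμ x hx
    rcases (show μ x = 1 ∨ 2 ≤ μ x by omega) with e | e
    · exact e
    · nlinarith
  have hc : ∀ x ∈ T, -2 ≤ c x ∧ c x ≤ 2 := fun x hx => by
    have h := single_le_sum (f := fun x => c x ^ 2) (fun y _ => sq_nonneg (c y)) hx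
    constructor <;> nlinarith
  have hn : T.card = 3 := by
    rw [← hnorm, card_eq_sum_ones]
    exact sum_congr rfl fun x hx => by rw [h1 x hx]; norm_num
  obtain ⟨p, q, r, hpq, hpr, hqr, rfl⟩ := card_eq_three.1 hn
  have hp : p ∈ ({p, q, r} : Finset ι) := by simp
  have hq : q ∈ ({p, q, r} : Finset ι) := by simp
  have hr : r ∈ ({p, q, r} : Finset ι) := by simp
  have hp' : p ∉ ({q, r} : Finset ι) := by simp [hpq, hpr]
  have hq' : q ∉ ({r} : Finset ι) := by simp [hqr]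
  simp only [sum_insert hp', sum_insert hq', sum_singleton, h1 p hp, h1 q hq, h1 r hr, one_mul,
    Nat.cast_one] at hpair hdeg
  have := hk p hp; have := hk q hq; have := hk r hr
  have := hz p hp; have := hz q hq; have := hz r hr
  have := hc p hp; have := hc q hq; have := hc r hr
  have hcase : ∀ x ∈ ({p, q, r} : Finset ι), (k x : ℤ) ≤ 4 →
      (k x = 1 ∧ c x = 2) ∨ (k x = 3 ∧ c x = -1) ∨ (k x = 4 ∧ c x = 1) := fun x hx h4 => by
    have := hk x hx; have := hz x hx; have := hc x hx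
    have : z x = 0 ∨ z x = 1 := by omega
    omega
  rcases hcase p hp (by omega) with h | h | h <;> rcases hcase q hq (by omega) with h' | h' | h' <;>
    rcases hcase r hr (by omega) with h'' | h'' | h'' <;> omega

theorem sum_sq_le (U : Finset ι) (μ k : ι → ℕ) (hk : ∀ x ∈ U, 1 ≤ k x) :
    ∑ x ∈ U, μ x ^ 2 ≤ (∑ x ∈ U, μ x * k x) ^ 2 := by
  rw [sq (∑ x ∈ U, μ x * k x), mul_sum]
  refine sum_le_sum fun x hx => ?_
  have h1 : μ x ≤ μ x * k x := Nat.le_mul_of_pos_right _ (hk x hx)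
  rw [sq]
  exact Nat.mul_le_mul (h1.trans (single_le_sum (f := fun y => μ y * k y) (fun _ _ => Nat.zero_le _) hx)) h1

set_option maxHeartbeats 2000000 in
/-- An exceptional family of `s` characters. -/
theorem false_family {l s : ℕ} (hl : 5 ≤ l) (hls : l ≤ s + 2) (hs : 2 ≤ s) (ε c0 z0 : ℤ)
    (hε : ε = 1 ∨ ε = -1) (μ0 k0 : ℕ)
    (T : Finset ι) (μ k : ι → ℕ) (c z : ι → ℤ) (hμ : ∀ x ∈ T, 1 ≤ μ x) (hk : ∀ x ∈ T, 1 ≤ k x)
    (hk0 : μ0 ≠ 0 → 1 ≤ k0)
    (hcol : ∑ x ∈ T, c x ^ 2 + ((s : ℤ) * c0 ^ 2 - 2 * ε * c0) ≤ 2 * l - 1)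
    (hpair : ∑ x ∈ T, (μ x : ℤ) * c x + μ0 * ((s : ℤ) * c0 - ε) = -2)
    (hdeg : ∑ x ∈ T, μ x * k x + μ0 * s * k0 = 2 * l * s)
    (hnorm : ∑ x ∈ T, μ x ^ 2 + μ0 ^ 2 * s = 2 * s + 1)
    (hz : ∀ x ∈ T, 2 * (k x : ℤ) - c x = (2 * l * s + 1 : ℕ) * z x)
    (hz0 : μ0 ≠ 0 → 2 * (k0 : ℤ) - c0 - 2 * ε * l = (2 * l * s + 1 : ℕ) * z0) : False := by
  classical
  obtain ⟨m, hm⟩ : ∃ m : ℤ, m = ((2 * l * s + 1 : ℕ) : ℤ) := ⟨_, rfl⟩
  rw [← hm] at hz hz0
  have hm' : m = 2 * l * s + 1 := by rw [hm]; push_cast; ring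
  have hm4 : 4 * (l : ℤ) + 1 ≤ m := by
    rw [hm']
    have h := mul_le_mul_of_nonneg_left (show (2 : ℤ) ≤ s by exact_mod_cast hs)
      (show (0 : ℤ) ≤ 2 * l by positivity)
    linarith
  have hE : 0 ≤ (s : ℤ) * c0 ^ 2 - 2 * ε * c0 := by
    rcases eq_or_ne c0 0 with rfl | h
    · simp
    · have h1 : (2 : ℤ) * c0 ^ 2 ≤ (s : ℤ) * c0 ^ 2 :=
        mul_le_mul_of_nonneg_right (by exact_mod_cast hs) (sq_nonneg c0)
      have h2 : c0 ≤ c0 ^ 2 := Int.le_self_sq c0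
      have h3 : -c0 ≤ c0 ^ 2 := by simpa using Int.le_self_sq (-c0)
      rcases hε with rfl | rfl <;> nlinarith
  have hcsum : ∑ x ∈ T, c x ^ 2 ≤ 2 * (l : ℤ) - 1 := by linarith
  have hc1 : ∀ x ∈ T, c x ^ 2 ≤ 2 * (l : ℤ) - 1 := fun x hx =>
    (single_le_sum (f := fun x => c x ^ 2) (fun y _ => sq_nonneg (c y)) hx).trans hcsum
  have hc2 : ∀ x ∈ T, c x ≤ 2 * (l : ℤ) - 1 ∧ -c x ≤ 2 * (l : ℤ) - 1 := fun x hx =>
    ⟨(Int.le_self_sq _).trans (hc1 x hx),
      (Int.le_self_sq (-c x)).trans (by simpa using hc1 x hx)⟩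
  have hz1 : ∀ x ∈ T, 0 ≤ z x := fun x hx => by
    by_contra h
    have h1 : m * z x ≤ m * (-1) := mul_le_mul_of_nonneg_left (by omega) (by linarith)
    have := hc2 x hx; have := hz x hx; have := hk x hx
    omega
  have hμ0 : μ0 ≤ 1 := by
    by_contra h
    have h1 : 2 ^ 2 * s ≤ μ0 ^ 2 * s := Nat.mul_le_mul_right _ (Nat.pow_le_pow_left (by omega) 2)
    omega
  have hdeg' : ∑ x ∈ T, (μ x : ℤ) * k x + μ0 * s * k0 = 2 * l * s := by exact_mod_cast hdeg
  have key : ∑ x ∈ T, (μ x : ℤ) * z x + μ0 * s * z0 = 2 - ε * μ0 := by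
    have h1 : m * ∑ x ∈ T, (μ x : ℤ) * z x =
        2 * ∑ x ∈ T, (μ x : ℤ) * k x - ∑ x ∈ T, (μ x : ℤ) * c x := by
      rw [mul_sum, mul_sum, ← sum_sub_distrib]
      exact sum_congr rfl fun x hx => by linear_combination (-(μ x : ℤ)) * hz x hx
    have h2 : (μ0 : ℤ) * (2 * (k0 : ℤ) - c0 - 2 * ε * l - m * z0) = 0 := by
      rcases eq_or_ne μ0 0 with e | e
      · simp [e]
      · rw [hz0 e]; ring
    refine mul_left_cancel₀ (show m ≠ 0 by linarith) ?_
    rw [hm'] at h1 h2 ⊢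
    linear_combination h1 - (s : ℤ) * h2 + 2 * hdeg' - hpair
  -- the constituents with `z = 0`
  set T1 := T.filter (fun x => z x ≠ 0) with hT1
  set T0 := T.filter (fun x => ¬ z x ≠ 0) with hT0
  have hc0' : ∀ x ∈ T0, c x = 2 * (k x : ℤ) := fun x hx => by
    rw [hT0, mem_filter, not_not] at hx
    have h := hz x hx.1
    rw [hx.2, mul_zero] at h
    linarith
  set S := ∑ x ∈ T0, μ x * k x with hS
  have hsplit : ∀ f : ι → ℤ, ∑ x ∈ T, f x = ∑ x ∈ T1, f x + ∑ x ∈ T0, f x := fun f =>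
    (sum_filter_add_sum_filter_not T (fun x => z x ≠ 0) f).symm
  have hsplitN : ∀ f : ι → ℕ, ∑ x ∈ T, f x = ∑ x ∈ T1, f x + ∑ x ∈ T0, f x := fun f =>
    (sum_filter_add_sum_filter_not T (fun x => z x ≠ 0) f).symm
  have hS0 : ∑ x ∈ T0, (μ x : ℤ) * c x = 2 * (S : ℤ) := by
    rw [hS, Nat.cast_sum, mul_sum]
    exact sum_congr rfl fun x hx => by rw [hc0' x hx]; push_cast; ring
  have hN0 : ∑ x ∈ T0, μ x ^ 2 ≤ S ^ 2 := sum_sq_le T0 μ k fun x hx => hk x (mem_filter.1 hx).1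
  have hmem1 : ∀ x ∈ T1, x ∈ T ∧ (μ x : ℤ) ≤ μ x * z x := fun x hx => by
    obtain ⟨h, h'⟩ := mem_filter.1 hx
    exact ⟨h, le_mul_of_one_le_right (by positivity) (by have := hz1 x h; omega)⟩
  have hZ : ∑ x ∈ T1, (μ x : ℤ) ≤ ∑ x ∈ T, (μ x : ℤ) * z x :=
    (sum_le_sum fun x hx => (hmem1 x hx).2).trans
      (sum_le_sum_of_subset_of_nonneg (filter_subset _ _) fun x hx _ => by
        have := hz1 x hx; positivity)
  have hN1 : (∑ x ∈ T1, μ x ^ 2 : ℕ) ≤ (∑ x ∈ T1, μ x) ^ 2 :=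
    sum_sq_le T1 μ (fun _ => 1) (fun _ _ => le_rfl) |>.trans (le_of_eq (by simp))
  have hbig : ∀ {Z : ℕ} (_ : ∑ x ∈ T1, (μ x : ℤ) ≤ Z) {w : ℤ}
      (_ : ∑ x ∈ T1, (μ x : ℤ) * c x ≤ -w) {b : ℤ} (_ : 0 ≤ b) (_ : (Z : ℤ) * b < w),
      ∃ x ∈ T1, c x ≤ -(b + 1) := by
    intro Z hZ' w hw b hb hwb
    by_contra h
    push Not at h
    have h1 : ∑ x ∈ T1, (μ x : ℤ) * (-b) ≤ ∑ x ∈ T1, (μ x : ℤ) * c x :=
      sum_le_sum fun x hx => mul_le_mul_of_nonneg_left (by have := h x hx; omega) (by positivity)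
    rw [← sum_mul] at h1
    have h2 : (∑ x ∈ T1, (μ x : ℤ)) * b ≤ (Z : ℤ) * b := mul_le_mul_of_nonneg_right hZ' hb
    linarith
  rcases (show μ0 = 0 ∨ μ0 = 1 by omega) with rfl | rfl
  · -- the family is absent
    simp only [Nat.cast_zero, zero_mul, add_zero, mul_zero, sub_zero,
      zero_pow two_ne_zero] at key hnorm hpair
    rw [key] at hZ
    have hZn : ∑ x ∈ T1, μ x ≤ 2 := by exact_mod_cast hZ
    rw [hsplit, hS0] at hpair
    rw [hsplitN] at hnorm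
    have h4 : (∑ x ∈ T1, μ x) ^ 2 ≤ 4 := Nat.pow_le_pow_left hZn 2
    obtain ⟨x, hx, hxc⟩ := hbig (Z := 2) (by exact_mod_cast hZ) (w := 2 + 2 * (S : ℤ))
      (by linarith) (b := (S : ℤ)) (by positivity) (by push_cast; linarith)
    rcases Nat.eq_zero_or_pos S with hS' | hS'
    · have h5 : S ^ 2 = 0 := by rw [hS']; norm_num
      omega
    · have hT0ne : T0.Nonempty := nonempty_of_ne_empty fun e => by
        rw [hS, e, sum_empty] at hS'; omega
      obtain ⟨y, hy⟩ := hT0ne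
      have hy4 : (4 : ℤ) ≤ ∑ y ∈ T0, c y ^ 2 := by
        refine le_trans ?_ (single_le_sum (f := fun y => c y ^ 2) (fun y _ => sq_nonneg (c y)) hy)
        show (4 : ℤ) ≤ c y ^ 2
        rw [hc0' y hy]
        have : (1 : ℤ) ≤ k y := by exact_mod_cast hk y (mem_filter.1 hy).1
        nlinarith
      have hx2 : ((S : ℤ) + 1) ^ 2 ≤ ∑ x ∈ T1, c x ^ 2 := by
        refine le_trans ?_ (single_le_sum (f := fun x => c x ^ 2) (fun x _ => sq_nonneg (c x)) hx)
        nlinarith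
      have h5 := hsplit (fun x => c x ^ 2)
      have h6 : ((∑ x ∈ T1, μ x ^ 2 + ∑ x ∈ T0, μ x ^ 2 : ℕ) : ℤ) ≤ 4 + (S : ℤ) ^ 2 := by
        exact_mod_cast Nat.add_le_add (hN1.trans h4) hN0
      rw [hnorm] at h6
      push_cast at h6
      have : (l : ℤ) ≤ s + 2 := by exact_mod_cast hls
      nlinarith
  · -- the family is present
    simp only [Nat.cast_one, one_mul, mul_one, one_pow] at key hnorm hpair hdeg'
    have hk0' := hk0 one_ne_zero
    have hz0' := hz0 one_ne_zero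
    have hnn : 0 ≤ ∑ x ∈ T, (μ x : ℤ) * z x := sum_nonneg fun x hx => by
      have := hz1 x hx; positivity
    rcases hε with rfl | rfl
    · have hc0le : c0 ^ 2 ≤ 2 * (l : ℤ) - 1 + 2 * c0 - c0 ^ 2 := by
        have h1 : (2 : ℤ) * c0 ^ 2 ≤ (s : ℤ) * c0 ^ 2 :=
          mul_le_mul_of_nonneg_right (by exact_mod_cast hs) (sq_nonneg c0)
        have h2 : 0 ≤ ∑ x ∈ T, c x ^ 2 := sum_nonneg fun y _ => sq_nonneg (c y)
        linarith
      have hsq : c0 ^ 2 ≤ 2 * (l : ℤ) := by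
        have h0 := sq_nonneg (c0 - 1)
        have : (c0 - 1) ^ 2 = c0 ^ 2 - 2 * c0 + 1 := by ring
        linarith
      have hcc : -(2 * (l : ℤ)) ≤ c0 ∧ c0 ≤ 2 * (l : ℤ) := by
        have h0 := Int.le_self_sq c0
        have h1 := Int.le_self_sq (-c0)
        rw [neg_sq] at h1
        constructor <;> linarith
      have hz00 : z0 = 0 := by
        have h1 : 0 ≤ z0 := by
          by_contra h
          have h1 : m * z0 ≤ m * (-1) := mul_le_mul_of_nonneg_left (by omega) (by linarith)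
          omega
        by_contra h
        have h2 : (2 : ℤ) * 1 ≤ (s : ℤ) * z0 :=
          mul_le_mul (by exact_mod_cast hs) (by omega) (by norm_num) (by positivity)
        linarith
      rw [hz00, mul_zero] at hz0' key
      have hc0nn : 0 ≤ c0 := by
        by_contra h
        have h1 : c0 ≤ -2 := by omega
        have h2 : (4 : ℤ) ≤ c0 ^ 2 := by nlinarith
        have h3 : (s : ℤ) * 4 ≤ (s : ℤ) * c0 ^ 2 := mul_le_mul_of_nonneg_left h2 (by positivity)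
        have h4 : 0 ≤ ∑ x ∈ T, c x ^ 2 := sum_nonneg fun y _ => sq_nonneg (c y)
        have : (l : ℤ) ≤ s + 2 := by exact_mod_cast hls
        linarith
      have hw : 1 ≤ 1 + (s : ℤ) * c0 := le_add_of_nonneg_right (mul_nonneg (by positivity) hc0nn)
      rw [show ∑ x ∈ T, (μ x : ℤ) * z x = 1 by linarith] at hZ
      have hZn : ∑ x ∈ T1, μ x ≤ 1 := by exact_mod_cast hZ
      rw [hsplit, hS0] at hpair
      rw [hsplitN] at hnorm
      obtain ⟨x, hx, hxc⟩ := hbig (Z := 1) (by exact_mod_cast hZ) (w := 2 * (S : ℤ) + 1)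
        (by linarith) (b := 2 * (S : ℤ)) (by positivity) (by push_cast; linarith)
      have h1 : (2 * (S : ℤ) + 1) ^ 2 ≤ 2 * (l : ℤ) - 1 := by
        refine le_trans ?_ (hc1 x (hmem1 x hx).1)
        nlinarith
      have h4 : (∑ x ∈ T1, μ x) ^ 2 ≤ 1 := Nat.pow_le_pow_left hZn 2
      have h6 : ((s : ℕ) : ℤ) ≤ (S : ℤ) ^ 2 := by
        have : s ≤ S ^ 2 := by omega
        exact_mod_cast this
      have : (l : ℤ) ≤ s + 2 := by exact_mod_cast hls
      have : (5 : ℤ) ≤ l := by exact_mod_cast hl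
      nlinarith
    · have hcc : c0 ≤ 2 * (l : ℤ) := by
        have h1 : (2 : ℤ) * c0 ^ 2 ≤ (s : ℤ) * c0 ^ 2 :=
          mul_le_mul_of_nonneg_right (by exact_mod_cast hs) (sq_nonneg c0)
        have h2 : 0 ≤ ∑ x ∈ T, c x ^ 2 := sum_nonneg fun y _ => sq_nonneg (c y)
        have h0 := Int.le_self_sq c0
        have h3 := sq_nonneg (c0 + 1)
        have : (c0 + 1) ^ 2 = c0 ^ 2 + 2 * c0 + 1 := by ring
        linarith
      have hz01 : 1 ≤ z0 := by
        by_contra h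
        have h1 : m * z0 ≤ m * 0 := mul_le_mul_of_nonneg_left (by omega) (by linarith)
        omega
      have h2 : (s : ℤ) * 1 ≤ (s : ℤ) * z0 := mul_le_mul_of_nonneg_left hz01 (by positivity)
      have hs3 : s ≤ 3 := by
        have : (s : ℤ) ≤ 3 := by linarith
        exact_mod_cast this
      obtain rfl : s = 3 := by omega
      obtain rfl : l = 5 := by omega
      norm_num at key hm' hdeg' hnorm hcol hz0' hcc ⊢
      subst hm'
      obtain rfl : z0 = 1 := by omega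
      have h3 : 0 ≤ ∑ x ∈ T, c x ^ 2 := sum_nonneg fun y _ => sq_nonneg (c y)
      have hr : -3 < c0 ∧ c0 < 2 := by constructor <;> nlinarith
      have hT : T = ∅ := by
        by_contra h
        obtain ⟨x, hx⟩ := nonempty_of_ne_empty h
        have h4 : (1 : ℤ) ≤ (μ x : ℤ) * k x := by
          exact_mod_cast Nat.mul_pos (hμ x hx) (hk x hx)
        have h5 := single_le_sum (f := fun x => (μ x : ℤ) * k x) (fun y _ => by positivity) hx
        omega
      rw [hT] at hnorm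
      simp at hnorm

end Cfsg.Agent.Invol.Bender.ExcArith
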