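import Cfsg.Agent.Lib.Char.FrobTIAbelian

/-!
# Values and pairings of characters on an abelian trivial intersection subgroup

The irreducible characters which are not exceptional are constant on the nontrivial elements; the
exceptional ones differ from a common constant by a character of the normaliser.
-/

set_option autoImplicit false

namespace Cfsg.Agent.Invol.Bender.ExcTI

open scoped ComplexConjugate
open Cfsg Cfsg.Agent.Char Cfsg.Agent.Char.FrobTI Finset

universe u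

variable {X : Type u} [Group X] [Fintype X]

/-- The average of a character over a subgroup is a natural number. -/
theorem sum_subgroup {χ : X → ℂ} (hχ : IsCharacter X χ) (K : Subgroup X) [Fintype K] :
    ∃ a : ℕ, ∑ j : K, χ (j : X) = ((Nat.card K * a : ℕ) : ℂ) := by
  obtain ⟨a, ha⟩ := IsChar.classInner_nat (IsChar.res hχ K) (IsChar.one (G := K))
  refine ⟨a, ?_⟩
  simp only [classInner, map_one, mul_one] at ha
  rw [inv_mul_eq_iff_eq_mul₀ (Nat.cast_ne_zero.mpr Nat.card_pos.ne')] at ha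
  rw [Nat.cast_mul, ← ha]

/-- The data of coherence for the characters of `X` on the subgroup `K`. -/
structure Coh (K : Subgroup X) [Fintype K] (e : ℕ) where
  F : Finset (IrrCharacter X)
  s : ℕ
  ε : ℤ
  δ : ℕ
  c0 : ℤ
  c : IrrCharacter X → ℤ
  hε : ε = 1 ∨ ε = -1
  hs : e * s + 1 = Nat.card K
  hδ : (F = ∅ ∧ s = 1 ∧ δ = 0) ∨ (F.card = s ∧ 2 ≤ s ∧ δ = 1)
  trivial_notMem : ∀ χ : IrrCharacter X, (χ : X → ℂ) = (fun _ => 1) → χ ∉ F
  value : ∀ χ, χ ∉ F → ∀ j ∈ K, j ≠ 1 → (χ : X → ℂ) j = (c χ : ℂ)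
  sum_mem : ∀ χ, χ ∈ F → ∑ j : K, (χ : X → ℂ) (j : X) =
    (χ : X → ℂ) 1 + ((Nat.card K : ℂ) - 1) * (c0 : ℂ) - (ε : ℂ) * (e : ℂ)
  deg_eq : ∀ χ, χ ∈ F → ∀ ξ, ξ ∈ F → (χ : X → ℂ) 1 = (ξ : X → ℂ) 1
  column : ∀ T : Finset (IrrCharacter X), (∀ χ, χ ∈ T ↔ χ ∉ F) →
    ∑ χ ∈ T, c χ ^ 2 + (F.card : ℤ) * c0 ^ 2 - 2 * ε * δ * c0 = (e : ℤ) + 1 - δ
  pairing : ∀ Θ : X → ℂ, IsClassFunction X Θ → ∀ θ0 : ℂ, (∀ j ∈ K, j ≠ 1 → Θ j = θ0) →
    ∃ μ : ℂ, (∀ χ, χ ∈ F → classInner Θ (χ : X → ℂ) = μ) ∧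
      ∀ T : Finset (IrrCharacter X), (∀ χ, χ ∈ T ↔ χ ∉ F) →
        ∑ χ ∈ T, classInner Θ (χ : X → ℂ) * (c χ : ℂ) +
          μ * ((F.card : ℂ) * (c0 : ℂ) - (ε : ℂ) * (δ : ℂ)) = θ0

/-- The value on the nontrivial elements outside the exceptional characters gives the sum over `K`. -/
theorem Coh.sum_notMem {K : Subgroup X} [Fintype K] {e : ℕ} (C : Coh K e) {χ : IrrCharacter X} (h : χ ∉ C.F) :
    ∑ j : K, (χ : X → ℂ) (j : X) = (χ : X → ℂ) 1 + ((Nat.card K : ℂ) - 1) * (C.c χ : ℂ) := by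
  classical
  rw [← add_sum_erase _ _ (mem_univ (1 : K)), OneMemClass.coe_one,
    sum_congr rfl (fun (j : K) hj => C.value χ h (j : X) j.2 fun e => (mem_erase.1 hj).1 (Subtype.ext e)),
    sum_const, card_erase_of_mem (mem_univ _), card_univ, nsmul_eq_mul, ← Nat.card_eq_fintype_card,
    Nat.cast_sub Nat.card_pos]
  simp

variable (K : Subgroup X)

theorem exists_coh [Fintype K] {e : ℕ}
    (hTI : ∀ g : X, g ∉ Subgroup.normalizer (K : Set X) → ∀ k ∈ K, g * k * g⁻¹ ∈ K → k = 1)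
    (hlt : K < Subgroup.normalizer (K : Set X))
    (hC : ∀ k ∈ K, k ≠ 1 → Subgroup.centralizer ({k} : Set X) ≤ K)
    (hab : ∀ a ∈ K, ∀ b ∈ K, a * b = b * a) (hm : 1 < Nat.card K) (he : (KN K).index = e) :
    Nonempty (Coh K e) := by
  classical
  letI : Fintype ↥(Subgroup.normalizer (K : Set X)) := Fintype.ofFinite _
  have hfix := fix_of_centralizer K hC
  have hab' : ∀ a ∈ KN K, ∀ b ∈ KN K, a * b = b * a := fun a ha b hb =>
    Subtype.ext (hab _ ha _ hb)
  have he0 : (e : ℂ) ≠ 0 := he ▸ Nat.cast_ne_zero.mpr Subgroup.index_ne_zero_of_finite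
  have hdeg : ∀ ψ : Rel K, (ψ.1 : ↥(Subgroup.normalizer (K : Set X)) → ℂ) 1 = (e : ℂ) := fun ψ =>
    he ▸ degree_eq_index (KN K) hab' hfix ψ.1.2 ψ.2
  have hmN : Nat.card (KN K) = Nat.card K :=
    Nat.card_congr (Subgroup.subgroupOfEquivOfLe Subgroup.le_normalizer).toEquiv
  have hNT : ∀ F : IrrCharacter ↥(Subgroup.normalizer (K : Set X)) → ℂ,
      ∑ ψ ∈ univ.filter (fun ψ : IrrCharacter ↥(Subgroup.normalizer (K : Set X)) =>
        NonTriv (KN K) (ψ : ↥(Subgroup.normalizer (K : Set X)) → ℂ)), F ψ = ∑ ψ : Rel K, F ψ.1 :=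
    fun F => sum_subtype _ (fun ψ => by simp only [mem_filter, mem_univ, true_and]; exact Iff.rfl) F
  -- the number of exceptional characters
  have hcard : e * Fintype.card (Rel K) + 1 = Nat.card K := by
    have h := sum_sq_nonTriv (KN K)
    rw [hNT (fun ψ => (ψ : ↥(Subgroup.normalizer (K : Set X)) → ℂ) 1 * (ψ : ↥(Subgroup.normalizer (K : Set X)) → ℂ) 1),
      sum_congr rfl (fun ψ _ => by rw [hdeg ψ]), sum_const, card_univ, nsmul_eq_mul,
      ← (KN K).card_mul_index, he, hmN, Nat.cast_mul] at h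
    have h1 : ((e : ℂ) * (Fintype.card (Rel K) : ℂ) + 1) * (e : ℂ) = (Nat.card K : ℂ) * (e : ℂ) := by
      linear_combination h
    exact_mod_cast mul_right_cancel₀ he0 h1
  have hval1 : ∀ (ψ : IrrCharacter ↥(Subgroup.normalizer (K : Set X))),
      ¬ NonTriv (KN K) (ψ : ↥(Subgroup.normalizer (K : Set X)) → ℂ) → ∀ k ∈ KN K,
      (ψ : ↥(Subgroup.normalizer (K : Set X)) → ℂ) k = (ψ : ↥(Subgroup.normalizer (K : Set X)) → ℂ) 1 := by
    intro ψ hψ k hk
    simp only [NonTriv, not_exists, not_and, not_not] at hψ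
    exact hψ k hk
  have hS1 : ∀ k ∈ KN K, k ≠ 1 →
      ∑ ψ : Rel K, (ψ.1 : ↥(Subgroup.normalizer (K : Set X)) → ℂ) k = -1 := by
    intro k hk hk1
    have h := regular_expansion (G := ↥(Subgroup.normalizer (K : Set X))) k
    rw [if_neg hk1, ← sum_filter_add_sum_filter_not univ
      (fun ψ : IrrCharacter ↥(Subgroup.normalizer (K : Set X)) =>
        NonTriv (KN K) (ψ : ↥(Subgroup.normalizer (K : Set X)) → ℂ)),
      hNT (fun ψ => (ψ : ↥(Subgroup.normalizer (K : Set X)) → ℂ) 1 * (ψ : ↥(Subgroup.normalizer (K : Set X)) → ℂ) k),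
      sum_congr rfl (s₁ := univ.filter _) (fun ψ hψ => by rw [hval1 ψ (mem_filter.1 hψ).2 k hk]),
      sum_sq_triv (KN K), he, sum_congr rfl (fun ψ _ => by rw [hdeg ψ]), ← mul_sum] at h
    refine mul_left_cancel₀ he0 ?_
    linear_combination h
  have hS2 : ∀ k ∈ KN K, k ≠ 1 →
      ∑ ψ : Rel K, (ψ.1 : ↥(Subgroup.normalizer (K : Set X)) → ℂ) k *
        conj ((ψ.1 : ↥(Subgroup.normalizer (K : Set X)) → ℂ) k) = (Nat.card K : ℂ) - (e : ℂ) := by
    intro k hk hk1
    have h := sum_irr_mul_conj (G := ↥(Subgroup.normalizer (K : Set X))) k k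
    have hc : Subgroup.centralizer ({k} : Set ↥(Subgroup.normalizer (K : Set X))) = KN K := by
      ext x
      rw [Subgroup.mem_centralizer_singleton_iff]
      exact ⟨fun hx => hfix k hk hk1 x hx, fun hx => hab' x hx k hk⟩
    rw [if_pos (IsConj.refl k), hc, hmN, ← sum_filter_add_sum_filter_not univ
      (fun ψ : IrrCharacter ↥(Subgroup.normalizer (K : Set X)) =>
        NonTriv (KN K) (ψ : ↥(Subgroup.normalizer (K : Set X)) → ℂ)),
      hNT (fun ψ => (ψ : ↥(Subgroup.normalizer (K : Set X)) → ℂ) k * conj ((ψ : ↥(Subgroup.normalizer (K : Set X)) → ℂ) k)),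
      sum_congr rfl (s₁ := univ.filter _) (fun ψ hψ => by
        rw [hval1 ψ (mem_filter.1 hψ).2 k hk,
          show conj ((ψ : ↥(Subgroup.normalizer (K : Set X)) → ℂ) 1) = (ψ : ↥(Subgroup.normalizer (K : Set X)) → ℂ) 1 by
            obtain ⟨n, -, hn⟩ := IsIrr.one_eq_pos ψ.2
            rw [hn, map_natCast]]),
      sum_sq_triv (KN K), he] at h
    linear_combination h
  have hS0 : ∀ ψ : Rel K, ∑ j : K, (ψ.1 : ↥(Subgroup.normalizer (K : Set X)) → ℂ)
      ⟨(j : X), Subgroup.le_normalizer j.2⟩ = 0 := by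
    intro ψ
    have h := congrFun (avg_of_nonTriv (KN K) ψ.1.2 ψ.2) 1
    simp only [avgN, mul_one, Pi.zero_apply] at h
    rw [← (mul_eq_zero.1 h).resolve_left (inv_ne_zero (Nat.cast_ne_zero.mpr Nat.card_pos.ne'))]
    exact Fintype.sum_equiv (Subgroup.subgroupOfEquivOfLe Subgroup.le_normalizer).symm.toEquiv _ _
      fun j => rfl
  -- the restriction to the normaliser
  have hA : ∀ (χ : IrrCharacter X) (ψ : IrrCharacter ↥(Subgroup.normalizer (K : Set X))), ∃ n : ℕ,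
      classInner (fun x : ↥(Subgroup.normalizer (K : Set X)) => (χ : X → ℂ) x)
        (ψ : ↥(Subgroup.normalizer (K : Set X)) → ℂ) = n := fun χ ψ =>
    IsChar.classInner_nat (IsChar.res (IsIrr.isCharacter χ.2) _) (IsIrr.isCharacter ψ.2)
  choose A hA using hA
  choose D hD0 hD using fun ψ : IrrCharacter ↥(Subgroup.normalizer (K : Set X)) => IsIrr.one_eq_pos ψ.2
  let T : IrrCharacter X → ℕ := fun χ => ∑ ψ ∈ univ.filter
    (fun ψ : IrrCharacter ↥(Subgroup.normalizer (K : Set X)) =>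
      ¬ NonTriv (KN K) (ψ : ↥(Subgroup.normalizer (K : Set X)) → ℂ)), A χ ψ * D ψ
  have hres : ∀ (χ : IrrCharacter X) (k : ↥(Subgroup.normalizer (K : Set X))), k ∈ KN K →
      (χ : X → ℂ) k = (T χ : ℂ) +
        ∑ ψ : Rel K, (A χ ψ.1 : ℂ) * (ψ.1 : ↥(Subgroup.normalizer (K : Set X)) → ℂ) k := by
    intro χ k hk
    have h := congrFun (classFunction_expansion
      (IsChar.classFun (IsChar.res (IsIrr.isCharacter χ.2) (Subgroup.normalizer (K : Set X))))) k
    rw [sum_irr_apply, ← sum_filter_add_sum_filter_not univ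
      (fun ψ : IrrCharacter ↥(Subgroup.normalizer (K : Set X)) =>
        NonTriv (KN K) (ψ : ↥(Subgroup.normalizer (K : Set X)) → ℂ)), hNT] at h
    simp only [hA] at h
    rw [h, add_comm]
    congr 1
    rw [Nat.cast_sum]
    exact sum_congr rfl fun ψ hψ => by rw [hval1 ψ (mem_filter.1 hψ).2 k hk, hD, Nat.cast_mul]
  have hjN : ∀ j ∈ K, j ≠ 1 → ∃ k : ↥(Subgroup.normalizer (K : Set X)), k ∈ KN K ∧ k ≠ 1 ∧ (k : X) = j :=
    fun j hj hj1 => ⟨⟨j, Subgroup.le_normalizer hj⟩, hj, fun h => hj1 (congrArg Subtype.val h), rfl⟩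
  have hcol : ∀ j ∈ K, j ≠ 1 →
      ∑ χ : IrrCharacter X, (χ : X → ℂ) j * conj ((χ : X → ℂ) j) = (Nat.card K : ℂ) := by
    intro j hj hj1
    have hc : Subgroup.centralizer ({j} : Set X) = K := le_antisymm (hC j hj hj1) fun x hx =>
      Subgroup.mem_centralizer_singleton_iff.mpr (hab x hx j hj)
    rw [sum_irr_mul_conj, if_pos (IsConj.refl j), hc]
  obtain ⟨j₀, hj₀, hj₀1⟩ : ∃ j ∈ K, j ≠ 1 := (Subgroup.one_lt_card_iff_ne_bot K).1 hm |>
    (Subgroup.bot_or_exists_ne_one K).resolve_left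
  have hne : Nonempty (Rel K) := by
    rw [← Fintype.card_pos_iff]
    refine Nat.pos_of_ne_zero fun h => ?_
    rw [h, mul_zero] at hcard
    omega
  obtain ⟨ψs⟩ := hne
  by_cases hone : Fintype.card (Rel K) = 1
  · -- a single exceptional character
    haveI := (Fintype.card_le_one_iff_subsingleton (α := Rel K)).1 (le_of_eq hone)
    haveI : Unique (Rel K) := uniqueOfSubsingleton ψs
    have hv : ∀ (χ : IrrCharacter X), ∀ j ∈ K, j ≠ 1 → (χ : X → ℂ) j = (((T χ : ℤ) - A χ ψs.1 : ℤ) : ℂ) := by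
      intro χ j hj hj1
      obtain ⟨k, hk, hk1, rfl⟩ := hjN j hj hj1
      have h1 := hS1 k hk hk1
      rw [Fintype.sum_unique, Subsingleton.elim (default : Rel K) ψs] at h1
      rw [hres χ k hk, Fintype.sum_unique, Subsingleton.elim (default : Rel K) ψs, h1]
      push_cast
      ring
    refine ⟨{ F := ∅, s := 1, ε := 1, δ := 0, c0 := 0, c := fun χ => (T χ : ℤ) - A χ ψs.1,
              hε := Or.inl rfl, hs := hone ▸ hcard, hδ := Or.inl ⟨rfl, rfl, rfl⟩,
              trivial_notMem := fun χ _ => notMem_empty χ, value := fun χ _ => hv χ,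
              sum_mem := fun χ h => absurd h (notMem_empty χ),
              deg_eq := fun χ h => absurd h (notMem_empty χ),
              column := fun U hU => ?_, pairing := fun Θ hΘ θ0 h0 => ⟨0, fun χ h => absurd h (notMem_empty χ),
                fun U hU => ?_⟩ }⟩
    · obtain rfl : U = univ := eq_univ_of_forall fun χ => (hU χ).2 (notMem_empty χ)
      have h := hcol j₀ hj₀ hj₀1
      rw [sum_congr rfl (fun χ _ => by rw [hv χ j₀ hj₀ hj₀1, map_intCast])] at h
      rw [← hcard, hone] at h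
      simp only [mul_one] at h
      push_cast
      have h' : ∑ χ : IrrCharacter X, ((T χ : ℤ) - A χ ψs.1) ^ 2 = (e : ℤ) + 1 := by
        apply Int.cast_injective (α := ℂ)
        push_cast at h ⊢
        rw [← h]
        exact sum_congr rfl fun χ _ => sq _
      rw [h']
      simp
    · obtain rfl : U = univ := eq_univ_of_forall fun χ => (hU χ).2 (notMem_empty χ)
      rw [zero_mul, add_zero, ← h0 j₀ hj₀ hj₀1]
      conv_rhs => rw [classFunction_expansion hΘ, sum_irr_apply]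
      exact sum_congr rfl fun χ _ => by rw [hv χ j₀ hj₀ hj₀1]
  · obtain ⟨h, -⟩ | ⟨ε, f, hε, hf, hind⟩ := brauer_suzuki K hTI hlt hC hab
    · exact absurd (Nat.card_eq_fintype_card.symm.trans h) hone
    obtain ⟨εz, hεz, hεc⟩ : ∃ εz : ℤ, (εz = 1 ∨ εz = -1) ∧ (εz : ℂ) = ε := by
      rcases hε with rfl | rfl
      · exact ⟨1, Or.inl rfl, by norm_num⟩
      · exact ⟨-1, Or.inr rfl, by norm_num⟩
    have hεε : (εz : ℂ) * εz = 1 := by rcases hεz with rfl | rfl <;> norm_num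
    have hconjε : conj ε = ε := by rw [← hεc, map_intCast]
    have hdiff : ∀ (χ : IrrCharacter X) (ψ ξ : Rel K), (A χ ψ.1 : ℂ) - (A χ ξ.1 : ℂ) =
        ε * ((if χ = f ψ then 1 else 0) - (if χ = f ξ then 1 else 0)) := by
      intro χ ψ ξ
      rw [← hA, ← hA, ← classInner_sub_right,
        ← classInner_indFun_right (Subgroup.normalizer (K : Set X))
          ((ψ.1 : ↥(Subgroup.normalizer (K : Set X)) → ℂ) - ξ.1) (IsIrr.classFun χ.2), hind,
        classInner_smul_right, classInner_sub_right, classInner_irr_eq_ite χ.2 (f ψ).2,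
        classInner_irr_eq_ite χ.2 (f ξ).2, hconjε]
      simp only [Subtype.coe_inj]
    let b : IrrCharacter X → ℤ := fun χ => (A χ ψs.1 : ℤ) - if χ = f ψs then εz else 0
    let c : IrrCharacter X → ℤ := fun χ => (T χ : ℤ) - b χ
    have hAb : ∀ (χ : IrrCharacter X) (ψ : Rel K),
        (A χ ψ.1 : ℂ) = (b χ : ℂ) + ε * (if χ = f ψ then 1 else 0) := by
      intro χ ψ
      have h := hdiff χ ψ ψs
      simp only [b]
      split_ifs at h ⊢ <;> push_cast <;> rw [← hεc] at h ⊢ <;> linear_combination h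
    have hv : ∀ (χ : IrrCharacter X) (k : ↥(Subgroup.normalizer (K : Set X))), k ∈ KN K → k ≠ 1 →
        (χ : X → ℂ) k = (c χ : ℂ) + ε * ∑ ψ : Rel K, (if χ = f ψ then 1 else 0) *
          (ψ.1 : ↥(Subgroup.normalizer (K : Set X)) → ℂ) k := by
      intro χ k hk hk1
      rw [hres χ k hk, sum_congr rfl (fun ψ _ => by rw [hAb χ ψ, add_mul, mul_assoc]),
        sum_add_distrib, ← mul_sum, hS1 k hk hk1, ← mul_sum]
      simp only [c]
      push_cast
      ring
    have hv1 : ∀ (ψ : Rel K) (k : ↥(Subgroup.normalizer (K : Set X))), k ∈ KN K → k ≠ 1 →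
        (f ψ : X → ℂ) k = (c (f ψ) : ℂ) + ε * (ψ.1 : ↥(Subgroup.normalizer (K : Set X)) → ℂ) k := by
      intro ψ k hk hk1
      rw [hv _ k hk hk1, sum_eq_single ψ (fun x _ hx => by rw [if_neg fun h => hx (hf h).symm, zero_mul])
        (fun h => absurd (mem_univ _) h), if_pos rfl, one_mul]
    have hres_ind : ∀ (ψ ξ : Rel K) (k : ↥(Subgroup.normalizer (K : Set X))),
        ε * ((f ψ : X → ℂ) k - (f ξ : X → ℂ) k) =
          (ψ.1 : ↥(Subgroup.normalizer (K : Set X)) → ℂ) k - (ξ.1 : ↥(Subgroup.normalizer (K : Set X)) → ℂ) k := by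
      intro ψ ξ k
      have h := res_ind K hC hTI hlt
        (α := (ψ.1 : ↥(Subgroup.normalizer (K : Set X)) → ℂ) - ξ.1)
        (classFunction_sub (IsIrr.classFun ψ.1.2) (IsIrr.classFun ξ.1.2))
        (fun x hx => by rw [Pi.sub_apply, vanish (KN K) hfix ψ.1.2 ψ.2 hx, vanish (KN K) hfix ξ.1.2 ξ.2 hx, sub_self])
        (by rw [Pi.sub_apply, hdeg, hdeg, sub_self]) k
      rw [hind] at h
      simpa using h
    obtain ⟨k₀, hk₀, hk₀1, hk₀j⟩ := hjN j₀ hj₀ hj₀1
    have hc0 : ∀ ψ : Rel K, c (f ψ) = c (f ψs) := by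
      intro ψ
      have h := hres_ind ψ ψs k₀
      rw [hv1 ψ k₀ hk₀ hk₀1, hv1 ψs k₀ hk₀ hk₀1, ← hεc] at h
      apply Int.cast_injective (α := ℂ)
      linear_combination (εz : ℂ) * h - ((c (f ψ) : ℂ) - (c (f ψs) : ℂ)
        + (εz : ℂ) * ((ψ.1 : ↥(Subgroup.normalizer (K : Set X)) → ℂ) k₀ - (ψs.1 : ↥(Subgroup.normalizer (K : Set X)) → ℂ) k₀)) * hεε
    have hs2 : 2 ≤ Fintype.card (Rel K) := by
      have : 0 < Fintype.card (Rel K) := Fintype.card_pos_iff.2 ⟨ψs⟩
      omega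
    have hmemF : ∀ χ : IrrCharacter X, χ ∈ univ.map ⟨f, hf⟩ ↔ ∃ ψ, f ψ = χ := fun χ => by simp
    have hsplit : ∀ (U : Finset (IrrCharacter X)), (∀ χ, χ ∈ U ↔ χ ∉ univ.map ⟨f, hf⟩) →
        ∀ g : IrrCharacter X → ℂ, ∑ χ, g χ = ∑ χ ∈ U, g χ + ∑ ψ : Rel K, g (f ψ) := by
      intro U hU g
      rw [show U = univ \ univ.map ⟨f, hf⟩ by ext χ; simp [hU],
        ← sum_sdiff (subset_univ (univ.map ⟨f, hf⟩)), sum_map]
      rfl
    have hvn : ∀ χ, χ ∉ univ.map ⟨f, hf⟩ → ∀ j ∈ K, j ≠ 1 → (χ : X → ℂ) j = (c χ : ℂ) := by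
      intro χ hχ j hj hj1
      obtain ⟨k, hk, hk1, rfl⟩ := hjN j hj hj1
      rw [hv χ k hk hk1, sum_eq_zero fun ψ _ => by
        rw [if_neg fun h => hχ ((hmemF χ).2 ⟨ψ, h.symm⟩), zero_mul], mul_zero, add_zero]
    refine ⟨{ F := univ.map ⟨f, hf⟩, s := Fintype.card (Rel K), ε := εz, δ := 1, c0 := c (f ψs), c := c,
              hε := hεz, hs := hcard, hδ := Or.inr ⟨by rw [card_map, card_univ], hs2, rfl⟩,
              trivial_notMem := ?_, value := hvn, sum_mem := ?_, deg_eq := ?_, column := ?_, pairing := ?_ }⟩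
    · intro χ hχ hmem
      obtain ⟨ψ, rfl⟩ := (hmemF χ).1 hmem
      obtain ⟨ξ, hξ⟩ : ∃ ξ : Rel K, ξ ≠ ψ := Fintype.exists_ne_of_one_lt_card hs2 ψ
      have h0 : ∀ ξ : Rel K, (A (f ψ) ξ.1 : ℂ) = 0 := fun ξ => by
        rw [← hA, hχ]
        refine classInner_irr_ne isIrr_one ξ.1.2 fun e1 => ?_
        obtain ⟨k, -, hk⟩ := ξ.2
        exact hk (by rw [← e1])
      have h := hdiff (f ψ) ψ ξ
      rw [h0, h0, if_pos rfl, if_neg (fun h => hξ (hf h).symm), sub_zero, sub_zero, mul_one, ← hεc] at h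
      rw [← h] at hεε
      simp at hεε
    · intro χ hmem
      obtain ⟨ψ, rfl⟩ := (hmemF χ).1 hmem
      have h := hS0 ψ
      rw [← add_sum_erase _ _ (mem_univ (1 : K))] at h ⊢
      rw [OneMemClass.coe_one, sum_congr rfl (g := fun j : K => (c (f ψs) : ℂ) + ε *
        (ψ.1 : ↥(Subgroup.normalizer (K : Set X)) → ℂ) ⟨(j : X), Subgroup.le_normalizer j.2⟩) (fun j hj => by
          rw [← hc0 ψ]
          exact hv1 ψ ⟨(j : X), Subgroup.le_normalizer j.2⟩ j.2 fun h =>
            (mem_erase.1 hj).1 (Subtype.ext (congrArg Subtype.val h :))),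
        sum_add_distrib, ← mul_sum, sum_const, card_erase_of_mem (mem_univ _), card_univ, nsmul_eq_mul,
        ← Nat.card_eq_fintype_card, Nat.cast_sub Nat.card_pos, hεc]
      have h1 : (ψ.1 : ↥(Subgroup.normalizer (K : Set X)) → ℂ)
          ⟨((1 : K) : X), Subgroup.le_normalizer (1 : K).2⟩ = (e : ℂ) := by
        rw [← hdeg ψ]; congr 1
      rw [h1] at h
      push_cast
      linear_combination ε * h
    · intro χ hmem ξ hmem'
      obtain ⟨ψ, rfl⟩ := (hmemF χ).1 hmem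
      obtain ⟨ψ', rfl⟩ := (hmemF ξ).1 hmem'
      have h := hres_ind ψ ψ' 1
      rw [hdeg, hdeg, sub_self, ← hεc] at h
      rw [OneMemClass.coe_one] at h
      linear_combination (εz : ℂ) * h - ((f ψ : X → ℂ) 1 - (f ψ' : X → ℂ) 1) * hεε
    · intro U hU
      have h := hcol j₀ hj₀ hj₀1
      rw [hsplit U hU] at h
      rw [sum_congr rfl (s₁ := U) (fun χ hχ => by rw [hvn χ ((hU χ).1 hχ) j₀ hj₀ hj₀1, map_intCast]),
        sum_congr rfl (s₁ := (univ : Finset (Rel K))) (fun ψ _ => by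
          rw [← hk₀j, hv1 ψ k₀ hk₀ hk₀1, hc0, map_add, map_mul, map_intCast, hconjε])] at h
      have hS1c : ∑ ψ : Rel K, conj ((ψ.1 : ↥(Subgroup.normalizer (K : Set X)) → ℂ) k₀) = -1 := by
        rw [← map_sum, hS1 k₀ hk₀ hk₀1, map_neg, map_one]
      have hexp : ∑ ψ : Rel K, ((c (f ψs) : ℂ) + ε * (ψ.1 : ↥(Subgroup.normalizer (K : Set X)) → ℂ) k₀) *
            ((c (f ψs) : ℂ) + ε * conj ((ψ.1 : ↥(Subgroup.normalizer (K : Set X)) → ℂ) k₀)) =
          (Fintype.card (Rel K) : ℂ) * ((c (f ψs) : ℂ) * (c (f ψs) : ℂ)) + ((c (f ψs) : ℂ) * ε) * (-1) +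
            ((c (f ψs) : ℂ) * ε) * (-1) + (εz : ℂ) * εz * ((Nat.card K : ℂ) - (e : ℂ)) := by
        conv_rhs =>
          arg 1; arg 1; arg 2; rw [← hS1 k₀ hk₀ hk₀1]
        conv_rhs =>
          arg 1; arg 2; rw [← hS1c]
        rw [← hS2 k₀ hk₀ hk₀1, hεc, mul_sum, mul_sum, mul_sum, ← card_univ, ← nsmul_eq_mul, ← sum_const,
          ← sum_add_distrib, ← sum_add_distrib, ← sum_add_distrib]
        exact sum_congr rfl fun ψ _ => by ring
      rw [hexp, hεε, one_mul, ← hεc] at h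
      rw [card_map, card_univ]
      apply Int.cast_injective (α := ℂ)
      push_cast
      rw [sum_congr rfl (fun χ _ => sq ((c χ : ℂ)))]
      linear_combination h
    · intro Θ hΘ θ0 h0
      have hμ : ∀ ψ : Rel K, classInner Θ (f ψ : X → ℂ) = classInner Θ (f ψs : X → ℂ) := by
        intro ψ
        have h1 : classInner Θ (indFun (Subgroup.normalizer (K : Set X))
            ((ψ.1 : ↥(Subgroup.normalizer (K : Set X)) → ℂ) - ψs.1)) = 0 := by
          rw [classInner_indFun_right _ _ hΘ, classInner]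
          refine mul_eq_zero_of_right _ ?_
          rw [sum_congr rfl (g := fun x => θ0 * conj (((ψ.1 : ↥(Subgroup.normalizer (K : Set X)) → ℂ) - ψs.1) x))
            (fun x _ => ?_)]
          · have hz : ∀ ξ : Rel K, ∑ x, conj ((ξ.1 : ↥(Subgroup.normalizer (K : Set X)) → ℂ) x) = 0 := by
              intro ξ
              have h := classInner_irr_ne isIrr_one ξ.1.2 fun e1 => by
                obtain ⟨k, -, hk⟩ := ξ.2
                exact hk (by rw [← e1])
              simp only [classInner, one_mul] at h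
              exact (mul_eq_zero.1 h).resolve_left (inv_ne_zero (Nat.cast_ne_zero.mpr Nat.card_pos.ne'))
            simp only [Pi.sub_apply, map_sub, mul_sub, sum_sub_distrib, ← mul_sum, hz, mul_zero, sub_zero]
          · by_cases hx : x ∈ KN K ∧ x ≠ 1
            · rw [h0 x hx.1 fun h => hx.2 (Subtype.ext h)]
            · have : ((ψ.1 : ↥(Subgroup.normalizer (K : Set X)) → ℂ) - ψs.1) x = 0 := by
                rw [Pi.sub_apply]
                rcases not_and_or.1 hx with hx | hx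
                · rw [vanish (KN K) hfix ψ.1.2 ψ.2 hx, vanish (KN K) hfix ψs.1.2 ψs.2 hx, sub_self]
                · rw [not_not.1 hx, hdeg, hdeg, sub_self]
              rw [this, map_zero, mul_zero, mul_zero]
        rw [hind, classInner_smul_right, classInner_sub_right, hconjε, ← hεc] at h1
        linear_combination (εz : ℂ) * h1 -
          (classInner Θ (f ψ : X → ℂ) - classInner Θ (f ψs : X → ℂ)) * hεε
      refine ⟨classInner Θ (f ψs : X → ℂ), fun χ hmem => ?_, fun U hU => ?_⟩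
      · obtain ⟨ψ, rfl⟩ := (hmemF χ).1 hmem
        exact hμ ψ
      · rw [← h0 j₀ hj₀ hj₀1]
        conv_rhs => rw [classFunction_expansion hΘ, sum_irr_apply, hsplit U hU]
        rw [sum_congr rfl (s₁ := (univ : Finset (Rel K))) (g := fun ψ => classInner Θ (f ψs : X → ℂ) *
          (c (f ψs) : ℂ) + classInner Θ (f ψs : X → ℂ) * ε * (ψ.1 : ↥(Subgroup.normalizer (K : Set X)) → ℂ) k₀)
          (fun ψ _ => by rw [hμ, ← hk₀j, hv1 ψ k₀ hk₀ hk₀1, hc0]; ring),
          sum_add_distrib, sum_const, card_univ, nsmul_eq_mul, ← mul_sum, hS1 k₀ hk₀ hk₀1, card_map, card_univ,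
          sum_congr rfl (s₁ := U) (g := fun χ => classInner Θ (χ : X → ℂ) * (χ : X → ℂ) j₀)
            (fun χ hχ => by rw [hvn χ ((hU χ).1 hχ) j₀ hj₀ hj₀1])]
        rw [hεc]
        push_cast
        ring

end Cfsg.Agent.Invol.Bender.ExcTI
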