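import Cfsg.Agent.Lib.Invol.Bender.ExcSetup
import Cfsg.Agent.Lib.Invol.Bender.ExcTI
import Cfsg.Agent.Lib.Char.TwoTransConstituent

/-!
# The exceptional configuration: the character of the action on the involutions at a point

`theta` is the permutation character of a point stabiliser on the involutions at the point, less one; the
induced function counts commuting involutions less fixed points.
-/

set_option autoImplicit false
set_option linter.unusedSectionVars false

namespace Cfsg.Agent.Invol.Bender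

open MulAction Subgroup Cfsg Cfsg.Agent.Char
open scoped ComplexConjugate

universe u v

variable (G : Type u) {Ω : Type v} [Group G] [MulAction G Ω]

/-- The involutions at `z` commuting with `g`. -/
noncomputable def cenAt (z : Ω) (g : G) : ℕ := Nat.card {s : G // s ∈ invAt G z ∧ Commute g s}

/-- The involutions commuting with `g`. -/
noncomputable def cenAll (g : G) : ℕ := Nat.card {s : G // orderOf s = 2 ∧ Commute g s}

/-- The permutation character on the involutions at `c`, less one. -/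
noncomputable def theta (c : Ω) : ↥(stabilizer G c) → ℂ := fun h => (cenAt G c (h : G) : ℂ) - 1

/-- The commuting involutions less the fixed points. -/
noncomputable def Theta (Ω : Type v) [MulAction G Ω] : G → ℂ :=
  fun g => (cenAll G g : ℂ) - (Nat.card (fixedBy Ω g) : ℂ)

variable {G}

theorem cenAt_one (z : Ω) : cenAt G z 1 = Nat.card ↥(invAt G z) :=
  Nat.card_congr (Equiv.subtypeEquivRight fun s => ⟨fun h => h.1, fun h => ⟨h, Commute.one_left s⟩⟩)

theorem cenAt_conj (z : Ω) (g h : G) : cenAt G (g • z) (g * h * g⁻¹) = cenAt G z h := by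
  refine (Nat.card_congr ((MulAut.conj g).toEquiv.subtypeEquiv fun s => ?_)).symm
  show (orderOf s = 2 ∧ s • z = z) ∧ Commute h s ↔
    (orderOf (g * s * g⁻¹) = 2 ∧ (g * s * g⁻¹) • (g • z) = g • z) ∧ Commute (g * h * g⁻¹) (g * s * g⁻¹)
  rw [orderOf_conj_eq, conj_smul_smul, smul_left_cancel_iff, commute_conj_iff]

section Hyp

variable [Finite G] (U : Hyp G Ω)
include U

theorem cenAt_eq_zero {z : Ω} {g : G} (hg : g • z ≠ z) : cenAt G z g = 0 := by
  haveI : IsEmpty {s : G // s ∈ invAt G z ∧ Commute g s} := ⟨fun s => hg (U.commute_fix s.2.1 s.2.2)⟩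
  exact Nat.card_of_isEmpty

theorem sum_cenAt [Fintype Ω] (g : G) : ∑ z : Ω, cenAt G z g = cenAll G g := by
  simp only [cenAt]
  rw [← Nat.card_sigma]
  refine Nat.card_congr (Equiv.ofBijective (fun p => (⟨p.2.1, p.2.2.1.1, p.2.2.2⟩ :
    {s : G // orderOf s = 2 ∧ Commute g s})) ⟨?_, fun s => ?_⟩)
  · rintro ⟨z, s, hs, hs'⟩ ⟨z', s', ht, ht'⟩ e
    obtain rfl : s = s' := congrArg Subtype.val e
    obtain rfl := U.fix_unique s hs.1 z z' hs.2 ht.2
    rfl
  · obtain ⟨z, hz⟩ := U.exists_fix s.1 s.2.1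
    exact ⟨⟨z, s.1, ⟨s.2.1, hz⟩, s.2.2⟩, rfl⟩

theorem sum_orbit [Fintype G] [Fintype Ω] (c : Ω) (φ : Ω → ℂ) :
    ∑ x : G, φ (x • c) = (Nat.card ↥(stabilizer G c) : ℂ) * ∑ z : Ω, φ z := by
  classical
  rw [← Finset.sum_fiberwise Finset.univ (fun x : G => x • c), Finset.mul_sum]
  refine Finset.sum_congr rfl fun z _ => ?_
  rw [Finset.sum_congr rfl (fun x hx => by rw [(Finset.mem_filter.1 hx).2]), Finset.sum_const, nsmul_eq_mul]
  congr 2
  obtain ⟨g, hg⟩ := U.exists_smul_eq c z
  rw [← Fintype.card_subtype, ← Nat.card_eq_fintype_card]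
  refine Nat.card_congr ((Equiv.mulLeft g⁻¹).subtypeEquiv fun x => ?_)
  rw [Equiv.coe_mulLeft, mem_stabilizer_iff, mul_smul, inv_smul_eq_iff, hg]

theorem indFun_theta [Fintype G] [Fintype Ω] (c : Ω) : indFun (stabilizer G c) (theta G c) = Theta G Ω := by
  classical
  funext g
  have hx : ∀ x : G, extendByZero (stabilizer G c) (theta G c) (x⁻¹ * g * x) =
      (cenAt G (x • c) g : ℂ) - if g • (x • c) = x • c then 1 else 0 := by
    intro x
    have hiff : x⁻¹ * g * x ∈ stabilizer G c ↔ g • (x • c) = x • c := by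
      rw [mem_stabilizer_iff, mul_smul, mul_smul, inv_smul_eq_iff]
    by_cases h : g • (x • c) = x • c
    · rw [if_pos h, extendByZero_of_mem _ (hiff.2 h), theta]
      simp only
      conv_rhs => rw [show g = x * (x⁻¹ * g * x) * x⁻¹ by group, cenAt_conj]
    · rw [if_neg h, extendByZero_not_mem _ fun h' => h (hiff.1 h'), cenAt_eq_zero U h, Nat.cast_zero,
        sub_zero]
  rw [indFun, Finset.sum_congr rfl fun x _ => hx x,
    sum_orbit U c (fun z => (cenAt G z g : ℂ) - if g • z = z then 1 else 0), ← mul_assoc,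
    inv_mul_cancel₀ (Nat.cast_ne_zero.mpr Nat.card_pos.ne'), one_mul, Finset.sum_sub_distrib,
    ← Nat.cast_sum, sum_cenAt U, Finset.sum_boole, Theta]
  congr 2
  rw [Nat.card_eq_fintype_card]
  exact (Fintype.card_of_subtype _ (by simp)).symm

end Hyp

namespace Exc

variable {c a : Ω} {v t σ : G} {J : Subgroup G} {l : ℕ} (E : Exc c a v t σ J l)
include E

variable [Finite G]

theorem cenAt_J {j : G} (hj : j ∈ J) (hj1 : j ≠ 1) : cenAt G c j = 0 := by
  haveI : IsEmpty {s : G // s ∈ invAt G c ∧ Commute j s} :=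
    ⟨fun s => hj1 (E.semiregular j hj s.1 s.2.1 s.2.2)⟩
  exact Nat.card_of_isEmpty

theorem cenAt_off {d : G} (hd : d ∈ pairStab G c a) (hdJ : d ∉ J) : cenAt G c d = 1 := by
  obtain ⟨k, hk, x, hx, hx1, rfl⟩ := E.conj_of_notMem hd hdJ
  conv_lhs => rw [← E.J_fix hk]
  rw [cenAt_conj]
  exact Nat.card_eq_one_iff_unique.2 ⟨⟨fun p q => Subtype.ext ((E.eq_t_of_commute hx hx1 p.2.1 p.2.2).trans
    (E.eq_t_of_commute hx hx1 q.2.1 q.2.2).symm)⟩, ⟨⟨t, E.inv_t, (E.σ_pow_comm hx).1⟩⟩⟩

theorem exists_conj_inv {s s' : G} (hs : s ∈ invAt G c) (hs' : s' ∈ invAt G c) :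
    ∃ g ∈ J, g * s * g⁻¹ = s' := by
  obtain ⟨j, hj, rfl⟩ := E.exists_conj hs
  obtain ⟨j', hj', rfl⟩ := E.exists_conj hs'
  exact ⟨j' * j⁻¹, J.mul_mem hj' (J.inv_mem hj), by group⟩

theorem theta_char [Fintype ↥(stabilizer G c)] :
    IsCharacter ↥(stabilizer G c) (theta G c) ∧ classInner (theta G c) (fun _ => (1 : ℂ)) = 0 := by
  classical
  haveI := Fintype.ofFinite ↥(invAt G c)
  letI : MulAction ↥(stabilizer G c) ↥(invAt G c) :=
    { smul := fun h s => ⟨(h : G) * s * (h : G)⁻¹, invAt_conj_of_fix h.2 s.2⟩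
      one_smul := fun s => Subtype.ext (by show (1 : G) * s * (1 : G)⁻¹ = s; group)
      mul_smul := fun g h s => Subtype.ext (by
        show (g : G) * h * s * ((g : G) * h)⁻¹ = g * ((h : G) * s * (h : G)⁻¹) * (g : G)⁻¹
        group) }
  have hpi : theta G c = Cfsg.Agent.Block.PermChar.piFun ↥(stabilizer G c) ↥(invAt G c) - fun _ => (1 : ℂ) := by
    funext h
    show (cenAt G c (h : G) : ℂ) - 1 = (Nat.card (fixedBy ↥(invAt G c) h) : ℂ) - 1
    congr 2
    refine Nat.card_congr
      { toFun := fun s => ⟨⟨s.1, s.2.1⟩, Subtype.ext (show (h : G) * s * (h : G)⁻¹ = s by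
          rw [s.2.2.eq, mul_inv_cancel_right])⟩
        invFun := fun s => ⟨s.1.1, s.1.2, show (h : G) * s.1.1 = s.1.1 * h from
          mul_inv_eq_iff_eq_mul.1 (congrArg Subtype.val s.2)⟩
        left_inv := fun s => rfl
        right_inv := fun s => rfl }
  have hpre : IsPretransitive ↥(stabilizer G c) ↥(invAt G c) := ⟨fun x y => by
    obtain ⟨g, hg, e⟩ := E.exists_conj_inv x.2 y.2
    exact ⟨⟨g, mem_stabilizer_iff.2 (E.J_fix hg)⟩, Subtype.ext e⟩⟩
  have h1 : classInner (theta G c) (fun _ => (1 : ℂ)) = 0 := by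
    rw [hpi, classInner_sub_left, classInner_self_irr isIrr_one]
    have h := mult_one (Ω := ↥(invAt G c)) hpre ⟨⟨t, E.inv_t⟩⟩
    rw [Cfsg.Agent.Block.PermChar.mult] at h
    rw [h, sub_self]
  refine ⟨isCharacter_of_classInner_nat ?_ fun χ hχ => ?_, h1⟩
  · rw [hpi]
    exact classFunction_sub (IsChar.classFun Cfsg.Agent.Block.PermChar.isCharacter_piFun)
      (IsIrr.classFun isIrr_one)
  · by_cases e : χ = fun _ => (1 : ℂ)
    · exact ⟨0, by rw [e, h1, Nat.cast_zero]⟩
    · obtain ⟨n, hn⟩ := IsChar.classInner_nat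
        (Cfsg.Agent.Block.PermChar.isCharacter_piFun (G := ↥(stabilizer G c)) (Ω := ↥(invAt G c)))
        (IsIrr.isCharacter hχ)
      exact ⟨n, by rw [hpi, classInner_sub_left, hn, classInner_irr_ne isIrr_one hχ (Ne.symm e), sub_zero]⟩

theorem card_stabilizer [Fintype Ω] :
    Nat.card ↥(stabilizer G c) = (Nat.card Ω - 1) * (l * Nat.card ↥(invAt G c)) := by
  classical
  haveI := Fintype.ofFinite G
  let H : Finset G := Finset.univ.filter (fun x : G => x • c = c)
  have h := Finset.card_eq_sum_card_fiberwise (f := fun x : G => x • a) (s := H)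
    (t := (Finset.univ : Finset Ω).erase c) (fun x hx => by
      simp only [Finset.coe_erase, Set.mem_diff, Finset.coe_univ, Set.mem_univ, Set.mem_singleton_iff, true_and]
      simp only [H, Finset.coe_filter, Finset.mem_univ, true_and, Set.mem_setOf_eq] at hx
      exact fun e => E.ne (smul_left_cancel x (hx.trans e.symm)))
  rw [Finset.sum_congr rfl fun z hz => ?_, Finset.sum_const, Finset.card_erase_of_mem (Finset.mem_univ _),
    Finset.card_univ, smul_eq_mul, ← Nat.card_eq_fintype_card] at h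
  · rw [← h, Nat.card_eq_fintype_card]
    exact Fintype.card_of_subtype H fun x => by simp [H]
  · rw [← E.card_D]
    obtain ⟨g, hgc, hga⟩ := E.two_trans c a c z E.ne (fun e => (Finset.mem_erase.1 hz).1 e.symm)
    simp only [H, Finset.filter_filter]
    rw [← Fintype.card_subtype, ← Nat.card_eq_fintype_card]
    refine Nat.card_congr ((Equiv.mulLeft g⁻¹).subtypeEquiv fun x => ?_)
    rw [Equiv.coe_mulLeft, mem_pair, mul_smul, mul_smul, inv_smul_eq_iff, inv_smul_eq_iff, hgc, hga]

theorem card_inv_all (z : Ω) : Nat.card ↥(invAt G z) = Nat.card ↥(invAt G c) := E.hyp.card_invAt z c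

theorem cenAll_of_inv {g : G} {z : Ω} (hg : g ∈ invAt G z) : cenAll G g = Nat.card ↥(invAt G c) := by
  rw [← E.card_inv_all z]
  refine Nat.card_congr (Equiv.subtypeEquivRight fun s => ⟨fun h => ⟨h.1, ?_⟩, fun h => ⟨h.1, E.comm z g hg s h⟩⟩)
  exact E.hyp.fix_of_commute hg.1 hg.2 h.2.symm

theorem cenAll_J {j : G} (hj : j ∈ J) (hj1 : j ≠ 1) : cenAll G j = 0 := by
  haveI : IsEmpty {s : G // orderOf s = 2 ∧ Commute j s} := ⟨fun s => by
    have h1 : (s : G) ∈ J := E.centralizer_le hj hj1 (mem_centralizer_singleton_iff.2 s.2.2.symm)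
    have h2 := E.odd_card_J.of_dvd_nat (s.2.1 ▸ Subgroup.orderOf_dvd_natCard J h1)
    exact absurd h2 (by decide)⟩
  exact Nat.card_of_isEmpty

theorem cenAll_one [Fintype Ω] : cenAll G 1 = Nat.card Ω * Nat.card ↥(invAt G c) := by
  rw [← sum_cenAt E.hyp, Finset.sum_congr rfl (fun z _ => by rw [cenAt_one, E.card_inv_all z]),
    Finset.sum_const, Finset.card_univ, smul_eq_mul, ← Nat.card_eq_fintype_card]

theorem card_fixedBy_J {j : G} (hj : j ∈ J) (hj1 : j ≠ 1) : Nat.card (fixedBy Ω j) = 2 := by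
  haveI := E.hyp.finite_points
  have e : fixedBy Ω j = {c, a} := Set.ext fun x => by
    simp only [mem_fixedBy, Set.mem_insert_iff, Set.mem_singleton_iff]
    refine ⟨E.fix_two j hj hj1 x, ?_⟩
    rintro (rfl | rfl)
    · exact (mem_pair.1 (E.le hj)).1
    · exact (mem_pair.1 (E.le hj)).2
  rw [e, Nat.card_coe_set_eq, Set.ncard_pair E.ne]

theorem Theta_one [Fintype Ω] :
    Theta G Ω (1 : G) = (Nat.card Ω : ℂ) * ((Nat.card ↥(invAt G c) : ℂ) - 1) := by
  rw [Theta, E.cenAll_one, fixedBy_one_eq_univ, Nat.card_univ]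
  push_cast
  ring

theorem Theta_inv {g : G} {z : Ω} (hg : g ∈ invAt G z) :
    Theta G Ω g = (Nat.card ↥(invAt G c) : ℂ) - 1 := by
  haveI := E.hyp.finite_points
  rw [Theta, E.cenAll_of_inv hg]
  congr 1
  have e : fixedBy Ω g = {z} := Set.ext fun x => by
    simp only [mem_fixedBy, Set.mem_singleton_iff]
    exact ⟨fun h => E.hyp.fix_eq hg h, fun h => h ▸ hg.2⟩
  rw [e, Nat.card_coe_set_eq, Set.ncard_singleton, Nat.cast_one]

theorem Theta_J {j : G} (hj : j ∈ J) (hj1 : j ≠ 1) : Theta G Ω j = -2 := by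
  rw [Theta, E.cenAll_J hj hj1, E.card_fixedBy_J hj hj1]
  norm_num

/-- The products of a fixed involution with all involutions. -/
theorem sum_Theta_mul [Fintype G] [Fintype Ω] {x : G} (hx : orderOf x = 2)
    [DecidablePred fun y : G => orderOf y = 2] :
    ∑ y ∈ Finset.univ.filter (fun y : G => orderOf y = 2), Theta G Ω (x * y) =
      (Nat.card ↥(invAt G c) : ℂ) * ((Nat.card ↥(invAt G c) : ℂ) - 1) := by
  classical
  obtain ⟨w, hw⟩ := E.hyp.exists_fix x hx
  have hxw : x ∈ invAt G w := ⟨hx, hw⟩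
  have hxx := mul_self_of_orderOf_two hx
  simp only [Theta, Finset.sum_sub_distrib]
  have hF : ∑ y ∈ Finset.univ.filter (fun y : G => orderOf y = 2), (Nat.card (fixedBy Ω (x * y)) : ℂ) =
      (Nat.card Ω : ℂ) * (Nat.card ↥(invAt G c) : ℂ) := by
    rw [← Nat.cast_sum, ← Nat.cast_mul]
    refine congrArg Nat.cast ?_
    have e : ∀ g : G, Nat.card (fixedBy Ω g) = ∑ z : Ω, if g • z = z then 1 else 0 := fun g => by
      rw [Finset.sum_boole, Nat.cast_id, Nat.card_eq_fintype_card]
      exact Fintype.card_of_subtype _ (by simp)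
    rw [Finset.sum_congr rfl (fun y _ => e _), Finset.sum_comm,
      Finset.sum_congr rfl (g := fun _ : Ω => Nat.card ↥(invAt G c)) (fun z _ => ?_),
      Finset.sum_const, Finset.card_univ, smul_eq_mul, Nat.card_eq_fintype_card (α := Ω)]
    rw [Finset.sum_boole, Nat.cast_id, Finset.filter_filter, ← Fintype.card_subtype, ← Nat.card_eq_fintype_card]
    have hS : Nat.card ↥(swapAt G z (x • z)) = Nat.card ↥(invAt G c) := by
      by_cases hz : z = x • z
      · rw [← hz]; exact E.card_inv_all z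
      · rw [E.hyp.card_swappers hz, E.card_inv_all z]
    rw [← hS]
    refine Nat.card_congr (Equiv.subtypeEquivRight fun y => and_congr_right fun _ => ?_)
    rw [mul_smul]
    constructor
    · intro h
      conv_rhs => rw [← h]
      rw [← mul_smul, hxx, one_smul]
    · intro h
      rw [h, ← mul_smul, hxx, one_smul]
  have hI : ∀ y : G, orderOf y = 2 → cenAll G (x * y) =
      if y = x then Nat.card Ω * Nat.card ↥(invAt G c) else if y • w = w then Nat.card ↥(invAt G c) else 0 := by
    intro y hy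
    by_cases hyx : y = x
    · rw [if_pos hyx, hyx, hxx, E.cenAll_one]
    rw [if_neg hyx]
    by_cases hyw : y • w = w
    · rw [if_pos hyw]
      obtain ⟨W, hW⟩ : ∃ W : Set G, W = invAt G w := ⟨_, rfl⟩
      refine E.cenAll_of_inv (z := w) ⟨orderOf_two_iff.2 ⟨?_, fun h => hyx ?_⟩, by rw [mul_smul, hyw, hw]⟩
      · rw [mul_assoc, ← mul_assoc y x y, ← (E.comm w x hxw y ⟨hy, hyw⟩).eq, mul_assoc x y y,
          mul_self_of_orderOf_two hy, mul_one, hxx]
      · exact ((eq_inv_of_mul_eq_one_left h).trans (inv_of_orderOf_two hy)).symm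
    rw [if_neg hyw]
    haveI : IsEmpty {s : G // orderOf s = 2 ∧ Commute (x * y) s} := ⟨fun s => by
      obtain ⟨z, hz⟩ := E.hyp.exists_fix s.1 s.2.1
      have hgz : (x * y) • z = z := E.hyp.fix_of_commute s.2.1 hz s.2.2
      have hzw : z ≠ w := fun e => hyw (by
        rw [e, mul_smul] at hgz
        exact smul_left_cancel x (hgz.trans hw.symm))
      have hgz' : (x * y) • (x • z) = x • z := by
        have h2 : y • z = x • z := by
          rw [mul_smul] at hgz
          conv_rhs => rw [← hgz]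
          rw [← mul_smul, hxx, one_smul]
        rw [mul_smul, ← h2, ← mul_smul y y, mul_self_of_orderOf_two hy, one_smul]
        exact h2.symm
      have hne : z ≠ x • z := fun e => hzw (E.hyp.fix_eq hxw e.symm)
      obtain ⟨g, hgc, hga⟩ := E.two_trans z (x • z) c a hne E.ne
      have hd : g * (x * y) * g⁻¹ ∈ pairStab G c a :=
        mem_pair.2 ⟨by rw [← hgc, conj_smul_smul, hgz], by rw [← hga, conj_smul_smul, hgz']⟩
      have hu : g * x * g⁻¹ ∈ swapAt G c a :=
        ⟨(orderOf_conj_eq g x).trans hx, by rw [← hgc, conj_smul_smul, hga]⟩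
      have hJ : g * (x * y) * g⁻¹ ∈ J := E.mem_of_inverted hu hd (by
        have e1 : g * x * g⁻¹ * (g * (x * y) * g⁻¹) * (g * x * g⁻¹)⁻¹ = g * ((x * x) * y * x⁻¹) * g⁻¹ := by group
        rw [e1, hxx, one_mul, conj_inv, mul_inv_rev, inv_of_orderOf_two hy])
      have hs : g * s.1 * g⁻¹ ∈ J := E.centralizer_le hJ
        (fun e => hyx ((eq_inv_of_mul_eq_one_right (conj_eq_one_iff.1 e)).trans (inv_of_orderOf_two hx)))
        (mem_centralizer_singleton_iff.2 ((commute_conj_iff g _ _).2 s.2.2).symm)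
      have h2 := E.odd_card_J.of_dvd_nat (((orderOf_conj_eq g s.1).trans s.2.1) ▸ Subgroup.orderOf_dvd_natCard J hs)
      exact absurd h2 (by decide)⟩
    exact Nat.card_of_isEmpty
  have hC : ∑ y ∈ Finset.univ.filter (fun y : G => orderOf y = 2), (cenAll G (x * y) : ℂ) =
      (Nat.card Ω : ℂ) * (Nat.card ↥(invAt G c) : ℂ) +
        ((Nat.card ↥(invAt G c) : ℂ) - 1) * (Nat.card ↥(invAt G c) : ℂ) := by
    have hxm : x ∈ Finset.univ.filter (fun y : G => orderOf y = 2) := by simp [hx]
    rw [← Finset.add_sum_erase _ _ hxm, hI x hx, if_pos rfl, Nat.cast_mul]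
    congr 1
    rw [Finset.sum_congr rfl (g := fun y : G => if y • w = w then (Nat.card ↥(invAt G c) : ℂ) else 0)
      (fun y hy => by
        obtain ⟨h1, h2⟩ := Finset.mem_erase.1 hy
        rw [hI y (Finset.mem_filter.1 h2).2, if_neg h1]
        split_ifs <;> simp), ← Finset.sum_filter, Finset.sum_const, nsmul_eq_mul]
    congr 1
    rw [Finset.filter_erase, Finset.card_erase_of_mem (by simp [hx, hw]), Finset.filter_filter,
      ← Fintype.card_subtype, ← Nat.card_eq_fintype_card]
    have : Nat.card {y : G // orderOf y = 2 ∧ y • w = w} = Nat.card ↥(invAt G c) := E.card_inv_all w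
    rw [this, Nat.cast_sub (by have := E.seven_le; omega), Nat.cast_one]
  rw [hC, hF]
  ring

/-- The number of points is two modulo the number of involutions at a point. -/
theorem points_mod [Fintype G] [Fintype Ω] [DecidableEq Ω] :
    ∃ q : ℤ, (Nat.card Ω : ℤ) - 2 = (Nat.card ↥(invAt G c) : ℤ) * q := by
  classical
  haveI := Fintype.ofFinite J
  obtain ⟨b, hb⟩ := ExcTI.sum_subgroup (Cfsg.Agent.Block.PermChar.isCharacter_piFun (G := G) (Ω := Ω)) J
  rw [← Finset.add_sum_erase _ _ (Finset.mem_univ (1 : J)), Finset.sum_congr rfl (g := fun _ : J => (2 : ℂ))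
    (fun j hj => by
      show (Nat.card (fixedBy Ω (j : G)) : ℂ) = 2
      rw [E.card_fixedBy_J j.2 fun e => (Finset.mem_erase.1 hj).1 (Subtype.ext e), Nat.cast_ofNat]),
    Finset.sum_const, Finset.card_erase_of_mem (Finset.mem_univ _), Finset.card_univ, nsmul_eq_mul,
    ← Nat.card_eq_fintype_card, E.card_J, Nat.cast_sub (by have := E.seven_le; omega)] at hb
  simp only [Cfsg.Agent.Block.PermChar.piFun, OneMemClass.coe_one, fixedBy_one_eq_univ, Nat.card_univ] at hb
  refine ⟨(b : ℤ) - 2, ?_⟩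
  apply Int.cast_injective (α := ℂ)
  push_cast at hb ⊢
  linear_combination hb

/-- The norm of the induced function. -/
theorem norm_Theta [Fintype G] [Fintype Ω] [Fintype ↥(stabilizer G c)] :
    classInner (Theta G Ω) (Theta G Ω) = classInner (theta G c) (theta G c) +
      ((Nat.card ↥(invAt G c) : ℂ) - 1) / (l : ℂ) := by
  classical
  have hcls : IsClassFunction G (Theta G Ω) := indFun_theta E.hyp c ▸ indFun_classFun _ _
  conv_lhs => arg 1; rw [← indFun_theta E.hyp c]
  rw [classInner_indFun _ _ hcls]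
  have hdec : (fun h : ↥(stabilizer G c) => Theta G Ω (h : G)) = theta G c +
      fun h : ↥(stabilizer G c) =>
        ∑ z ∈ Finset.univ.erase c, ((cenAt G z (h : G) : ℂ) - if (h : G) • z = z then 1 else 0) := by
    funext h
    have e := congrFun (indFun_theta E.hyp c) (h : G)
    show Theta G Ω (h : G) = theta G c h + _
    rw [theta, Theta, ← sum_cenAt E.hyp, Nat.cast_sum]
    simp only [Finset.sum_sub_distrib]
    rw [← Finset.add_sum_erase _ (fun z => (cenAt G z (h : G) : ℂ)) (Finset.mem_univ c),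
      show (Nat.card (fixedBy Ω (h : G)) : ℂ) = ∑ z : Ω, if (h : G) • z = z then (1 : ℂ) else 0 by
        rw [Finset.sum_boole, Nat.card_eq_fintype_card]
        exact congrArg Nat.cast (Fintype.card_of_subtype _ (by simp)),
      ← Finset.add_sum_erase _ (fun z => if (h : G) • z = z then (1 : ℂ) else 0) (Finset.mem_univ c),
      if_pos (mem_stabilizer_iff.1 h.2)]
    ring
  rw [hdec, classInner_add_right]
  congr 1
  simp only [classInner, map_sum, map_sub, map_natCast, apply_ite (starRingEnd ℂ), map_one, map_zero, Finset.mul_sum]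
  rw [Finset.sum_comm]
  have hterm : ∀ z ∈ Finset.univ.erase c,
      ∑ h : ↥(stabilizer G c), theta G c h * ((cenAt G z (h : G) : ℂ) - if (h : G) • z = z then 1 else 0) =
      ((Nat.card ↥(invAt G c) : ℂ) - 1) * (Nat.card ↥(invAt G c) : ℂ) := by
    intro z hz
    obtain ⟨g, hgc, hga⟩ := E.two_trans c a c z E.ne (fun e => (Finset.mem_erase.1 hz).1 e.symm)
    have h1 : ∑ h : ↥(stabilizer G c), theta G c h * ((cenAt G z (h : G) : ℂ) - if (h : G) • z = z then 1 else 0) =
        ∑ h : ↥(stabilizer G c), theta G c h * ((cenAt G a (h : G) : ℂ) - if (h : G) • a = a then 1 else 0) := by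
      refine (Fintype.sum_equiv (MulAut.conj (⟨g, mem_stabilizer_iff.2 hgc⟩ : ↥(stabilizer G c))).toEquiv _ _ fun h => ?_).symm
      show theta G c h * _ = ((cenAt G c (g * (h : G) * g⁻¹) : ℂ) - 1) *
        ((cenAt G z (g * (h : G) * g⁻¹) : ℂ) - if (g * (h : G) * g⁻¹) • z = z then 1 else 0)
      conv_rhs => rw [← hga, cenAt_conj, conj_smul_smul, show cenAt G c (g * (h : G) * g⁻¹) = cenAt G c (h : G) by
        have e := cenAt_conj c g (h : G); rwa [hgc] at e]
      simp only [smul_left_cancel_iff]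
      rfl
    rw [h1]
    let js : Finset ↥(stabilizer G c) := Finset.univ.filter (fun h => (h : G) ∈ J)
    rw [← Finset.sum_subset (Finset.subset_univ js) (fun h _ hh => ?_)]
    · have h1m : (1 : ↥(stabilizer G c)) ∈ js := by simp [js]
      have hva : cenAt G a (1 : G) = Nat.card ↥(invAt G c) := by rw [cenAt_one, E.card_inv_all a]
      rw [← Finset.add_sum_erase _ _ h1m, Finset.sum_congr rfl (g := fun _ => (1 : ℂ)) (fun h hh => ?_),
        Finset.sum_const, Finset.card_erase_of_mem h1m, nsmul_eq_mul, mul_one]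
      · have hcard : js.card = Nat.card ↥(invAt G c) := by
          rw [← E.card_J]
          rw [← Fintype.card_subtype, ← Nat.card_eq_fintype_card]
          exact Nat.card_congr
            { toFun := fun h => ⟨h.1.1, h.2⟩
              invFun := fun j => ⟨⟨j.1, mem_stabilizer_iff.2 (E.J_fix j.2)⟩, j.2⟩
              left_inv := fun _ => rfl
              right_inv := fun _ => rfl }
        rw [hcard, theta, OneMemClass.coe_one, cenAt_one, hva, one_smul, if_pos rfl,
          Nat.cast_sub (by have := E.seven_le; omega)]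
        push_cast
        ring
      · obtain ⟨hne, hmem⟩ := Finset.mem_erase.1 hh
        have hJ : (h : G) ∈ J := (Finset.mem_filter.1 hmem).2
        have hh1 : (h : G) ≠ 1 := fun e => hne (Subtype.ext e)
        have ha0 : cenAt G a (h : G) = 0 := by
          have e := cenAt_conj a v (h : G)
          rw [E.va, E.inverted _ hJ] at e
          rw [← e]
          exact E.cenAt_J (J.inv_mem hJ) (inv_ne_one.2 hh1)
        rw [theta, E.cenAt_J hJ hh1, ha0, if_pos (mem_pair.1 (E.le hJ)).2]
        norm_num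
    · have hJ : (h : G) ∉ J := fun e => hh (by simp [js, e])
      by_cases hha : (h : G) • a = a
      · have hd : (h : G) ∈ pairStab G c a := mem_pair.2 ⟨mem_stabilizer_iff.1 h.2, hha⟩
        rw [theta, E.cenAt_off hd hJ]
        simp
      · rw [if_neg hha, cenAt_eq_zero E.hyp hha]
        simp
  rw [Finset.sum_congr rfl (g := fun _ : Ω => (Nat.card ↥(stabilizer G c) : ℂ)⁻¹ *
      (((Nat.card ↥(invAt G c) : ℂ) - 1) * (Nat.card ↥(invAt G c) : ℂ))) (fun z hz => by
    rw [← hterm z hz, Finset.mul_sum]), Finset.sum_const, Finset.card_erase_of_mem (Finset.mem_univ _),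
    Finset.card_univ, nsmul_eq_mul, ← Nat.card_eq_fintype_card]
  have hH := E.card_stabilizer
  have hpos : 0 < Nat.card ↥(stabilizer G c) := Nat.card_pos
  rw [hH] at hpos ⊢
  have hN : ((Nat.card Ω - 1 : ℕ) : ℂ) ≠ 0 := Nat.cast_ne_zero.2 (pos_of_mul_pos_left hpos (Nat.zero_le _)).ne'
  have hl : (l : ℂ) ≠ 0 := Nat.cast_ne_zero.2 E.prime.ne_zero
  have hm : (Nat.card ↥(invAt G c) : ℂ) ≠ 0 := Nat.cast_ne_zero.2 (by have := E.seven_le; omega)
  rw [Nat.cast_mul, Nat.cast_mul]
  field_simp

end Exc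

end Cfsg.Agent.Invol.Bender
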