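import Cfsg.Agent.Lib.Invol.Bender.ExcCount
import Cfsg.Agent.Lib.Invol.Bender.ExcArith

/-!
# The exceptional configuration: the character on the involutions at a point is reducible

Otherwise every constituent of the induced function has degree `N` times its value at an involution, and
coherence on the subgroup `J` leaves no solution.
-/

set_option autoImplicit false
set_option linter.unusedSectionVars false

namespace Cfsg.Agent.Invol.Bender

open MulAction Subgroup Cfsg Cfsg.Agent.Char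
open scoped ComplexConjugate

universe u v

variable {G : Type u} {Ω : Type v} [Group G] [MulAction G Ω]

theorem norm_of_decomp {X : Type*} [Group X] [Fintype X] {f : X → ℂ} {a : IrrCharacter X → ℕ}
    (ha : ∀ χ : IrrCharacter X, classInner f (χ : X → ℂ) = a χ)
    (hdec : f = ∑ χ : IrrCharacter X, (a χ : ℂ) • (χ : X → ℂ)) :
    classInner f f = ((∑ χ : IrrCharacter X, a χ ^ 2 : ℕ) : ℂ) := by
  conv_lhs => arg 2; rw [hdec]
  rw [classInner_sum_right, Nat.cast_sum]
  refine Finset.sum_congr rfl fun χ _ => ?_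
  rw [classInner_smul_right, ha, map_natCast, Nat.cast_pow, sq]

namespace Exc

variable {c a : Ω} {v t σ : G} {J : Subgroup G} {l : ℕ} (E : Exc c a v t σ J l) [Fintype G] [Fintype Ω]
  [Fintype ↥(stabilizer G c)]
include E

theorem index_stabilizer : (stabilizer G c).index = Nat.card Ω := by
  haveI := E.hyp.transitive
  exact MulAction.index_stabilizer_of_transitive G c

theorem Theta_decomp : ∃ μ : IrrCharacter G → ℕ,
    (∀ χ : IrrCharacter G, classInner (Theta G Ω) (χ : G → ℂ) = μ χ) ∧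
      Theta G Ω = ∑ χ : IrrCharacter G, (μ χ : ℂ) • (χ : G → ℂ) :=
  IsChar.exists_decomp_inner (indFun_theta E.hyp c ▸ isCharacter_indFun _ (E.theta_char).1)

/-- The constituents have degree `N` times their value at an involution. -/
theorem exists_value {μ : IrrCharacter G → ℕ}
    (hdec : Theta G Ω = ∑ χ : IrrCharacter G, (μ χ : ℂ) • (χ : G → ℂ)) :
    ∀ χ : IrrCharacter G, μ χ ≠ 0 → ∃ k : ℕ, 1 ≤ k ∧ (χ : G → ℂ) t = k ∧
      (χ : G → ℂ) 1 = (Nat.card Ω : ℂ) * k := by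
  classical
  choose D hD0 hD using fun χ : IrrCharacter G => IsIrr.one_eq_pos χ.2
  have hr : ∀ χ : IrrCharacter G, (χ : G → ℂ) t = (((χ : G → ℂ) t).re : ℂ) := fun χ => by
    have h := IsIrr.apply_inv χ.2 t
    rw [inv_of_orderOf_two E.inv_t.1] at h
    exact (Complex.conj_eq_iff_re.1 h.symm).symm
  obtain ⟨m, hm⟩ : ∃ m : ℝ, m = (Nat.card ↥(invAt G c) : ℝ) := ⟨_, rfl⟩
  obtain ⟨N, hN⟩ : ∃ N : ℝ, N = (Nat.card Ω : ℝ) := ⟨_, rfl⟩
  have hN0 : N ≠ 0 := by
    rw [hN, Nat.cast_ne_zero]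
    haveI : Nonempty Ω := ⟨c⟩
    exact Nat.card_pos.ne'
  let r : IrrCharacter G → ℝ := fun χ => ((χ : G → ℂ) t).re
  have e1 : ∑ χ : IrrCharacter G, (μ χ : ℝ) * D χ = N * (m - 1) := by
    have h := congrFun hdec 1
    rw [sum_irr_apply, E.Theta_one] at h
    apply Complex.ofReal_injective
    rw [hm, hN]
    push_cast
    rw [h]
    exact Finset.sum_congr rfl fun χ _ => by rw [hD]
  have e2 : ∑ χ : IrrCharacter G, (μ χ : ℝ) * r χ = m - 1 := by
    have h := congrFun hdec t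
    rw [sum_irr_apply, E.Theta_inv E.inv_t] at h
    apply Complex.ofReal_injective
    rw [hm]
    push_cast
    rw [h]
    exact Finset.sum_congr rfl fun χ _ => by rw [hr χ]
  have hIcard : ((Finset.univ.filter fun y : G => orderOf y = 2).card : ℂ) = (N : ℂ) * m := by
    rw [hN, hm, Complex.ofReal_natCast, Complex.ofReal_natCast, ← Nat.cast_mul, ← E.cenAll_one,
      ← Fintype.card_subtype, ← Nat.card_eq_fintype_card]
    exact congrArg Nat.cast (Nat.card_congr (Equiv.subtypeEquivRight fun y =>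
      ⟨fun h => ⟨h, Commute.one_left y⟩, fun h => h.1⟩))
  have hχI : ∀ (χ : IrrCharacter G), ∀ y : G, orderOf y = 2 → (χ : G → ℂ) y = (χ : G → ℂ) t := fun χ y hy =>
    IsClass.eq_of_isConj (IsIrr.classFun χ.2) (E.hyp.isConj hy E.inv_t.1)
  have hχsum : ∀ χ : IrrCharacter G, ∀ y : G, orderOf y = 2 →
      ∑ x ∈ Finset.univ.filter (fun x : G => orderOf x = 2), (χ : G → ℂ) (x * y) =
        (N : ℂ) * m * (χ : G → ℂ) t / (χ : G → ℂ) 1 * (χ : G → ℂ) t := by
    intro χ y hy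
    have h := sum_classFun_mul_apply χ.2 (f := fun x : G => if orderOf x = 2 then 1 else 0)
      (fun x g => by simp only [orderOf_conj_eq]) y
    simp only [ite_mul, one_mul, zero_mul, ← Finset.sum_filter] at h
    rw [h, Finset.sum_congr rfl (fun x hx => hχI χ x (Finset.mem_filter.1 hx).2), Finset.sum_const, nsmul_eq_mul,
      hIcard, hχI χ y hy]
  have e3 : ∑ χ : IrrCharacter G, (μ χ : ℝ) * (r χ ^ 2 / D χ) = (m - 1) / N := by
    have hm0 : m ≠ 0 := by rw [hm, Nat.cast_ne_zero]; have := E.seven_le; omega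
    have h : ∑ y ∈ Finset.univ.filter (fun y : G => orderOf y = 2),
        ∑ x ∈ Finset.univ.filter (fun x : G => orderOf x = 2), Theta G Ω (x * y) =
          (N : ℂ) * m * ((m : ℂ) * ((m : ℂ) - 1)) := by
      rw [Finset.sum_comm, Finset.sum_congr rfl (fun x hx => E.sum_Theta_mul (Finset.mem_filter.1 hx).2),
        Finset.sum_const, nsmul_eq_mul, hIcard, hm, Complex.ofReal_natCast]
    rw [hdec] at h
    simp only [sum_irr_apply] at h
    rw [Finset.sum_congr rfl (fun y hy => by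
      rw [Finset.sum_comm, Finset.sum_congr rfl (fun χ _ => by
        rw [← Finset.mul_sum, hχsum χ y (Finset.mem_filter.1 hy).2])]), Finset.sum_const, nsmul_eq_mul, hIcard] at h
    have hz : (N : ℂ) * m ≠ 0 := mul_ne_zero (Complex.ofReal_ne_zero.2 hN0) (Complex.ofReal_ne_zero.2 hm0)
    have h' := mul_left_cancel₀ hz h
    apply Complex.ofReal_injective
    push_cast
    rw [eq_div_iff (Complex.ofReal_ne_zero.2 hN0), ← mul_left_inj' (Complex.ofReal_ne_zero.2 hm0),
      mul_comm ((m : ℂ) - 1) (m : ℂ), ← h', Finset.sum_mul, Finset.sum_mul]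
    refine Finset.sum_congr rfl fun χ _ => ?_
    rw [hD, hr χ]
    simp only [r, Complex.ofReal_re]
    ring
  have hzero : ∑ χ : IrrCharacter G, (μ χ : ℝ) * ((N * r χ - D χ) ^ 2 / D χ) = 0 := by
    have h : ∀ χ : IrrCharacter G, (μ χ : ℝ) * ((N * r χ - D χ) ^ 2 / D χ) =
        N ^ 2 * ((μ χ : ℝ) * (r χ ^ 2 / D χ)) - 2 * N * ((μ χ : ℝ) * r χ) + (μ χ : ℝ) * D χ := fun χ => by
      have : (D χ : ℝ) ≠ 0 := Nat.cast_ne_zero.2 (hD0 χ).ne'
      field_simp
      ring
    rw [Finset.sum_congr rfl fun χ _ => h χ, Finset.sum_add_distrib, Finset.sum_sub_distrib, ← Finset.mul_sum,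
      ← Finset.mul_sum, e1, e2, e3]
    field_simp
    ring
  intro χ hμ
  have hχ := (Finset.sum_eq_zero_iff_of_nonneg fun ψ _ =>
    mul_nonneg (Nat.cast_nonneg _) (div_nonneg (sq_nonneg _) (Nat.cast_nonneg _))).1 hzero χ (Finset.mem_univ _)
  have heq : N * r χ = D χ := by
    rcases mul_eq_zero.1 hχ with h | h
    · exact absurd (Nat.cast_eq_zero.1 h) hμ
    rcases div_eq_zero_iff.1 h with h | h
    · exact sub_eq_zero.1 (pow_eq_zero_iff two_ne_zero |>.1 h)
    · exact absurd (Nat.cast_eq_zero.1 h) (hD0 χ).ne'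
  have hq : (χ : G → ℂ) t = (((D χ : ℚ) / (Nat.card Ω : ℚ) : ℚ) : ℂ) := by
    rw [hr χ]
    have h1 : r χ = (D χ : ℝ) / N := by rw [eq_div_iff hN0, ← heq]; ring
    rw [show ((χ : G → ℂ) t).re = r χ from rfl, h1, hN]
    push_cast
    rfl
  obtain ⟨z, hz⟩ := int_of_isIntegral_rat (hq ▸ IsChar.isIntegral (IsIrr.isCharacter χ.2) t)
  rw [← hq] at hz
  have hrz : r χ = (z : ℝ) := by
    apply Complex.ofReal_injective
    rw [Complex.ofReal_intCast, ← hz]
    exact (hr χ).symm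
  have hNz : (Nat.card Ω : ℤ) * z = (D χ : ℤ) := by
    rw [hrz, hN] at heq
    exact_mod_cast heq
  have hz0 : 0 < z := pos_of_mul_pos_right (hNz ▸ Int.natCast_pos.2 (hD0 χ)) (Int.natCast_nonneg _)
  lift z to ℕ using hz0.le
  refine ⟨z, by exact_mod_cast hz0, by rw [hz]; norm_num, ?_⟩
  rw [hD, ← Nat.cast_mul]
  exact congrArg Nat.cast (by exact_mod_cast hNz.symm)

/-- The character on the involutions at a point is not irreducible. -/
theorem norm_theta_ne_one : classInner (theta G c) (theta G c) ≠ 1 := by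
  classical
  intro hirr
  obtain ⟨μ, hμ, hdec⟩ := E.Theta_decomp
  have hval := E.exists_value hdec
  choose k hk1 hkt hkD using hval
  let K : IrrCharacter G → ℕ := fun χ => if h : μ χ = 0 then 1 else k χ h
  have hK : ∀ χ, μ χ ≠ 0 → 1 ≤ K χ ∧ (χ : G → ℂ) t = K χ ∧ (χ : G → ℂ) 1 = (Nat.card Ω : ℂ) * K χ := fun χ h => by
    simp only [K, dif_neg h]
    exact ⟨hk1 χ h, hkt χ h, hkD χ h⟩
  haveI := Fintype.ofFinite J
  obtain ⟨m, hm⟩ : ∃ m : ℕ, m = Nat.card ↥(invAt G c) := ⟨_, rfl⟩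
  have hm7 : 7 ≤ m := hm ▸ E.seven_le
  have hJm : Nat.card J = m := hm ▸ E.card_J
  have hlt : J < normalizer (J : Set G) := by
    refine lt_of_le_of_ne le_normalizer fun e => ?_
    have : σ ∈ normalizer (J : Set G) := E.mem_normalizer.2 (Or.inl E.mem_σ)
    rw [← e] at this
    exact E.prime.one_lt.ne' (by rw [← E.order_σ, E.J_inf (mem_zpowers σ) this, orderOf_one])
  obtain ⟨C⟩ := ExcTI.exists_coh J (e := 2 * l)
    (fun g hg j hj h => by
      by_contra hj1
      exact hg (E.mem_normalizer.2 (E.of_conj hj hj1 h)))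
    hlt (fun j hj hj1 => E.centralizer_le hj hj1) E.comm_J (by omega) E.index_normalizer
  obtain ⟨q, hq⟩ := E.points_mod
  rw [← hm] at hq
  have hsJ : 2 * l * C.s + 1 = m := hJm ▸ C.hs
  have hpow : m + 1 = 2 ^ l := by
    rw [hm, E.card_inv]
    have := Nat.two_pow_pos l
    omega
  let one : IrrCharacter G := ⟨fun _ => 1, isIrr_one⟩
  have hμone : μ one = 0 := by
    have h := hμ one
    show μ one = 0
    rw [show ((one : IrrCharacter G) : G → ℂ) = fun _ => (1 : ℂ) from rfl, ← indFun_theta E.hyp c,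
      classInner_indFun _ _ (IsIrr.classFun isIrr_one), (E.theta_char).2] at h
    exact_mod_cast h.symm
  have hcls : IsClassFunction G (Theta G Ω) := indFun_theta E.hyp c ▸ indFun_classFun _ _
  obtain ⟨μc, hμc, hpair⟩ := C.pairing _ hcls (-2) fun j hj hj1 => E.Theta_J hj hj1
  let U := Finset.univ.filter (fun χ : IrrCharacter G => χ ∉ C.F)
  have hU : ∀ χ, χ ∈ U ↔ χ ∉ C.F := fun χ => by simp [U]
  let T := U.filter (fun χ => μ χ ≠ 0)
  have hT : ∀ χ ∈ T, χ ∉ C.F ∧ μ χ ≠ 0 := fun χ hχ =>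
    ⟨(hU χ).1 (Finset.mem_filter.1 hχ).1, (Finset.mem_filter.1 hχ).2⟩
  have hcol : ∑ χ ∈ T, C.c χ ^ 2 + (C.F.card : ℤ) * C.c0 ^ 2 - 2 * C.ε * C.δ * C.c0 ≤ 2 * (l : ℤ) - C.δ := by
    have h := C.column U hU
    have honeU : one ∈ U := (hU one).2 (C.trivial_notMem one rfl)
    have hc1 : C.c one = 1 := by
      obtain ⟨j, hj, hj1⟩ : ∃ j ∈ J, j ≠ 1 := (Subgroup.bot_or_exists_ne_one J).resolve_left fun e => by
        rw [e, Subgroup.card_bot] at hJm; omega
      have h1 := C.value one (C.trivial_notMem one rfl) j hj hj1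
      exact (Int.cast_eq_one.1 h1.symm)
    have hsub : T ⊆ U.erase one := fun χ hχ => Finset.mem_erase.2
      ⟨fun e => (hT χ hχ).2 (e ▸ hμone), (Finset.mem_filter.1 hχ).1⟩
    have h2 := Finset.sum_le_sum_of_subset_of_nonneg hsub (f := fun χ => C.c χ ^ 2) fun χ _ _ => sq_nonneg _
    rw [← Finset.add_sum_erase _ _ honeU, hc1] at h
    push_cast at h ⊢
    linarith
  have hTU : ∀ g : IrrCharacter G → ℂ, (∀ χ, μ χ = 0 → g χ = 0) →
      ∑ χ, g χ = ∑ χ ∈ T, g χ + ∑ χ ∈ C.F, g χ := fun g hg => by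
    rw [show U = Finset.univ \ C.F from Finset.ext fun χ => by simp [U]] at *
    rw [← Finset.sum_sdiff (Finset.subset_univ C.F), ← Finset.sum_subset (Finset.filter_subset _ _) fun χ hχ hχ' =>
      hg χ (not_not.1 fun h => hχ' (Finset.mem_filter.2 ⟨hχ, h⟩))]
    simp [T, U, Finset.sdiff_eq_filter]
  have hpairT : ∑ χ ∈ T, (μ χ : ℂ) * (C.c χ : ℂ) + μc * ((C.F.card : ℂ) * (C.c0 : ℂ) - (C.ε : ℂ) * (C.δ : ℂ)) = -2 := by
    rw [← hpair U hU, Finset.sum_congr rfl (s₁ := U) (fun χ _ => by rw [hμ χ])]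
    congr 1
    refine Finset.sum_subset (Finset.filter_subset _ _) fun χ hχ hχ' => ?_
    rw [not_not.1 fun h => hχ' (Finset.mem_filter.2 ⟨hχ, h⟩), Nat.cast_zero, zero_mul]
  have hdeg : ∑ χ ∈ T, (μ χ : ℂ) * K χ + ∑ χ ∈ C.F, (μ χ : ℂ) * K χ = (m : ℂ) - 1 := by
    have h := congrFun hdec t
    rw [sum_irr_apply, E.Theta_inv E.inv_t, ← hm] at h
    rw [h, hTU _ (fun χ e => by rw [e, Nat.cast_zero, zero_mul])]
    congr 1
    · exact Finset.sum_congr rfl fun χ hχ => by rw [(hK χ (hT χ hχ).2).2.1]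
    · refine Finset.sum_congr rfl fun χ _ => ?_
      by_cases e : μ χ = 0
      · rw [e, Nat.cast_zero, zero_mul, zero_mul]
      · rw [(hK χ e).2.1]
  have hnorm : ∑ χ ∈ T, (μ χ : ℂ) ^ 2 + ∑ χ ∈ C.F, (μ χ : ℂ) ^ 2 = 1 + ((m : ℂ) - 1) / l := by
    have h := E.norm_Theta
    rw [hirr] at h
    rw [hm, ← h, norm_of_decomp hμ hdec, Nat.cast_sum,
      hTU _ (fun χ e => by rw [e]; simp)]
    congr 1 <;> exact Finset.sum_congr rfl fun χ _ => by rw [Nat.cast_pow]
  have hlC : (l : ℂ) ≠ 0 := Nat.cast_ne_zero.2 E.prime.ne_zero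
  have hnorm' : 1 + ((m : ℂ) - 1) / l = ((2 * C.s + 1 : ℕ) : ℂ) := by
    rw [← hsJ]
    push_cast
    field_simp
    ring
  let z : IrrCharacter G → ℤ := fun χ => (2 * (K χ : ℤ) - C.c χ) / (m : ℤ)
  have hz : ∀ χ ∈ T, 2 * (K χ : ℤ) - C.c χ = (m : ℤ) * z χ := by
    intro χ hχ
    refine (Int.mul_ediv_cancel' ?_).symm
    obtain ⟨b, hb⟩ := ExcTI.sum_subgroup (IsIrr.isCharacter χ.2) J
    rw [C.sum_notMem (hT χ hχ).1, hJm, (hK χ (hT χ hχ).2).2.2] at hb
    refine ⟨(b : ℤ) - q * K χ - C.c χ, ?_⟩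
    have hb' : (Nat.card Ω : ℤ) * K χ + ((m : ℤ) - 1) * C.c χ = (m : ℤ) * b := by
      apply Int.cast_injective (α := ℂ)
      push_cast at hb ⊢
      exact hb
    linear_combination hb' - (K χ : ℤ) * hq
  rcases C.hδ with ⟨hF, hs1, hδ⟩ | ⟨hF, hs2, hδ⟩
  · -- one exceptional character
    have hl3 : l = 3 := by
      rw [hs1] at hsJ
      by_contra h
      have h4 : 4 ≤ l := by have := E.three_le; omega
      obtain ⟨i, rfl⟩ : ∃ i, l = i + 4 := ⟨l - 4, by omega⟩
      have := Nat.lt_two_pow_self (n := i)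
      rw [pow_add] at hpow
      omega
    subst hl3
    obtain rfl : m = 7 := by omega
    rw [hF] at hdeg hnorm hpairT hcol
    simp only [Finset.sum_empty, Finset.card_empty, add_zero] at hdeg hnorm hpairT
    rw [hδ] at hcol hpairT
    rw [hnorm', hs1] at hnorm
    refine ExcArith.false_three T μ K C.c z (fun χ hχ => Nat.one_le_iff_ne_zero.2 (hT χ hχ).2)
      (fun χ hχ => (hK χ (hT χ hχ).2).1) (by simpa using hcol) ?_ ?_ ?_ (fun χ hχ => by simpa using hz χ hχ)
    · apply Int.cast_injective (α := ℂ)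
      push_cast
      simpa using hpairT
    · apply Nat.cast_injective (R := ℂ)
      push_cast
      rw [hdeg]
      norm_num
    · apply Nat.cast_injective (R := ℂ)
      push_cast
      rw [hnorm]
      norm_num
  · -- a family
    obtain ⟨ξ, hξ⟩ : C.F.Nonempty := Finset.card_pos.1 (by omega)
    have hμF : ∀ χ ∈ C.F, μ χ = μ ξ := fun χ hχ => by
      apply Nat.cast_injective (R := ℂ)
      rw [← hμ, ← hμ, hμc χ hχ, hμc ξ hξ]
    have hμc' : μc = (μ ξ : ℂ) := by rw [← hμc ξ hξ, hμ]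
    have hKF : μ ξ ≠ 0 → ∀ χ ∈ C.F, K χ = K ξ := fun h χ hχ => by
      have hd := C.deg_eq χ hχ ξ hξ
      rw [(hK χ (by rw [hμF χ hχ]; exact h)).2.2, (hK ξ h).2.2] at hd
      haveI : Nonempty Ω := ⟨c⟩
      exact_mod_cast mul_left_cancel₀ (Nat.cast_ne_zero.2 Nat.card_pos.ne') hd
    have hl5 : 5 ≤ l := by
      have h3 := E.three_le
      have hodd := E.odd_l
      by_contra h
      obtain rfl : l = 3 := by rcases hodd with ⟨i, rfl⟩; omega
      omega
    have hls : l ≤ C.s + 2 := by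
      have h := ExcArith.two_pow_ge hl5
      rw [← hpow, ← hsJ] at h
      have : 2 * l * (l - 2) ≤ 2 * l * C.s := by omega
      have := Nat.le_of_mul_le_mul_left this (by omega)
      omega
    rw [hF, hδ] at hcol hpairT
    refine ExcArith.false_family hl5 hls hs2 C.ε C.c0 ((2 * (K ξ : ℤ) - C.c0 - 2 * C.ε * l) / (m : ℤ)) C.hε
      (μ ξ) (K ξ) T μ K C.c z (fun χ hχ => Nat.one_le_iff_ne_zero.2 (hT χ hχ).2)
      (fun χ hχ => (hK χ (hT χ hχ).2).1) (fun h => (hK ξ h).1) ?_ ?_ ?_ ?_ (fun χ hχ => by rw [hsJ]; exact hz χ hχ) ?_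
    · push_cast at hcol ⊢
      linarith
    · apply Int.cast_injective (α := ℂ)
      push_cast at hpairT ⊢
      rw [hμc'] at hpairT
      linear_combination hpairT
    · apply Nat.cast_injective (R := ℂ)
      push_cast
      have h : ∑ χ ∈ C.F, (μ χ : ℂ) * K χ = (μ ξ : ℂ) * C.s * K ξ := by
        rw [Finset.sum_congr rfl (g := fun _ => (μ ξ : ℂ) * K ξ) fun χ hχ => ?_, Finset.sum_const, hF, nsmul_eq_mul]
        · ring
        · rw [hμF χ hχ]
          by_cases e : μ ξ = 0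
          · simp [e]
          · rw [hKF e χ hχ]
      rw [h, ← hsJ] at hdeg
      push_cast at hdeg
      linear_combination hdeg
    · apply Nat.cast_injective (R := ℂ)
      push_cast
      rw [hnorm', Finset.sum_congr rfl (s₁ := C.F) (g := fun _ => (μ ξ : ℂ) ^ 2) (fun χ hχ => by rw [hμF χ hχ]),
        Finset.sum_const, hF, nsmul_eq_mul] at hnorm
      push_cast at hnorm
      linear_combination hnorm
    · intro h
      rw [hsJ]
      refine (Int.mul_ediv_cancel' ?_).symm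
      obtain ⟨b, hb⟩ := ExcTI.sum_subgroup (IsIrr.isCharacter ξ.2) J
      rw [C.sum_mem ξ hξ, hJm, (hK ξ h).2.2] at hb
      refine ⟨(b : ℤ) - q * K ξ - C.c0, ?_⟩
      have hb' : (Nat.card Ω : ℤ) * K ξ + ((m : ℤ) - 1) * C.c0 - C.ε * (2 * l) = (m : ℤ) * b := by
        apply Int.cast_injective (α := ℂ)
        push_cast at hb ⊢
        exact hb
      linear_combination hb' - (K ξ : ℤ) * hq

end Exc

end Cfsg.Agent.Invol.Bender
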