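import Cfsg.Agent.Lib.Invol.Bender.Spec

/-!
# The exceptional configuration of Bender's theorem: the pair stabiliser

`m = 2 ^ l - 1` involutions at each point, a subgroup `J` of order `m` regular on the involutions at a point
and a complement of prime order `l` centralising an involution.
-/

set_option autoImplicit false
set_option linter.unusedSectionVars false

namespace Cfsg.Agent.Invol.Bender

open MulAction Subgroup

universe u v

variable {G : Type u} {Ω : Type v} [Group G] [MulAction G Ω]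

/-- The hypotheses of the exceptional configuration. -/
structure Exc (c a : Ω) (v t σ : G) (J : Subgroup G) (l : ℕ) : Prop where
  hyp : Hyp G Ω
  two_trans : ∀ x y x' y' : Ω, x ≠ y → x' ≠ y' → ∃ g : G, g • x = x' ∧ g • y = y'
  comm : InvComm G Ω
  ne : c ≠ a
  prime : l.Prime
  ne_two : l ≠ 2
  card_inv : Nat.card ↥(invAt G c) = 2 ^ l - 1
  le : J ≤ pairStab G c a
  card_J : Nat.card J = Nat.card ↥(invAt G c)
  normal : ∀ d ∈ pairStab G c a, ∀ j ∈ J, d * j * d⁻¹ ∈ J
  swap : v ∈ swapAt G c a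
  inverted : ∀ j ∈ J, v * j * v⁻¹ = j⁻¹
  semiregular : ∀ j ∈ J, ∀ s ∈ invAt G c, Commute j s → j = 1
  fix_two : ∀ j ∈ J, j ≠ 1 → ∀ x : Ω, j • x = x → x = c ∨ x = a
  card_D : Nat.card ↥(pairStab G c a) = l * Nat.card ↥(invAt G c)
  inv_t : t ∈ invAt G c
  mem_σ : σ ∈ pairStab G c a
  order_σ : orderOf σ = l
  comm_v : Commute σ v
  comm_t : Commute σ t
  faithful : ∀ x ∈ pairStab G c a, (∀ s ∈ invAt G c, Commute x s) → x = 1

theorem invAt_conj_of_fix {c : Ω} {g s : G} (hg : g • c = c) (hs : s ∈ invAt G c) : g * s * g⁻¹ ∈ invAt G c := by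
  refine ⟨(orderOf_conj_eq g s).trans hs.1, ?_⟩
  conv_lhs => rw [← hg]
  rw [conj_smul_smul, hs.2, hg]

theorem commute_conj_iff (g x y : G) : Commute (g * x * g⁻¹) (g * y * g⁻¹) ↔ Commute x y :=
  ⟨fun h => by simpa [mul_assoc] using h.map (MulAut.conj g⁻¹), fun h => by simpa using h.map (MulAut.conj g)⟩

namespace Exc

variable {c a : Ω} {v t σ : G} {J : Subgroup G} {l : ℕ} (E : Exc c a v t σ J l)
include E

theorem three_le : 3 ≤ l := by
  have := E.prime.two_le
  have := E.ne_two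
  omega

theorem odd_l : Odd l := E.prime.odd_of_ne_two E.ne_two

theorem inv_v : v⁻¹ = v := inv_of_orderOf_two E.swap.1

theorem v_mul_v : v * v = 1 := mul_self_of_orderOf_two E.swap.1

theorem va : v • a = c := swap_symm E.swap.1 E.swap.2

theorem conj_v_mem {d : G} (hd : d ∈ pairStab G c a) : v * d * v⁻¹ ∈ pairStab G c a := by
  obtain ⟨h1, h2⟩ := mem_pair.1 hd
  refine mem_pair.2 ⟨?_, ?_⟩
  · conv_lhs => rw [← E.va]
    rw [conj_smul_smul, h2, E.va]
  · conv_lhs => rw [← E.swap.2]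
    rw [conj_smul_smul, h1, E.swap.2]

theorem comm_J : ∀ x ∈ J, ∀ y ∈ J, x * y = y * x := fun x hx y hy => by
  have h1 := E.inverted _ (J.mul_mem hx hy)
  rw [← conj_mul, E.inverted x hx, E.inverted y hy, ← mul_inv_rev, inv_inj] at h1
  exact h1.symm

theorem J_fix {j : G} (hj : j ∈ J) : j • c = c := (mem_pair.1 (E.le hj)).1

theorem odd_card_J : Odd (Nat.card J) := by
  rw [E.card_J, E.card_inv]
  refine Nat.odd_iff.2 ?_
  obtain ⟨k, hk⟩ := dvd_pow_self 2 E.prime.ne_zero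
  have := Nat.two_pow_pos l
  omega

theorem seven_le : 7 ≤ Nat.card ↥(invAt G c) := by
  rw [E.card_inv]
  have := Nat.pow_le_pow_right (show 2 > 0 by norm_num) E.three_le
  omega

variable [Finite G]

theorem eq_one_of_inv_eq {j : G} (hj : j ∈ J) (h : j = j⁻¹) : j = 1 := by
  have h2 : orderOf j ∣ 2 := orderOf_dvd_of_pow_eq_one (by rw [sq]; nth_rewrite 2 [h]; exact mul_inv_cancel j)
  have ho : Odd (orderOf j) := E.odd_card_J.of_dvd_nat (Subgroup.orderOf_dvd_natCard _ hj)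
  rcases (Nat.dvd_prime Nat.prime_two).1 h2 with e | e
  · exact orderOf_eq_one_iff.1 e
  · rw [e] at ho; exact absurd ho (by decide)

/-- `J` is regular on the involutions at the point. -/
theorem exists_conj {s : G} (hs : s ∈ invAt G c) : ∃ j ∈ J, j * t * j⁻¹ = s := by
  let f : J → ↥(invAt G c) := fun j => ⟨(j : G) * t * (j : G)⁻¹, invAt_conj_of_fix (E.J_fix j.2) E.inv_t⟩
  have hf : Function.Injective f := by
    intro x y h
    have h' : (x : G) * t * (x : G)⁻¹ = (y : G) * t * (y : G)⁻¹ := congrArg Subtype.val h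
    refine Subtype.ext (inv_mul_eq_one.1 (E.semiregular _ (J.mul_mem (J.inv_mem x.2) y.2) t E.inv_t ?_))
    show (x : G)⁻¹ * y * t = t * ((x : G)⁻¹ * y)
    calc (x : G)⁻¹ * y * t = (x : G)⁻¹ * ((y : G) * t * (y : G)⁻¹) * y := by group
      _ = (x : G)⁻¹ * ((x : G) * t * (x : G)⁻¹) * y := by rw [h']
      _ = _ := by group
  haveI := Fintype.ofFinite J
  haveI := Fintype.ofFinite ↥(invAt G c)
  obtain ⟨j, hj⟩ := (hf.bijective_of_nat_card_le (le_of_eq E.card_J.symm)).2 ⟨s, hs⟩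
  exact ⟨j, j.2, congrArg Subtype.val hj⟩

theorem conj_inj {j j' : G} (hj : j ∈ J) (hj' : j' ∈ J) (h : j * t * j⁻¹ = j' * t * j'⁻¹) : j = j' := by
  refine inv_mul_eq_one.1 (E.semiregular _ (J.mul_mem (J.inv_mem hj) hj') t E.inv_t ?_)
  show j⁻¹ * j' * t = t * (j⁻¹ * j')
  calc j⁻¹ * j' * t = j⁻¹ * (j' * t * j'⁻¹) * j' := by group
    _ = j⁻¹ * (j * t * j⁻¹) * j' := by rw [h]
    _ = _ := by group

omit [Finite G] in
/-- The involutions at the point with the identity. -/
theorem exists_group : ∃ W : Subgroup G, ∀ w, w ∈ W ↔ w = 1 ∨ w ∈ invAt G c := by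
  refine ⟨{ carrier := {w | w = 1 ∨ w ∈ invAt G c}, mul_mem' := ?_, one_mem' := Or.inl rfl,
            inv_mem' := ?_ }, fun w => Iff.rfl⟩
  · rintro x y (rfl | hx) (rfl | hy)
    · exact Or.inl (one_mul _)
    · exact Or.inr (by rwa [one_mul])
    · exact Or.inr (by rwa [mul_one])
    · by_cases hxy : x = y
      · exact Or.inl (by rw [hxy, mul_self_of_orderOf_two hy.1])
      · refine Or.inr ⟨orderOf_two_iff.2 ⟨?_, fun h => hxy ?_⟩, by rw [mul_smul, hy.2, hx.2]⟩
        · rw [mul_assoc, ← mul_assoc y x y, ← (E.comm c x hx y hy).eq, mul_assoc x y y,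
            mul_self_of_orderOf_two hy.1, mul_one, mul_self_of_orderOf_two hx.1]
        · exact (eq_inv_of_mul_eq_one_left h).trans (inv_of_orderOf_two hy.1)
  · rintro x (rfl | hx)
    · exact Or.inl inv_one
    · exact Or.inr (by rwa [inv_of_orderOf_two hx.1])

/-- The complement centralises a single involution at the point. -/
theorem eq_t_of_commute_σ {s : G} (hs : s ∈ invAt G c) (hcs : Commute σ s) : s = t := by
  obtain ⟨W, hW⟩ := E.exists_group
  have hsm := E.semiregular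
  set Wσ := W ⊓ centralizer ({σ} : Set G) with hWσ
  have h1W : ∀ x ∈ W, x * x = 1 := fun x hx => by
    rcases (hW x).1 hx with rfl | h
    · exact one_mul _
    · exact mul_self_of_orderOf_two h.1
  have hpow : ∀ U : Subgroup G, U ≤ W → ∃ k, Nat.card U = 2 ^ k := fun U hU =>
    IsPGroup.iff_card.1 fun x => ⟨1, Subtype.ext (by rw [pow_one, sq]; exact h1W x (hU x.2))⟩
  have hins : ∀ (U : Subgroup G) (S : Set G), (∀ x, x ∈ U ↔ x = 1 ∨ x ∈ S) → (1 : G) ∉ S →
      Nat.card U = Nat.card S + 1 := fun U S hU h1 => by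
    rw [Nat.card_coe_set_eq S, ← Set.ncard_insert_of_notMem h1 (Set.toFinite S), ← Nat.card_coe_set_eq]
    exact Nat.card_congr (Equiv.subtypeEquivRight fun x => by rw [Set.mem_insert_iff, hU])
  have h1 : ∀ x, x = (1 : G) → x ∉ invAt G c := fun x hx h => by
    have := h.1; rw [hx, orderOf_one] at this; norm_num at this
  have hWc : Nat.card W = 2 ^ l := by
    rw [hins W _ hW (h1 1 rfl), E.card_inv]
    have := Nat.two_pow_pos l
    omega
  set S := {x | x ∈ invAt G c ∧ Commute σ x} with hS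
  have hWσc : Nat.card Wσ = Nat.card S + 1 := hins Wσ S (fun x => by
    rw [hWσ, Subgroup.mem_inf, hW, mem_centralizer_singleton_iff]
    constructor
    · rintro ⟨h | h, h'⟩
      · exact Or.inl h
      · exact Or.inr ⟨h, h'.symm⟩
    · rintro (h | ⟨h, h'⟩)
      · exact ⟨Or.inl h, by rw [h]; simp⟩
      · exact ⟨Or.inr h, h'.symm.eq⟩) (fun h => h1 1 rfl h.1)
  have hJσ : Nat.card ↥(J ⊓ centralizer ({σ} : Set G)) = Nat.card S := by
    refine Nat.card_congr (Equiv.ofBijective (fun j => ⟨(j : G) * t * (j : G)⁻¹,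
      invAt_conj_of_fix (E.J_fix (Subgroup.mem_inf.1 j.2).1) E.inv_t, ?_⟩) ⟨fun x y h => ?_, fun x => ?_⟩)
    · exact ((show Commute σ (j : G) from (mem_centralizer_singleton_iff.1 (Subgroup.mem_inf.1 j.2).2).symm).mul_right
        E.comm_t).mul_right (show Commute σ (j : G) from (mem_centralizer_singleton_iff.1 (Subgroup.mem_inf.1 j.2).2).symm).inv_right
    · exact Subtype.ext (E.conj_inj (Subgroup.mem_inf.1 x.2).1 (Subgroup.mem_inf.1 y.2).1 (congrArg Subtype.val h))
    · obtain ⟨j, hj, hjx⟩ := E.exists_conj x.2.1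
      refine ⟨⟨j, Subgroup.mem_inf.2 ⟨hj, mem_centralizer_singleton_iff.2 ?_⟩⟩, Subtype.ext hjx⟩
      have e : σ * j * σ⁻¹ = j := by
        refine E.conj_inj (E.normal σ E.mem_σ j hj) hj ?_
        calc σ * j * σ⁻¹ * t * (σ * j * σ⁻¹)⁻¹ = σ * j * (σ⁻¹ * t * σ) * j⁻¹ * σ⁻¹ := by group
          _ = σ * (j * t * j⁻¹) * σ⁻¹ := by rw [mul_assoc σ⁻¹, ← E.comm_t.eq, inv_mul_cancel_left]; group
          _ = _ := by rw [hjx, x.2.2.eq, mul_inv_cancel_right]
      calc j * σ = σ * j * σ⁻¹ * σ := by rw [e]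
        _ = σ * j := inv_mul_cancel_right _ _
  obtain ⟨k, hk⟩ := hpow Wσ inf_le_left
  have hdvd : 2 ^ k - 1 ∣ 2 ^ l - 1 := by
    rw [← E.card_inv, ← E.card_J, ← hk, hWσc, Nat.add_sub_cancel, ← hJσ]
    exact Subgroup.card_dvd_of_le inf_le_left
  have hk1 : 1 ≤ k := by
    by_contra h
    have : 0 < Nat.card S := Nat.card_pos_iff.2 ⟨⟨⟨t, E.inv_t, E.comm_t⟩⟩, inferInstance⟩
    rw [show k = 0 by omega, hWσc, pow_zero] at hk
    omega
  have hg : Nat.gcd k l = k := by
    have h2 := Nat.dvd_gcd (dvd_refl (2 ^ k - 1)) hdvd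
    rw [Nat.pow_sub_one_gcd_pow_sub_one] at h2
    refine le_antisymm (Nat.le_of_dvd (by omega) (Nat.gcd_dvd_left k l)) ?_
    have h3 : 2 ^ k - 1 ≤ 2 ^ Nat.gcd k l - 1 := Nat.le_of_dvd (by
      have := Nat.gcd_pos_of_pos_left l (show 0 < k by omega)
      have := Nat.one_lt_two_pow this.ne'
      omega) h2
    by_contra h4
    have := Nat.pow_lt_pow_right (show 1 < 2 by norm_num) (not_le.1 h4)
    have := Nat.two_pow_pos (Nat.gcd k l)
    omega
  rcases (Nat.dvd_prime E.prime).1 (hg ▸ Nat.gcd_dvd_right k l) with e | e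
  · rw [e, hWσc] at hk
    haveI : Subsingleton ↥S := (Nat.card_eq_one_iff_unique.1 (by omega)).1
    exact congrArg Subtype.val (Subsingleton.elim (⟨s, hs, hcs⟩ : ↥S) ⟨t, E.inv_t, E.comm_t⟩)
  · exfalso
    have hall : Wσ = W := Subgroup.eq_of_le_of_card_ge inf_le_left (by rw [hk, e, hWc])
    refine E.prime.one_lt.ne' ?_
    rw [← E.order_σ, E.faithful σ E.mem_σ fun x hx => ?_, orderOf_one]
    have hx' : x ∈ Wσ := hall ▸ (hW x).2 (Or.inr hx)
    exact (mem_centralizer_singleton_iff.1 (Subgroup.mem_inf.1 hx').2).symm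

theorem σ_pow_comm {x : G} (hx : x ∈ zpowers σ) : Commute x t ∧ Commute x v ∧ x ∈ pairStab G c a := by
  obtain ⟨i, rfl⟩ := mem_zpowers_iff.1 hx
  exact ⟨E.comm_t.zpow_left i, E.comm_v.zpow_left i, zpow_mem E.mem_σ i⟩

theorem mem_zpowers_σ {x : G} (hx : x ∈ zpowers σ) (hx1 : x ≠ 1) : σ ∈ zpowers x := by
  haveI : Fact (Nat.card ↥(zpowers σ)).Prime := ⟨by rw [Nat.card_zpowers, E.order_σ]; exact E.prime⟩
  rcases Subgroup.eq_bot_or_eq_top_of_prime_card ((zpowers x).subgroupOf (zpowers σ)) with h | h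
  · have h1 : (⟨x, hx⟩ : ↥(zpowers σ)) ∈ (zpowers x).subgroupOf (zpowers σ) := mem_zpowers x
    rw [h, mem_bot] at h1
    exact absurd (congrArg Subtype.val h1) hx1
  · exact mem_subgroupOf.1 (h ▸ Subgroup.mem_top (⟨σ, mem_zpowers σ⟩ : ↥(zpowers σ)))

theorem commute_σ_of {x y : G} (hx : x ∈ zpowers σ) (hx1 : x ≠ 1) (h : Commute x y) : Commute σ y := by
  obtain ⟨i, hi⟩ := mem_zpowers_iff.1 (E.mem_zpowers_σ hx hx1)
  rw [← hi]
  exact h.zpow_left i

theorem eq_t_of_commute {x s : G} (hx : x ∈ zpowers σ) (hx1 : x ≠ 1) (hs : s ∈ invAt G c)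
    (h : Commute x s) : s = t :=
  E.eq_t_of_commute_σ hs (E.commute_σ_of hx hx1 h)

/-- The complement acts freely on `J`. -/
theorem centralizer_J {x j : G} (hx : x ∈ zpowers σ) (hx1 : x ≠ 1) (hj : j ∈ J) (h : Commute x j) : j = 1 := by
  have h1 : Commute x (j * t * j⁻¹) := (h.mul_right (E.σ_pow_comm hx).1).mul_right h.inv_right
  have h2 := E.eq_t_of_commute hx hx1 (invAt_conj_of_fix (E.J_fix hj) E.inv_t) h1
  exact E.semiregular j hj t E.inv_t (show j * t = t * j from mul_inv_eq_iff_eq_mul.1 h2)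

/-- An element of the complement inverting an element of `J` shows that element to be trivial. -/
theorem inverts_J {x j : G} (hx : x ∈ zpowers σ) (hj : j ∈ J) (h : x * j * x⁻¹ = j⁻¹) : j = 1 := by
  by_cases hx1 : x = 1
  · subst hx1
    exact E.eq_one_of_inv_eq hj (by simpa using h)
  by_cases hx2 : x * x = 1
  · have ho : orderOf x ∣ 2 := orderOf_dvd_of_pow_eq_one (by rw [sq]; exact hx2)
    have ho2 : orderOf x ∣ l := E.order_σ ▸ orderOf_dvd_of_mem_zpowers hx
    have := Nat.dvd_gcd ho ho2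
    rw [(Nat.coprime_primes Nat.prime_two E.prime).2 (Ne.symm E.ne_two)] at this
    exact absurd (orderOf_eq_one_iff.1 (Nat.dvd_one.1 this)) hx1
  refine E.centralizer_J (mul_mem hx hx) hx2 hj ?_
  show x * x * j = j * (x * x)
  have h' : x * j⁻¹ * x⁻¹ = j := by
    have := congrArg (·⁻¹) h
    simpa [mul_assoc] using this
  calc x * x * j = x * (x * j * x⁻¹) * x := by group
    _ = x * j⁻¹ * x := by rw [h]
    _ = x * j⁻¹ * x⁻¹ * (x * x) := by group
    _ = _ := by rw [h']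

theorem J_inf {x : G} (hx : x ∈ zpowers σ) (hxJ : x ∈ J) : x = 1 :=
  E.semiregular x hxJ t E.inv_t (E.σ_pow_comm hx).1

/-- The pair stabiliser is the product of `J` and the complement. -/
theorem decomp {d : G} (hd : d ∈ pairStab G c a) : ∃ j ∈ J, ∃ x ∈ zpowers σ, d = j * x := by
  let f : J × ↥(zpowers σ) → ↥(pairStab G c a) :=
    fun p => ⟨(p.1 : G) * p.2, mul_mem (E.le p.1.2) (E.σ_pow_comm p.2.2).2.2⟩
  have hf : Function.Injective f := by
    rintro ⟨j, x⟩ ⟨j', x'⟩ h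
    have h' : (j : G) * x = (j' : G) * x' := congrArg Subtype.val h
    have h1 : (j' : G)⁻¹ * j = (x' : G) * (x : G)⁻¹ := by
      rw [eq_mul_inv_iff_mul_eq, mul_assoc, h', inv_mul_cancel_left]
    have h2 : (x' : G) * (x : G)⁻¹ = 1 :=
      E.J_inf (mul_mem x'.2 (inv_mem x.2)) (h1 ▸ J.mul_mem (J.inv_mem j'.2) j.2)
    rw [h2] at h1
    exact Prod.ext (Subtype.ext (inv_mul_eq_one.1 h1).symm) (Subtype.ext (mul_inv_eq_one.1 h2).symm)
  have hc : Nat.card ↥(pairStab G c a) ≤ Nat.card (J × ↥(zpowers σ)) := by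
    rw [Nat.card_prod, Nat.card_zpowers, E.order_σ, E.card_J, E.card_D, mul_comm]
  obtain ⟨⟨j, x⟩, h⟩ := (hf.bijective_of_nat_card_le hc).2 ⟨d, hd⟩
  exact ⟨j, j.2, x, x.2, (congrArg Subtype.val h).symm⟩

theorem mem_of_commute {d : G} (hd : d ∈ pairStab G c a) (h : Commute d t) : d ∈ zpowers σ := by
  obtain ⟨j, hj, x, hx, rfl⟩ := E.decomp hd
  have : Commute j t := by
    have := h.mul_left (E.σ_pow_comm hx).1.inv_left
    rwa [mul_inv_cancel_right] at this
  rwa [E.semiregular j hj t E.inv_t this, one_mul]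

/-- Outside `J` the pair stabiliser consists of conjugates of the complement. -/
theorem conj_of_notMem {d : G} (hd : d ∈ pairStab G c a) (hdJ : d ∉ J) :
    ∃ k ∈ J, ∃ x ∈ zpowers σ, x ≠ 1 ∧ k * x * k⁻¹ = d := by
  obtain ⟨j, hj, x, hx, rfl⟩ := E.decomp hd
  have hx1 : x ≠ 1 := fun e => hdJ (by rwa [e, mul_one])
  let f : J → J := fun k => ⟨(k : G) * (x * (k : G)⁻¹ * x⁻¹),
    J.mul_mem k.2 (E.normal x (E.σ_pow_comm hx).2.2 _ (J.inv_mem k.2))⟩
  have hf : Function.Injective f := by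
    intro k k' h
    have h' : (k : G) * (x * (k : G)⁻¹ * x⁻¹) = (k' : G) * (x * (k' : G)⁻¹ * x⁻¹) := congrArg Subtype.val h
    refine Subtype.ext (inv_mul_eq_one.1 (E.centralizer_J hx hx1 (J.mul_mem (J.inv_mem k.2) k'.2) ?_))
    show x * ((k : G)⁻¹ * k') = (k : G)⁻¹ * k' * x
    calc x * ((k : G)⁻¹ * k') = (k : G)⁻¹ * ((k : G) * (x * (k : G)⁻¹ * x⁻¹)) * x * k' := by group
      _ = (k : G)⁻¹ * ((k' : G) * (x * (k' : G)⁻¹ * x⁻¹)) * x * k' := by rw [h']
      _ = _ := by group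
  obtain ⟨k, hk⟩ := (Finite.injective_iff_surjective.1 hf) ⟨j, hj⟩
  refine ⟨k, k.2, x, hx, hx1, ?_⟩
  have hk' : (k : G) * (x * (k : G)⁻¹ * x⁻¹) = j := congrArg Subtype.val hk
  rw [← hk']
  group

/-- The elements of the pair stabiliser inverted by a swapper lie in `J`. -/
theorem mem_of_inverted {u d : G} (hu : u ∈ swapAt G c a) (hd : d ∈ pairStab G c a)
    (h : u * d * u⁻¹ = d⁻¹) : d ∈ J := by
  obtain ⟨g, hg, rfl⟩ := E.hyp.exists_conj_swappers E.ne E.swap hu
  have h1 : v * (g⁻¹ * d * g) * v⁻¹ = (g⁻¹ * d * g)⁻¹ := by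
    calc v * (g⁻¹ * d * g) * v⁻¹ = g⁻¹ * (g * v * g⁻¹ * d * (g * v * g⁻¹)⁻¹) * g := by group
      _ = g⁻¹ * d⁻¹ * g := by rw [h]
      _ = _ := by group
  suffices key : g⁻¹ * d * g ∈ J by
    have := E.normal g hg _ key
    simpa [mul_assoc] using this
  obtain ⟨j, hj, x, hx, e⟩ := E.decomp (mul_mem (mul_mem (inv_mem hg) hd) hg)
  rw [e] at h1 ⊢
  rw [← conj_mul, E.inverted j hj, show v * x * v⁻¹ = x from (E.σ_pow_comm hx).2.1.symm.eq ▸ mul_inv_cancel_right x v] at h1
  have h3 : x * x ∈ J := by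
    have h4 : x * x = (x * j⁻¹ * x⁻¹)⁻¹ * j⁻¹ := by
      have h5 : x * j⁻¹ * x = j⁻¹ := by
        calc x * j⁻¹ * x = x * (j⁻¹ * x) := mul_assoc _ _ _
          _ = x * (j * x)⁻¹ := by rw [h1]
          _ = j⁻¹ := by group
      conv_rhs => arg 2; rw [← h5]
      group
    rw [h4]
    exact J.mul_mem (J.inv_mem (E.normal x (E.σ_pow_comm hx).2.2 _ (J.inv_mem hj))) (J.inv_mem hj)
  have h4 := E.J_inf (mul_mem hx hx) h3
  have ho : orderOf x ∣ 2 := orderOf_dvd_of_pow_eq_one (by rw [sq]; exact h4)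
  have ho2 : orderOf x ∣ l := E.order_σ ▸ orderOf_dvd_of_mem_zpowers hx
  have := Nat.dvd_gcd ho ho2
  rw [(Nat.coprime_primes Nat.prime_two E.prime).2 (Ne.symm E.ne_two), Nat.dvd_one, orderOf_eq_one_iff] at this
  rwa [this, mul_one]

/-- An element conjugating a nontrivial element of `J` into `J` lies in the pair stabiliser or its coset by `v`. -/
theorem of_conj {g j : G} (hj : j ∈ J) (hj1 : j ≠ 1) (h : g * j * g⁻¹ ∈ J) :
    g ∈ pairStab G c a ∨ v * g ∈ pairStab G c a := by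
  have h1 : g * j * g⁻¹ ≠ 1 := fun e => hj1 (conj_eq_one_iff.1 e)
  obtain ⟨hc, ha⟩ := mem_pair.1 (E.le hj)
  have hgc := E.fix_two _ h h1 (g • c) (by rw [conj_smul_smul, hc])
  have hga := E.fix_two _ h h1 (g • a) (by rw [conj_smul_smul, ha])
  have hne : g • c ≠ g • a := fun e => E.ne (smul_left_cancel g e)
  rcases hgc with hgc | hgc
  · refine Or.inl (mem_pair.2 ⟨hgc, hga.resolve_left fun e => hne (hgc.trans e.symm)⟩)
  · refine Or.inr (mem_pair.2 ⟨by rw [mul_smul, hgc, E.va], ?_⟩)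
    rw [mul_smul, hga.resolve_right fun e => hne (hgc.trans e.symm), E.swap.2]

theorem mem_normalizer {g : G} :
    g ∈ normalizer (J : Set G) ↔ g ∈ pairStab G c a ∨ v * g ∈ pairStab G c a := by
  have hD : ∀ d ∈ pairStab G c a, d ∈ normalizer (J : Set G) := fun d hd =>
    Subgroup.mem_normalizer_iff.2 fun j => ⟨fun hj => E.normal d hd j hj, fun hj => by
      have := E.normal d⁻¹ (inv_mem hd) _ hj
      simpa [mul_assoc] using this⟩
  constructor
  · intro hg
    obtain ⟨j, hj, hj1⟩ : ∃ j ∈ J, j ≠ 1 := (Subgroup.bot_or_exists_ne_one J).resolve_left fun e => by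
      have := E.seven_le
      rw [← E.card_J, e, Subgroup.card_bot] at this
      omega
    exact E.of_conj hj hj1 ((Subgroup.mem_normalizer_iff.1 hg j).1 hj)
  · rintro (h | h)
    · exact hD g h
    · have hv : v ∈ normalizer (J : Set G) := Subgroup.mem_normalizer_iff.2 fun j =>
        ⟨fun hj => by rw [E.inverted j hj]; exact J.inv_mem hj, fun hj => by
          have := E.inverted _ hj
          rw [E.inv_v] at this hj
          rw [show v * (v * j * v) * v = j by simp [mul_assoc, E.v_mul_v, ← mul_assoc v v]] at this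
          rw [this]
          exact J.inv_mem hj⟩
      have := mul_mem (inv_mem hv) (hD _ h)
      rwa [inv_mul_cancel_left] at this

/-- Nontrivial elements of `J` are self-centralising. -/
theorem centralizer_le {j : G} (hj : j ∈ J) (hj1 : j ≠ 1) : centralizer ({j} : Set G) ≤ J := by
  intro g hg
  rw [mem_centralizer_singleton_iff] at hg
  have h : g * j * g⁻¹ = j := by rw [hg, mul_inv_cancel_right]
  rcases E.of_conj hj hj1 (h.symm ▸ hj) with hd | hd
  · obtain ⟨k, hk, x, hx, rfl⟩ := E.decomp hd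
    by_cases hx1 : x = 1
    · rwa [hx1, mul_one]
    refine absurd (E.centralizer_J hx hx1 hj ?_) hj1
    show x * j = j * x
    calc x * j = k⁻¹ * (k * x * j) := by group
      _ = k⁻¹ * (j * (k * x)) := by rw [hg]
      _ = k⁻¹ * (j * k) * x := by group
      _ = _ := by rw [E.comm_J j hj k hk, inv_mul_cancel_left]
  · exfalso
    obtain ⟨k, hk, x, hx, e⟩ := E.decomp hd
    have hg' : g = v * (k * x) := by rw [← e, ← mul_assoc, E.v_mul_v, one_mul]
    refine hj1 (E.inverts_J hx hj ?_)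
    have h1 : v * (k * x * j * (k * x)⁻¹) * v⁻¹ = j := by
      have h' := h
      rw [hg'] at h'
      refine Eq.trans ?_ h'
      group
    have h2 : k * x * j * (k * x)⁻¹ = j⁻¹ := by
      have h3 := E.inverted _ (E.normal (k * x) (mul_mem (E.le hk) (E.σ_pow_comm hx).2.2) j hj)
      rw [h3] at h1
      rw [← inv_inv (k * x * j * (k * x)⁻¹), h1]
    have hxJ := E.normal x (E.σ_pow_comm hx).2.2 j hj
    calc x * j * x⁻¹ = k⁻¹ * (k * x * j * (k * x)⁻¹) * k := by group
      _ = k⁻¹ * (j⁻¹ * k) := by rw [h2, mul_assoc]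
      _ = _ := by rw [E.comm_J _ (J.inv_mem hj) k hk, inv_mul_cancel_left]

theorem card_centralizer {j : G} (hj : j ∈ J) (hj1 : j ≠ 1) :
    centralizer ({j} : Set G) = J :=
  le_antisymm (E.centralizer_le hj hj1) fun x hx => mem_centralizer_singleton_iff.2 (E.comm_J x hx j hj)

theorem index_normalizer : (J.subgroupOf (normalizer (J : Set G))).index = 2 * l := by
  obtain ⟨D, hD⟩ : ∃ D, D = pairStab G c a := ⟨_, rfl⟩
  have hDN : D ≤ normalizer (J : Set G) := fun d hd => E.mem_normalizer.2 (Or.inl (hD ▸ hd))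
  have hvD : v ∉ pairStab G c a := fun h => E.ne ((mem_pair.1 h).1.symm.trans E.swap.2)
  have hvN : v ∈ normalizer (J : Set G) := E.mem_normalizer.2 (Or.inr (by rw [E.v_mul_v]; exact one_mem _))
  have h2 : (D.subgroupOf (normalizer (J : Set G))).index = 2 := by
    refine Subgroup.index_eq_two_iff.2 ⟨⟨v, hvN⟩, fun b => ?_⟩
    simp only [Subgroup.mem_subgroupOf, Subgroup.coe_mul, hD]
    rcases E.mem_normalizer.1 b.2 with h | h
    · refine Or.inr ⟨h, fun h' => hvD ?_⟩
      simpa using mul_mem (inv_mem h) h'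
    · refine Or.inl ⟨?_, fun h' => hvD ?_⟩
      · have h' := E.conj_v_mem h
        rwa [E.inv_v, ← mul_assoc v v, E.v_mul_v, one_mul] at h'
      · simpa [mul_assoc] using mul_mem h (inv_mem h')
  have h3 := (D.subgroupOf (normalizer (J : Set G))).index_mul_card
  rw [h2, Nat.card_congr (subgroupOfEquivOfLe hDN).toEquiv, hD, E.card_D,
    ← (J.subgroupOf (normalizer (J : Set G))).index_mul_card,
    Nat.card_congr (subgroupOfEquivOfLe le_normalizer).toEquiv, E.card_J, ← mul_assoc] at h3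
  have := E.seven_le
  exact (Nat.eq_of_mul_eq_mul_right (by omega) h3).symm

end Exc

end Cfsg.Agent.Invol.Bender
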