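import Cfsg.Agent.Lib.Invol.Bender.SplitFacts

/-!
# A point stabiliser is maximal
-/

set_option autoImplicit false
set_option linter.unusedSectionVars false

namespace Cfsg.Agent.Invol.Bender

open MulAction Subgroup

universe u v

variable {G : Type u} {Ω : Type v} [Group G] [MulAction G Ω] [Finite G]

/-- A point stabiliser is a maximal subgroup. -/
theorem hmax (U : Hyp G Ω) (hr : TwoRank (⊤ : Subgroup G)) (hB : SplitBelow G Ω) {a : Ω} {M : Subgroup G}
    (hM : stabilizer G a < M) : M = ⊤ := by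
  classical
  haveI := U.finite_points
  by_contra htop
  obtain ⟨g₀, hg₀M, hg₀⟩ := SetLike.exists_of_lt hM
  obtain ⟨i, hi2, hia⟩ := U.invol_at a
  have hiM : i ∈ M := hM.le (mem_stabilizer_iff.2 hia)
  have hac : a ∈ cen Ω M := ⟨i, hiM, hi2, hia⟩
  have hne : (cen Ω M).Nontrivial :=
    ⟨a, hac, g₀ • a, mem_cen_smul hg₀M hac, fun h => hg₀ (mem_stabilizer_iff.2 h.symm)⟩
  have h2 : TwoRank M := by
    obtain ⟨x, -, y, -, hx2, hy2, hxy, hc⟩ := hr
    obtain ⟨c, hxc⟩ := U.exists_fix x hx2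
    have hyc : y • c = c := U.fix_of_commute hx2 hxc hc.symm
    obtain ⟨g, hgc⟩ := U.exists_smul_eq c a
    refine ⟨g * x * g⁻¹, hM.le (mem_stabilizer_iff.2 ?_), g * y * g⁻¹, hM.le (mem_stabilizer_iff.2 ?_),
      (orderOf_conj_eq g x).trans hx2, (orderOf_conj_eq g y).trans hy2, fun h => hxy ?_, ?_⟩
    · rw [← hgc, conj_smul_smul, hxc]
    · rw [← hgc, conj_smul_smul, hyc]
    · exact mul_left_cancel (mul_right_cancel h)
    · show g * x * g⁻¹ * (g * y * g⁻¹) = g * y * g⁻¹ * (g * x * g⁻¹)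
      calc g * x * g⁻¹ * (g * y * g⁻¹) = g * (x * y) * g⁻¹ := by group
        _ = g * (y * x) * g⁻¹ := by rw [hc.eq]
        _ = _ := by group
  have hS : Split Ω M := hB M htop hne h2
  have hstab : ∀ d ∈ cen Ω M, stabilizer G d ≤ M := fun d hd x hx => by
    obtain ⟨g, hg, hgd⟩ := U.exists_smul_cen hS hac hd
    have h3 : g⁻¹ * x * g ∈ M := hM.le (mem_stabilizer_iff.2 (by
      rw [mul_smul, mul_smul, hgd, mem_stabilizer_iff.1 hx, inv_smul_eq_iff, hgd]))
    have h4 := mul_mem (mul_mem hg h3) (Subgroup.inv_mem _ hg)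
    convert h4 using 1
    group
  by_cases hall : ∀ y : Ω, y ∈ cen Ω M
  · refine htop (eq_top_iff.2 fun g _ => ?_)
    obtain ⟨m, hm, hma⟩ := U.exists_smul_cen hS hac (hall (g • a))
    have h3 : m⁻¹ * g ∈ M := hM.le (mem_stabilizer_iff.2 (by rw [mul_smul, inv_smul_eq_iff, hma]))
    simpa using mul_mem hm h3
  push Not at hall
  obtain ⟨y, hy⟩ := hall
  have hey : ∀ d ∈ cen Ω M, d ≠ y := fun d hd h => hy (h ▸ hd)
  have hle : ∀ d ∈ cen Ω M, pairStab G d y ≤ M ⊓ stabilizer G d :=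
    fun d hd => le_inf (inf_le_left.trans (hstab d hd)) inf_le_left
  have hex : ∀ d : cen Ω M, ∃ f : cen Ω M, (f : Ω) ≠ d ∧ pairStab G (d : Ω) y ≤ stabilizer G (f : Ω) := by
    rintro ⟨d, hd⟩
    obtain ⟨Q, hQ⟩ := hS d hd
    obtain ⟨f, hf, hfd, hAf⟩ := U.exists_fix_centre hne hQ (hle d hd) (U.odd_pair (hey d hd))
    exact ⟨⟨f, hf⟩, hfd, hAf⟩
  choose e he hAe using hex
  have hinv : ∀ d : cen Ω M, e (e d) = d := fun d => by
    by_contra hcon
    obtain ⟨Q, hQ⟩ := hS d d.2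
    have h3 : pairStab G (d : Ω) y ≤ pairStab G (e d : Ω) y := le_inf (hAe d) inf_le_right
    have h4 := U.fix_centre_unique hS hne d.2 hQ h2 (hle d d.2)
      (fun s _ hs t _ ht => U.exists_conj_invAt (hey d d.2) hs ht) (e (e d)).2
      (fun h => hcon (Subtype.ext h)) (h3.trans (hAe (e d))) (e d).2 (he d) (hAe d)
    exact he (e d) h4
  -- a fixed point free involution of an odd set
  have := Fintype.ofFinite (cen Ω M)
  have h0 : ∑ _d : cen Ω M, (1 : ZMod 2) = 0 :=
    Finset.sum_involution (fun d _ => e d) (fun _ _ => by decide) (fun d _ _ h => he d (congrArg Subtype.val h))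
      (fun _ _ => Finset.mem_univ _) (fun d _ => hinv d)
  have h1 : ∑ d ∈ (Finset.univ.erase (⟨a, hac⟩ : cen Ω M)), (1 : ZMod 2) = 0 := by
    refine Finset.sum_involution (fun d _ => ⟨i • (d : Ω), mem_cen_smul hiM d.2⟩) (fun _ _ => by decide)
      (fun d hd _ h => ?_) (fun d hd => ?_) (fun d _ => Subtype.ext (by
        show i • i • (d : Ω) = d
        rw [← mul_smul, mul_self_of_orderOf_two hi2, one_smul]))
    · exact (Finset.mem_erase.1 hd).1 (Subtype.ext (U.fix_eq ⟨hi2, hia⟩ (congrArg Subtype.val h)))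
    · refine Finset.mem_erase.2 ⟨fun h => (Finset.mem_erase.1 hd).1 (Subtype.ext ?_), Finset.mem_univ _⟩
      exact smul_left_cancel i ((congrArg Subtype.val h).trans hia.symm)
  rw [← Finset.add_sum_erase _ _ (Finset.mem_univ (⟨a, hac⟩ : cen Ω M)), h1, add_zero] at h0
  exact one_ne_zero h0

end Cfsg.Agent.Invol.Bender
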