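import Cfsg.Agent.Lib.Invol.Bender.KerLocal
import Cfsg.Agent.Lib.Invol.Bender.Spec

/-!
# No special element in a kernel when all pairs are improper

If the involutions at any two points generate the group, no subgroup of 2-rank two with two centres has a special
element in its kernel.
-/

set_option autoImplicit false
set_option linter.unusedSectionVars false

namespace Cfsg.Agent.Invol.Bender

open MulAction Subgroup Cfsg.Agent.Transfer.Loc
open scoped Pointwise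

universe u v

variable {G : Type u} [Group G] [Finite G] {Ω : Type v} [MulAction G Ω]

/-- A proper subgroup of 2-rank two with a special element for one centre fixing another centre. -/
structure CfgAt (p : ℕ) (M : Subgroup G) (γ b : Ω) (i u : G) : Prop where
  proper : M ≠ ⊤
  rank : TwoRank M
  u_mem : u ∈ M
  i_mem : i ∈ M
  special : Special i u γ
  pgroup : IsPGroup p (Subgroup.zpowers i)
  b_mem : b ∈ cen Ω M
  ne : b ≠ γ
  fix : i • b = b

variable {p : ℕ} {M : Subgroup G} {γ b : Ω} {i u : G}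

theorem CfgAt.mem_cen (h : CfgAt p M γ b i u) : γ ∈ cen Ω M := ⟨u, h.u_mem, h.special.invol⟩

theorem CfgAt.nontrivial (h : CfgAt p M γ b i u) : (cen Ω M).Nontrivial := ⟨γ, h.mem_cen, b, h.b_mem, h.ne.symm⟩

theorem CfgAt.mem_ker (U : Hyp G Ω) (hB : SplitBelow G Ω) (h : CfgAt p M γ b i u) : i ∈ ker Ω M := by
  obtain ⟨Q, hQ⟩ := hB M h.proper h.nontrivial h.rank γ h.mem_cen
  exact U.real_mem_ker h.nontrivial hQ h.u_mem h.special.invol h.i_mem h.special.odd h.special.inverted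
    (h.special.fix U) h.b_mem h.ne h.fix

variable [hp : Fact p.Prime]

/-- There is no such subgroup when all pairs are improper. -/
theorem CfgAt.false_of_improper (U : Hyp G Ω) [FaithfulSMul G Ω] (hp2 : p ≠ 2) (hB : SplitBelow G Ω)
    (hI : Improper G Ω) (h₀ : CfgAt p M γ b i u) : False := by
  classical
  haveI := U.finite_points
  let S : Set (Subgroup G × Ω × Ω) := {t | ∃ i u, CfgAt p t.1 t.2.1 t.2.2 i u}
  obtain ⟨⟨M₁, γ₁, b₁⟩, ⟨i₁, u₁, h⟩, hmax⟩ := Set.exists_max_image S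
    (fun t => p ^ (Nat.card ↥(t.1 ⊓ pairStab G t.2.1 t.2.2)).factorization p) (Set.toFinite _)
    ⟨⟨M, γ, b⟩, i, u, h₀⟩
  replace h : CfgAt p M₁ γ₁ b₁ i₁ u₁ := h
  clear h₀
  have hcen := h.nontrivial
  have hγ := h.mem_cen
  have hS := hB M₁ h.proper hcen h.rank
  have hiK := h.mem_ker U hB
  -- an invariant Sylow subgroup of the pair stabiliser
  obtain ⟨w, hwM, hw⟩ := U.exists_swap_mem hS hγ h.b_mem h.ne.symm
  have hwD : w ∈ normalizer (pairStab G γ₁ b₁ : Set G) := mem_normalizer_fintype fun y hy => by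
    obtain ⟨h1, h2⟩ := mem_pair.1 hy
    refine mem_pair.2 ⟨?_, ?_⟩
    · conv_lhs => rw [← swap_symm hw.1 hw.2]
      rw [conj_smul_smul, h2, swap_symm hw.1 hw.2]
    · conv_lhs => rw [← hw.2]
      rw [conj_smul_smul, h1, hw.2]
  have hwMD : w ∈ normalizer ((M₁ ⊓ pairStab G γ₁ b₁ : Subgroup G) : Set G) := mem_normalizer_fintype fun y hy =>
    ⟨mul_mem (mul_mem hwM hy.1) (Subgroup.inv_mem _ hwM), conj_mem_of_normalizer hwD hy.2⟩
  have hoddD := U.odd_pair h.ne.symm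
  obtain ⟨P, hP, hwP⟩ := Grp.exists_invariant_sylow (Subgroup.zpowers w) (M₁ ⊓ pairStab G γ₁ b₁)
    (zpowers_le_normalizer hwMD)
    (coprime_two_odd hw.1 (hoddD.of_dvd_nat (Subgroup.card_dvd_of_le inf_le_right))) (Or.inl inferInstance) p
  have hwP' : w ∈ normalizer (P : Set G) := hwP (mem_zpowers w)
  have hPD : P ≤ pairStab G γ₁ b₁ := hP.1.trans inf_le_right
  have hPodd : Odd (Nat.card P) := hoddD.of_dvd_nat (Subgroup.card_dvd_of_le hPD)
  obtain ⟨e, heM, f, hfM, he, hf, hef, hc, heZ, hfZ, heV, hfV⟩ :=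
    U.exists_four_zj hp2 hS h.rank h.special hiK hγ h.pgroup hγ h.b_mem h.ne hP
  have hKD : ker Ω M₁ ≤ M₁ ⊓ pairStab G γ₁ b₁ := fun x hx =>
    ⟨ker_le hx, mem_pair.2 ⟨ker_fix hx hγ, ker_fix hx h.b_mem⟩⟩
  have hV : Grp.IsSylowIn p (P ⊓ ker Ω M₁) (ker Ω M₁) :=
    isSylowIn_inf_normal hP hKD (inf_le_left.trans le_normalizer_ker)
  have hnc : ∃ v ∈ (P ⊓ ker Ω M₁ : Subgroup G), ¬ Commute f v :=
    U.not_centralise hS hcen h.special hiK hγ h.pgroup hV hfM hf.1
  obtain ⟨i', hi', hs'⟩ := exists_special (P ⊓ ker Ω M₁)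
    (hPodd.of_dvd_nat (Subgroup.card_dvd_of_le inf_le_left)) he.1 hf hc hef heV hfV hnc
  obtain ⟨hi'P, hi'K⟩ := Subgroup.mem_inf.1 hi'
  have hP1 : P ≠ ⊥ := fun e' => hs'.ne_one (mem_bot.1 (e' ▸ hi'P))
  have hF := isZJFunctor_centerThompsonA.{u} (p := p)
  obtain ⟨M', hM'⟩ : ∃ M', M' = normalizer (Cfsg.centerThompsonAOf P : Set G) := ⟨_, rfl⟩
  have hM'top : M' ≠ ⊤ := hM' ▸ U.normalizer_ne_top (hF.ne_bot hP.2.1 hP1)
    ((hF.le P).trans (hPD.trans inf_le_left))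
  have hNP : normalizer (P : Set G) ≤ M' := hM' ▸ hF.normalizer_le P
  have hPM' : P ≤ M' := le_normalizer.trans hNP
  rw [← hM'] at heZ hfZ
  have h2' : TwoRank M' := ⟨e, heZ, f, hfZ, he.1, hf.1, hef, hc⟩
  have hwM' : w ∈ M' := hNP hwP'
  have hγ' : γ₁ ∈ cen Ω M' := ⟨f, hfZ, hf⟩
  have hb' : b₁ ∈ cen Ω M' := hw.2 ▸ mem_cen_smul hwM' hγ'
  have h' : CfgAt p M' γ₁ b₁ i' f := ⟨hM'top, h2', hfZ, hPM' hi'P, hs',
    hP.2.1.to_le (zpowers_le.2 hi'P), hb', h.ne, ker_fix hi'K h.b_mem⟩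
  -- maximality makes `P` a Sylow subgroup of the pair stabiliser
  have hPsyl : Grp.IsSylowIn p P (pairStab G γ₁ b₁) := by
    by_contra hnot
    obtain ⟨Z, hlt, hZD, hZp, hZn⟩ := exists_larger hP.2.1 hPD hnot
    have hZ' : Z ≤ M' ⊓ pairStab G γ₁ b₁ := le_inf (hZn.trans hNP) hZD
    obtain ⟨T, hT⟩ := (hZp.of_equiv (subgroupOfEquivOfLe hZ').symm).exists_le_sylow
    have hTin : Grp.IsSylowIn p _ (M' ⊓ pairStab G γ₁ b₁) := Grp.isSylowIn_iff.2 ⟨T, rfl⟩
    have h1 := hmax ⟨M', γ₁, b₁⟩ ⟨i', f, h'⟩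
    dsimp only at h1
    rw [← hP.card, ← hTin.card] at h1
    refine hlt.ne (Subgroup.eq_of_le_of_card_ge hlt.le (le_trans ?_ h1))
    exact Subgroup.card_le_of_le fun x hx => ⟨⟨x, hZ' hx⟩, hT (mem_subgroupOf.2 hx), rfl⟩
  have hcen' := h'.nontrivial
  have hS' := hB M' hM'top hcen' h2'
  have hi'K' := h'.mem_ker U hB
  obtain ⟨V', hV'def⟩ : ∃ V', V' = P ⊓ ker Ω M' := ⟨_, rfl⟩
  have hPsyl' : Grp.IsSylowIn p P (M' ⊓ pairStab G γ₁ b₁) := ⟨le_inf hPM' hPD, hP.2.1, fun hd => hPsyl.2.2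
    (hd.trans ⟨_, (Subgroup.relIndex_mul_relIndex P _ _ (le_inf hPM' hPD) inf_le_right).symm⟩)⟩
  have hV' : Grp.IsSylowIn p V' (ker Ω M') := hV'def ▸ isSylowIn_inf_normal hPsyl'
    (fun x hx => ⟨ker_le hx, mem_pair.2 ⟨ker_fix hx hγ', ker_fix hx hb'⟩⟩) (inf_le_left.trans le_normalizer_ker)
  have hi'V' : i' ∈ V' := hV'def ▸ ⟨hi'P, hi'K'⟩
  have hV'P : V' ≤ P := hV'def ▸ inf_le_left
  have hwV' : w ∈ normalizer (V' : Set G) := mem_normalizer_fintype fun y hy => by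
    rw [hV'def] at hy ⊢
    exact ⟨conj_mem_of_normalizer hwP' hy.1, ker_conj_mem hwM' hy.2⟩
  obtain ⟨δ, hwδ⟩ := U.exists_fix w hw.1
  have hwδ' : w ∈ invAt G δ := ⟨hw.1, hwδ⟩
  have hδγ : δ ≠ γ₁ := fun e' => h.ne (by rw [← hw.2, ← e', hwδ])
  have hδb : δ ≠ b₁ := fun e' => h.ne (smul_left_cancel w (by rw [swap_symm hw.1 hw.2, hw.2, ← swap_symm hw.1 hw.2,
    ← e', hwδ]))
  have hδ' : δ ∈ cen Ω M' := ⟨w, hwM', hwδ'⟩
  -- a special element for the centre of the swapper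
  obtain ⟨e', he'M, he'V, he'2, he'w, he'c⟩ := U.exists_partner h2' hcen' hV' hwM' hw.1 hwV'
  obtain ⟨j, hjV, hj⟩ := exists_special V' (hPodd.of_dvd_nat (Subgroup.card_dvd_of_le hV'P)) he'2 hwδ' he'c he'w
    he'V hwV' (U.not_centralise hS' hcen' hs' hi'K' hγ' h'.pgroup hV' hwM' hw.1)
  obtain ⟨X, hX⟩ : ∃ X, X = O' p (pairStab G γ₁ b₁) := ⟨_, rfl⟩
  have hXD : X ≤ pairStab G γ₁ b₁ := hX ▸ O'_le p _
  have hXcop : (Nat.card X).Coprime p := hX ▸ O'_coprime _
  have hDX : pairStab G γ₁ b₁ ≤ normalizer (X : Set G) := hX ▸ le_normalizer_core' _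
  have hwX : w ∈ normalizer (X : Set G) := hX ▸ mem_normalizer_O' hwD
  have hjcop : (orderOf j).Coprime (Nat.card X) := by
    obtain ⟨m, hm⟩ := hP.2.1 ⟨j, hV'P hjV⟩
    exact ((hXcop.symm).pow_left m).coprime_dvd_left (orderOf_dvd_of_pow_eq_one (congrArg Subtype.val hm))
  have hXδ : X ≤ stabilizer G δ := le_stabilizer_of_special hw.1 (fun c hc => U.commute_fix hwδ' hc)
    (fun c hc => hj.commute_fix U hc) hj.odd hj.inverted _ X rfl
    (hoddD.of_dvd_nat (Subgroup.card_dvd_of_le hXD)) hjcop hwX (hDX (hPD (hV'P hjV)))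
  -- carry the pair to the pair of `γ₁` and the centre of the swapper
  obtain ⟨g, hg, hgγ, hgb⟩ := U.two_trans_cen hS' hγ' hb' hγ' hδ' h.ne.symm hδγ.symm
  obtain ⟨n, hnM, hnV, hn⟩ := U.exists_frattini hV' hg
  have hnγ : n • γ₁ = γ₁ := by rw [hn _ hγ', hgγ]
  have hnb : n • b₁ = δ := by rw [hn _ hb', hgb]
  obtain ⟨D', hD'⟩ : ∃ D', D' = pairStab G γ₁ δ := ⟨_, rfl⟩
  have hconj : ∀ x, x ∈ pairStab G γ₁ b₁ ↔ n * x * n⁻¹ ∈ D' := fun x => by
    rw [hD', mem_pair, mem_pair]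
    refine and_congr ?_ ?_
    · constructor
      · intro hx; conv_lhs => rw [← hnγ]
        rw [conj_smul_smul, hx, hnγ]
      · intro hx
        rw [← hnγ, conj_smul_smul] at hx
        exact smul_left_cancel n hx
    · rw [← hnb, conj_smul_smul]
      exact ⟨fun hx => by rw [hx], fun hx => smul_left_cancel n hx⟩
  have hDn : MulAut.conj n • pairStab G γ₁ b₁ = D' := by
    ext x
    rw [Grp.mem_smul_conj, hconj]
    rw [show n * (n⁻¹ * x * n) * n⁻¹ = x by group]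
  have hSyl : Grp.IsSylowIn p (MulAut.conj n • P) D' := by
    refine ⟨hDn ▸ Subgroup.pointwise_smul_le_pointwise_smul_iff.2 hPD, hP.2.1.map _, ?_⟩
    rw [← hDn, Grp.relIndex_smul]
    exact hPsyl.2.2
  have hVn : MulAut.conj n • V' = V' := Grp.normalizer_le_smul (le_refl (normalizer (V' : Set G))) hnV
  haveI : Group.IsSolvable D' := solvable_of_odd (hD' ▸ U.odd_pair hδγ.symm)
  have hX' : X ≤ O' p D' := by
    refine le_O'_of_self_centralizing hSyl (V := V') ?_ ?_ ?_ ?_ hXcop ((hV'P.trans hPD).trans hDX)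
    · rw [← hVn]; exact Subgroup.pointwise_smul_le_pointwise_smul_iff.2 hV'P
    · rintro _ ⟨x, hx, rfl⟩
      have hxV : x ∈ normalizer (V' : Set G) := mem_normalizer_fintype fun y hy => by
        rw [hV'def] at hy ⊢
        exact ⟨mul_mem (mul_mem hx hy.1) (Subgroup.inv_mem _ hx), ker_conj_mem (hPM' hx) hy.2⟩
      exact mul_mem (mul_mem hnV hxV) (inv_mem hnV)
    · rintro _ ⟨x, hx, rfl⟩ hcx
      have hxK : x ∈ ker Ω M' := U.mem_ker_of_centralise hS' hs' hγ' hV' hi'V' (hPM' hx) fun v hv => by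
        have h1 := (hcx _ (conj_mem_of_normalizer hnV hv)).conj n⁻¹
        simpa [mul_assoc] using h1
      exact conj_mem_of_normalizer hnV (hV'def ▸ ⟨hx, hxK⟩)
    · exact hD' ▸ le_inf (hXD.trans inf_le_left) hXδ
  have hback : MulAut.conj n⁻¹ • O' p D' ≤ X := by
    rw [hX]
    refine le_O' ?_ ?_ ?_
    · intro x hx
      rw [Grp.mem_smul_conj] at hx
      have := O'_le p D' hx
      rw [hconj]
      simpa using this
    · intro d hd
      refine mem_normalizer_fintype fun y hy => ?_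
      simp only [SetLike.mem_coe, Grp.mem_smul_conj] at hy ⊢
      have h1 := conj_mem_of_normalizer (le_normalizer_core' D' ((hconj d).1 hd)) hy
      convert h1 using 1
      group
    · rw [← Nat.card_congr (Subgroup.equivSMul (MulAut.conj n⁻¹) _).toEquiv]
      exact O'_coprime D'
  have hcardb : Nat.card ↥(O' p D') ≤ Nat.card X :=
    le_trans (Nat.card_congr (Subgroup.equivSMul (MulAut.conj n⁻¹) _).toEquiv).le (Subgroup.card_le_of_le hback)
  have hXeq : O' p D' = X := (Subgroup.eq_of_le_of_card_ge hX' hcardb).symm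
  have hnX : n⁻¹ ∈ normalizer (X : Set G) := mem_normalizer_fintype fun y hy => by
    refine hback ?_
    rw [hXeq, Grp.mem_smul_conj]
    simpa [mul_assoc] using hy
  by_cases hXb : X = ⊥
  · -- the centre of the Thompson subgroup is normal in the pair stabiliser
    have hDM' : pairStab G γ₁ b₁ ≤ M' := hM' ▸ le_normalizer_zj hp2 hoddD (hX.symm.trans hXb) hPsyl
    have hall : ∀ t ∈ invAt G γ₁, t ∈ M' := fun t ht => by
      obtain ⟨x, hx, rfl⟩ := U.exists_conj_invAt h.ne.symm hf ht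
      exact mul_mem (mul_mem (hDM' hx) hfZ) (inv_mem (hDM' hx))
    refine hM'top (top_unique ((hI γ₁ b₁ h.ne.symm).ge.trans ((Subgroup.closure_le _).2 ?_)))
    rintro t (ht | ht)
    · exact hall t ht
    · have h1 : w * t * w⁻¹ ∈ M' := hall _ ⟨(orderOf_conj_eq w t).trans ht.1, by
        conv_lhs => rw [← swap_symm hw.1 hw.2]
        rw [conj_smul_smul, ht.2, swap_symm hw.1 hw.2]⟩
      have h2 := mul_mem (mul_mem (inv_mem hwM') h1) hwM'
      simpa [mul_assoc] using h2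
  · refine U.normalizer_ne_top hXb (hXD.trans inf_le_left) ?_
    have hnd : δ ≠ n • δ := fun e'' => hδb (smul_left_cancel n (e''.symm.trans hnb.symm))
    refine top_unique ((hI δ (n • δ) hnd).ge.trans ((Subgroup.closure_le _).2 ?_))
    have hall : ∀ t ∈ invAt G δ, t ∈ normalizer (X : Set G) := fun t ht => by
      obtain ⟨x, hx, rfl⟩ := U.exists_conj_invAt hδγ hwδ' ht
      have hxD : x ∈ D' := hD' ▸ mem_pair.2 ⟨(mem_pair.1 hx).2, (mem_pair.1 hx).1⟩
      have hxX : x ∈ normalizer (X : Set G) := hXeq ▸ le_normalizer_core' D' hxD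
      exact mul_mem (mul_mem hxX hwX) (inv_mem hxX)
    rintro t (ht | ht)
    · exact hall t ht
    · have h1 : n⁻¹ * t * n ∈ normalizer (X : Set G) := hall _ ⟨by
        rw [show n⁻¹ * t * n = n⁻¹ * t * n⁻¹⁻¹ by group, orderOf_conj_eq]; exact ht.1, by
        rw [mul_smul, mul_smul, ht.2, inv_smul_smul]⟩
      have h2 := mul_mem (mul_mem (inv_mem hnX) h1) hnX
      simpa [mul_assoc] using h2

omit hp in
/-- When all pairs are improper no proper subgroup of 2-rank two has a special element in its kernel. -/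
theorem noKernelSpecial_of_improper (U : Hyp G Ω) [FaithfulSMul G Ω] (hB : SplitBelow G Ω) (hI : Improper G Ω) :
    NoKernelSpecial G Ω := by
  intro M hM hcen h2 i u d huM hs hi
  obtain ⟨p, hp, hpd⟩ := Nat.exists_prime_and_dvd (fun h => hs.ne_one (orderOf_eq_one_iff.1 h))
  haveI : Fact p.Prime := ⟨hp⟩
  have hp2 : p ≠ 2 := fun e => Nat.not_even_iff_odd.2 hs.odd (even_iff_two_dvd.2 (e ▸ hpd))
  obtain ⟨k, hk⟩ := hpd
  have hk0 : k ≠ 0 := fun e => by
    have h0 := orderOf_pos i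
    rw [e, mul_zero] at hk; omega
  have hord : orderOf (i ^ k) = p := by
    rw [orderOf_pow_of_dvd hk0 ⟨p, by rw [hk, mul_comm]⟩, hk, Nat.mul_div_cancel _ (Nat.pos_of_ne_zero hk0)]
  have hik : i ^ k ≠ 1 := fun e => hp.ne_one (by rw [← hord, e, orderOf_one])
  obtain ⟨b, hb, hbd⟩ := hcen.exists_ne d
  have hiK := pow_mem hi k
  exact (CfgAt.mk hM h2 huM (ker_le hiK) (hs.pow hik)
    (IsPGroup.of_card (n := 1) (by rw [Nat.card_zpowers, hord, pow_one])) hb hbd (ker_fix hiK hb)).false_of_improper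
    U hp2 hB hI

end Cfsg.Agent.Invol.Bender
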