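import Cfsg.Agent.Lib.Invol.Bender.SplitOfRegular
import Cfsg.Agent.Lib.Invol.Bender.Conj

/-!
# The induction in the proof of Bender's theorem

It is enough to prove, for a faithful action and granted the theorem for all smaller groups, double transitivity,
the three facts of the interface and a regular normal subgroup of each point stabiliser.
-/

set_option autoImplicit false
set_option linter.unusedSectionVars false

namespace Cfsg.Agent.Invol.Bender

open MulAction Subgroup

universe u

/-- What has to be proved in one faithful action: two-transitivity and the regular normal subgroups. -/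
def Step : Prop :=
  ∀ (G Ω : Type u) [Group G] [Finite G] [MulAction G Ω] [FaithfulSMul G Ω], Hyp G Ω → TwoRank (⊤ : Subgroup G) →
    Below.{u} (Nat.card G) →
      (∀ c a c' a' : Ω, c ≠ a → c' ≠ a' → ∃ g : G, g • c = c' ∧ g • a = a') ∧ ∀ c : Ω, HasRegular G Ω c

theorem Below.mono {m n : ℕ} (h : Below.{u} n) (hmn : m ≤ n) : Below.{u} m :=
  fun G' Ω' _ _ _ hlt U hr => h G' Ω' (lt_of_lt_of_le hlt hmn) U hr

/-- The inductive hypothesis holds for every order. -/
theorem below_of_step (hS : Step.{u}) : ∀ n, Below.{u} n := by
  intro n
  induction n using Nat.strong_induction_on with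
  | _ n ih =>
  intro G Ω _ _ _ hlt U hr
  have hcard : Nat.card (image G Ω) ≤ Nat.card G :=
    Nat.card_le_card_of_surjective _ (toImage_surjective (G := G) (Ω := Ω))
  have hb : Below.{u} (Nat.card (image G Ω)) := ih _ (lt_of_le_of_lt hcard hlt)
  obtain ⟨h2, hQ⟩ := hS (image G Ω) Ω U.image (twoRank_image U hr) hb
  exact split_of_image U (split_of_hasRegular U.image (twoRank_image U hr) h2 hQ)

end Cfsg.Agent.Invol.Bender
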