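import Cfsg.Agent.Lib.Invol.OddTransitive.Main

/-!
# The field automorphisms of a transitive semilinear group of odd order

A group of odd order transitive on the nonzero vectors of a space over two elements, with an element of order one
less than the number of vectors, maps to a cyclic group so that the fixed vectors are read off from the image.
-/

set_option autoImplicit false

namespace Cfsg.Agent.Invol.Bender

open Cfsg.Agent.Recog Cfsg.Agent.Recog.HuppertCases

universe u v

theorem mul_lt_pow_mul {g o : ℕ} (hg : 0 < g) (ho : 2 ≤ o) : o * (2 ^ g - 1) < 2 ^ (g * o) - 1 := by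
  obtain ⟨x, hx⟩ : ∃ x, 2 ^ g = x + 2 := ⟨_, (Nat.sub_add_cancel (Nat.le_self_pow hg.ne' 2)).symm⟩
  have key : o * (x + 1) + 1 < (x + 2) ^ o := by
    induction o, ho using Nat.le_induction with
    | base => nlinarith
    | succ o ho ih =>
      have h1 := Nat.mul_lt_mul_of_pos_right ih (show 0 < x + 2 by omega)
      rw [pow_succ]
      have h2 : 0 ≤ o * (x + 1) * x := Nat.zero_le _
      nlinarith [Nat.mul_le_mul_right (x + 1) ho]
  rw [pow_mul, hx]
  simp only [show x + 2 - 1 = x + 1 by omega]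
  omega

variable {V : Type v} [AddCommGroup V] [Module (ZMod 2) V] [Finite V] [Nontrivial V]
  {R : Type u} [Group R] [Finite R] {ρ : R →* (V ≃ₗ[ZMod 2] V)}

/-- The field automorphism part of a semilinear group. -/
theorem exists_galois (hR : Odd (Nat.card R)) (hρ : Function.Injective ρ) (ht : Trans ρ) {f : R}
    (hf : orderOf f + 1 = 2 ^ Module.finrank (ZMod 2) V) :
    ∃ (Γ : Type) (_ : Group Γ) (_ : Finite Γ) (_ : IsCyclic Γ) (ψ : R →* Γ), ψ f = 1 ∧
      (∀ g : R, orderOf (ψ g) ∣ Module.finrank (ZMod 2) V) ∧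
      (∀ g : R, ∀ w : V, w ≠ 0 → ρ g w = w → (ψ g = 1 → g = 1) ∧
        Nat.card {x : V // ρ g x = x} = 2 ^ (Module.finrank (ZMod 2) V / orderOf (ψ g))) ∧
      (∀ g : R, orderOf g = orderOf (ψ g) → ∃ w : V, w ≠ 0 ∧ ρ g w = w) := by
  classical
  obtain ⟨F, _, _, e, hF⟩ := OddTransitive.semi_of_odd hR hρ ht
  choose a σ haσ using hF
  obtain ⟨n, hn⟩ : ∃ n, n = Module.finrank (ZMod 2) V := ⟨_, rfl⟩
  rw [← hn] at hf ⊢
  have hn0 : 0 < n := hn ▸ Module.finrank_pos
  have hcardF : Fintype.card F = 2 ^ n := by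
    rw [← Nat.card_eq_fintype_card, ← Nat.card_congr e.toEquiv, Module.natCard_eq_pow_finrank (K := ZMod 2),
      Nat.card_zmod, hn]
  haveI : CharP F 2 := by
    obtain ⟨r, hr⟩ := CharP.exists F
    haveI := hr
    obtain ⟨m, hrp, hm⟩ := FiniteField.card F r
    rw [hcardF] at hm
    have h2 : 2 ∣ r ^ (m : ℕ) := hm ▸ dvd_pow_self 2 hn0.ne'
    exact ((Nat.prime_dvd_prime_iff_eq Nat.prime_two hrp).1 (Nat.prime_two.dvd_of_dvd_pow h2)).symm ▸ hr
  letI : Algebra (ZMod 2) F := ZMod.algebra F 2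
  have hfin : Module.finrank (ZMod 2) F = n := by
    have h := Module.natCard_eq_pow_finrank (K := ZMod 2) (V := F)
    rw [Nat.card_eq_fintype_card, hcardF, Nat.card_zmod] at h
    exact (Nat.pow_right_injective le_rfl h).symm
  let σ' : R → (F ≃ₐ[ZMod 2] F) := fun g => AlgEquiv.ofRingEquiv (f := σ g) fun c =>
    RingHom.congr_fun (RingHom.ext_zmod ((σ g).toRingHom.comp (algebraMap (ZMod 2) F)) (algebraMap (ZMod 2) F)) c
  have hs' : ∀ g x, σ' g x = σ g x := fun _ _ => rfl
  have ha0 : ∀ g, a g ≠ 0 := by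
    intro g h
    obtain ⟨w, hw⟩ := exists_ne (0 : V)
    have := haσ g w
    rw [h, zero_mul, AddEquivClass.map_eq_zero_iff, LinearEquiv.map_eq_zero_iff] at this
    exact hw this
  have hmul : ∀ g h x, a (g * h) * σ' (g * h) x = a g * σ' g (a h) * σ' g (σ' h x) := by
    intro g h x
    have h1 := haσ (g * h) (e.symm x)
    rw [rho_mul, haσ, haσ, AddEquiv.apply_symm_apply, map_mul, ← mul_assoc] at h1
    exact h1.symm
  have hmula : ∀ g h, a (g * h) = a g * σ' g (a h) := fun g h => by simpa using hmul g h 1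
  let ψ : R →* (F ≃ₐ[ZMod 2] F) := MonoidHom.mk' σ' fun g h => AlgEquiv.ext fun x => by
    have h1 := hmul g h x
    rw [hmula g h] at h1
    exact mul_left_cancel₀ (mul_ne_zero (ha0 g) (by simpa using ha0 h)) h1
  have hψ : ∀ g w, e (ρ g w) = a g * ψ g (e w) := haσ
  have hone : ∀ g, ψ g = 1 → ∀ x, ψ g x = x := fun g h x => by rw [h, AlgEquiv.one_apply]
  have hgal : Nat.card (F ≃ₐ[ZMod 2] F) = n := hfin ▸ IsGalois.card_aut_eq_finrank (ZMod 2) F
  have hfix : ∀ g : R, Nat.card {x : F // ψ g x = x} = 2 ^ (n / orderOf (ψ g)) := by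
    intro g
    let E := IntermediateField.fixedField (Subgroup.zpowers (ψ g))
    have h1 : Module.finrank E F = orderOf (ψ g) := by
      rw [IntermediateField.finrank_fixedField_eq_card, Nat.card_zpowers]
    have h2 := Module.finrank_mul_finrank (ZMod 2) E F
    rw [h1, hfin] at h2
    rw [← h2, Nat.mul_div_cancel _ (orderOf_pos _)]
    rw [show Nat.card {x : F // ψ g x = x} = Nat.card E from Nat.card_congr (Equiv.subtypeEquivRight fun x => ?_),
      Module.natCard_eq_pow_finrank (K := ZMod 2) (V := E), Nat.card_zmod]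
    rw [IntermediateField.mem_fixedField_iff]
    refine ⟨fun h f' hf' => ?_, fun h => h _ (Subgroup.mem_zpowers _)⟩
    have h3 : Subgroup.zpowers (ψ g) ≤ MulAction.stabilizer (F ≃ₐ[ZMod 2] F) x :=
      Subgroup.zpowers_le.2 h
    exact h3 hf'
  have hinj : ∀ g h, ψ g = ψ h → a g = a h → g = h := fun g h h1 h2 =>
    hρ (LinearEquiv.ext fun w => e.injective (by rw [hψ, hψ, h1, h2]))
  refine ⟨F ≃ₐ[ZMod 2] F, inferInstance, inferInstance, inferInstance, ψ, ?_, fun g => ?_, fun g w hw hgw => ?_,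
    fun g hg => ?_⟩
  · -- an element of full order is linear
    by_contra hne
    obtain ⟨o, ho⟩ : ∃ o, o = orderOf (ψ f) := ⟨_, rfl⟩
    have ho2 : 2 ≤ o := by
      have h1 : o ≠ 1 := fun h => hne (orderOf_eq_one_iff.1 (ho ▸ h))
      have := orderOf_pos (ψ f)
      omega
    obtain ⟨g, hg⟩ : o ∣ n := by rw [ho, ← hgal]; exact orderOf_dvd_natCard _
    have hpow : ψ (f ^ o) = 1 := by rw [map_pow, ho, pow_orderOf_eq_one]
    have hfo : ψ f (a (f ^ o)) = a (f ^ o) := by
      have h1 := congrArg a (Commute.self_pow f o).eq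
      rw [hmula, hmula, show σ' (f ^ o) = ψ (f ^ o) from rfl, hone _ hpow, mul_comm (a (f ^ o))] at h1
      exact mul_left_cancel₀ (ha0 f) h1
    have h2 : a (f ^ o) ^ (2 ^ g - 1) = 1 := by
      have hc := hfix f
      rw [← ho, hg, Nat.mul_div_cancel_left _ (by omega)] at hc
      let E := IntermediateField.fixedField (Subgroup.zpowers (ψ f))
      have hmem : a (f ^ o) ∈ E := by
        rw [IntermediateField.mem_fixedField_iff]
        intro f' hf'
        exact (Subgroup.zpowers_le.2 hfo : Subgroup.zpowers (ψ f) ≤ MulAction.stabilizer _ (a (f ^ o))) hf'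
      have hE : Nat.card E = 2 ^ g := by
        rw [← hc]
        refine Nat.card_congr (Equiv.subtypeEquivRight fun x => ?_)
        rw [IntermediateField.mem_fixedField_iff]
        refine ⟨fun h => h _ (Subgroup.mem_zpowers _), fun h f' hf' => ?_⟩
        exact (Subgroup.zpowers_le.2 h : Subgroup.zpowers (ψ f) ≤ MulAction.stabilizer _ x) hf'
      haveI := Fintype.ofFinite E
      have h3 := FiniteField.pow_card_sub_one_eq_one (⟨a (f ^ o), hmem⟩ : E)
        fun h => ha0 (f ^ o) (congrArg Subtype.val h)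
      rw [← Nat.card_eq_fintype_card, hE] at h3
      exact congrArg Subtype.val h3
    have h4 : ∀ k : ℕ, a ((f ^ o) ^ k) = a (f ^ o) ^ k := by
      intro k
      induction k with
      | zero =>
        have h1 := hmula 1 1
        rw [mul_one, show σ' 1 = ψ 1 from rfl, map_one, AlgEquiv.one_apply] at h1
        rw [pow_zero, pow_zero]
        exact mul_left_cancel₀ (ha0 1) (by rw [mul_one]; exact h1.symm)
      | succ k ih =>
        rw [pow_succ, hmula, show σ' ((f ^ o) ^ k) = ψ ((f ^ o) ^ k) from rfl, map_pow ψ (f ^ o), hpow, one_pow,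
          AlgEquiv.one_apply, ih, pow_succ]
    have h5 : f ^ (o * (2 ^ g - 1)) = 1 := by
      rw [pow_mul]
      refine hinj _ _ (by rw [map_pow, hpow, one_pow, map_one]) ?_
      rw [h4, h2, show (1 : R) = (f ^ o) ^ 0 from (pow_zero _).symm, h4, pow_zero]
    have hg0 : 0 < g := by
      rcases Nat.eq_zero_or_pos g with rfl | h
      · omega
      · exact h
    have h6 := Nat.le_of_dvd (Nat.mul_pos (by omega) (by
      have := Nat.le_self_pow hg0.ne' 2; omega)) (orderOf_dvd_of_pow_eq_one h5)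
    have h7 := mul_lt_pow_mul hg0 ho2
    rw [mul_comm g o, ← hg] at h7
    omega
  · exact hgal ▸ orderOf_dvd_natCard _
  · have hw0 : e w ≠ 0 := by rwa [Ne, AddEquivClass.map_eq_zero_iff]
    have h1 : a g * ψ g (e w) = e w := by rw [← hψ, hgw]
    refine ⟨fun h => eq_one_of_fix hρ fun x => e.injective ?_, ?_⟩
    · rw [hone g h] at h1
      rw [hψ, hone g h, mul_right_cancel₀ hw0 (h1.trans (one_mul _).symm), one_mul]
    · rw [← hfix g]
      refine Nat.card_congr (((e.toEquiv.trans (Equiv.mulRight₀ (e w)⁻¹ (inv_ne_zero hw0))).subtypeEquiv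
        fun x => ?_))
      show ρ g x = x ↔ ψ g (e x * (e w)⁻¹) = e x * (e w)⁻¹
      rw [map_mul, map_inv₀, ← e.injective.eq_iff, hψ]
      have h2 : ψ g (e w) ≠ 0 := fun h => hw0 (by rw [← h1, h, mul_zero])
      have hw1 : ψ g (e w) = e w * (a g)⁻¹ := by
        rw [eq_mul_inv_iff_mul_eq₀ (ha0 g), mul_comm]
        exact h1
      constructor
      · intro h
        have hx1 : ψ g (e x) = e x * (a g)⁻¹ := by
          rw [eq_mul_inv_iff_mul_eq₀ (ha0 g), mul_comm]
          exact h
        rw [hx1, hw1]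
        field_simp [ha0 g, hw0]
      · intro h
        rw [mul_inv_eq_iff_eq_mul₀ h2] at h
        rw [h, mul_left_comm (a g), h1, mul_assoc, inv_mul_cancel₀ hw0, mul_one]
  · obtain ⟨o, ho⟩ : ∃ o, o = orderOf (ψ g) := ⟨_, rfl⟩
    have hli := linearIndependent_monoidHom F F
    let χ : Fin o → (F →* F) := fun i => ((ψ g) ^ (i : ℕ)).toAlgHom.toRingHom.toMonoidHom
    have hχ : Function.Injective χ := fun i j h => Fin.ext (pow_injOn_Iio_orderOf (x := ψ g)
      (by simp only [Set.mem_Iio, ← ho]; exact i.2) (by simp only [Set.mem_Iio, ← ho]; exact j.2)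
      (AlgEquiv.ext fun x => DFunLike.congr_fun h x))
    have hind := (Fintype.linearIndependent_iff (R := F)).1 (hli.comp χ hχ) (fun i => a (g ^ (i : ℕ)))
    obtain ⟨w, hw⟩ : ∃ w : V, (∑ i : Fin o, ρ (g ^ (i : ℕ)) w) ≠ 0 := by
      by_contra hall
      push Not at hall
      have hsum : ∑ i : Fin o, a (g ^ (i : ℕ)) • ((χ i : F →* F) : F → F) = 0 := by
        funext x
        have h1 := congrArg e (hall (e.symm x))
        rw [map_sum, map_zero] at h1
        simp only [Finset.sum_apply, Pi.smul_apply, smul_eq_mul, Pi.zero_apply]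
        rw [← h1]
        refine Finset.sum_congr rfl fun i _ => ?_
        rw [hψ, map_pow, AddEquiv.apply_symm_apply]
        rfl
      exact ha0 _ (hind hsum ⟨0, by rw [ho]; exact orderOf_pos _⟩)
    refine ⟨_, hw, ?_⟩
    rw [map_sum]
    have h1 : ∀ i : ℕ, ρ g (ρ (g ^ i) w) = ρ (g ^ (i + 1)) w := fun i => by rw [← rho_mul, ← pow_succ']
    simp only [h1]
    rw [Fin.sum_univ_eq_sum_range (fun i => ρ (g ^ (i + 1)) w), Fin.sum_univ_eq_sum_range (fun i => ρ (g ^ i) w)]
    have h2 := Finset.sum_range_succ (fun i => ρ (g ^ i) w) o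
    rw [Finset.sum_range_succ', show g ^ o = g ^ 0 by rw [ho, ← hg, pow_orderOf_eq_one, pow_zero]] at h2
    exact add_right_cancel h2

end Cfsg.Agent.Invol.Bender
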