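import Cfsg.Agent.Lib.Invol.Bender.Spec
import Cfsg.Agent.Lib.Invol.Bender.SemiField
import Cfsg.Agent.S0205

/-!
# The semilinear structure of a pair stabiliser

When the involutions at a point commute and inverted elements are free, a pair stabiliser is, modulo the elements
centralising these involutions, a semilinear group with the inverted elements as its cyclic linear part.
-/

set_option autoImplicit false
set_option linter.unusedSectionVars false

namespace Cfsg.Agent.Invol.Bender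

open MulAction Subgroup

universe u v

variable {G : Type u} {Ω : Type v} [Group G] [MulAction G Ω]

/-- The subgroup generated by the involutions at a point. -/
def invGrp (G : Type u) {Ω : Type v} [Group G] [MulAction G Ω] (c : Ω) : Subgroup G :=
  Subgroup.closure (invAt G c)

/-- The elements of a pair stabiliser centralising every involution at its first point. -/
def fixKer (G : Type u) {Ω : Type v} [Group G] [MulAction G Ω] (c a : Ω) : Subgroup G :=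
  pairStab G c a ⊓ centralizer (invAt G c)

/-- The structure of the stabiliser of `c` and `a` relative to the swapper `w`. -/
structure SemiData (c a : Ω) (w : G) (n : ℕ) (J : Subgroup G) : Prop where
  two_le : 2 ≤ n
  card_inv : (invAt G c).ncard = 2 ^ n - 1
  mem_J : ∀ j, j ∈ J ↔ j ∈ pairStab G c a ∧ w * j * w⁻¹ = j⁻¹
  J_cyclic : IsCyclic J
  card_J : Nat.card J = 2 ^ n - 1
  J_normal : ∀ g ∈ pairStab G c a, ∀ j ∈ J, g * j * g⁻¹ ∈ J
  J_trans : ∀ s ∈ invAt G c, ∀ t ∈ invAt G c, ∃ j ∈ J, j * s * j⁻¹ = t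
  fix_only : ∀ j ∈ J, j ≠ 1 → ∀ x : Ω, j • x = x → x = c ∨ x = a
  commute_J : ∀ k ∈ fixKer G c a, ∀ j ∈ J, Commute k j
  ker_swap : ∀ k ∈ fixKer G c a, ∀ u ∈ swapAt G c a, Commute k u
  exists_mul : ∀ g ∈ pairStab G c a, ∃ j ∈ J, ∃ x ∈ pairStab G c a, Commute x w ∧ g = j * x
  gen : ∃ x₀ ∈ pairStab G c a, Commute x₀ w ∧
    ∀ x ∈ pairStab G c a, Commute x w → ∃ i : ℕ, (x₀ ^ i)⁻¹ * x ∈ fixKer G c a
  count : ∀ x ∈ pairStab G c a, ∀ t ∈ invAt G c, Commute x t →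
    ∃ o : ℕ, o ∣ n ∧ (∀ i : ℕ, x ^ i ∈ fixKer G c a ↔ o ∣ i) ∧
      {s ∈ invAt G c | Commute x s}.ncard + 1 = 2 ^ (n / o)
  fix_vector : fixKer G c a = ⊥ → ∀ y ∈ pairStab G c a, Subgroup.zpowers y ⊓ J = ⊥ →
    ∃ t ∈ invAt G c, Commute y t

/-- The case left to characters: no element centralises all involutions at `c`, and the centraliser of a swapper
has prime order equal to the rank. -/
def Exceptional (c a : Ω) : Prop :=
  fixKer G c a = ⊥ ∧ ∃ l : ℕ, l.Prime ∧ (invAt G c).ncard = 2 ^ l - 1 ∧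
    ∀ w ∈ swapAt G c a, Nat.card ↥(pairStab G c a ⊓ centralizer ({w} : Set G)) = l

variable [Finite G]

theorem mem_invGrp (hW : InvComm G Ω) {c : Ω} {g : G} : g ∈ invGrp G c ↔ g = 1 ∨ g ∈ invAt G c := by
  constructor
  · intro hg
    induction hg using Subgroup.closure_induction with
    | mem x hx => exact Or.inr hx
    | one => exact Or.inl rfl
    | mul x y _ _ hx hy =>
      rcases hx with rfl | hx
      · rwa [one_mul]
      rcases hy with rfl | hy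
      · exact Or.inr (by rwa [mul_one])
      by_cases h : x * y = 1
      · exact Or.inl h
      refine Or.inr ⟨orderOf_two_iff.2 ⟨?_, h⟩, by rw [mul_smul, hy.2, hx.2]⟩
      calc x * y * (x * y) = x * (y * x) * y := by group
        _ = x * (x * y) * y := by rw [(hW c x hx y hy).eq]
        _ = (x * x) * (y * y) := by group
        _ = 1 := by rw [mul_self_of_orderOf_two hx.1, mul_self_of_orderOf_two hy.1, one_mul]
    | inv x _ hx =>
      rcases hx with rfl | hx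
      · exact Or.inl inv_one
      · exact Or.inr (by rwa [inv_of_orderOf_two hx.1])
  · rintro (rfl | hg)
    · exact one_mem _
    · exact Subgroup.subset_closure hg

theorem Hyp.semiData (U : Hyp G Ω) (hr : TwoRank (⊤ : Subgroup G)) (hW : InvComm G Ω) (hF : RealFree G Ω)
    (hC : ConjPair G Ω) {c a : Ω} (hca : c ≠ a) {w : G} (hw : w ∈ swapAt G c a) :
    ∃ (n : ℕ) (J : Subgroup G), SemiData c a w n J := by
  classical
  obtain ⟨D, hD⟩ : ∃ D, D = pairStab G c a := ⟨_, rfl⟩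
  obtain ⟨K, hK⟩ : ∃ K, K = fixKer G c a := ⟨_, rfl⟩
  have hKle : K ≤ D := hK ▸ hD ▸ inf_le_left
  have hoddD : Odd (Nat.card D) := hD ▸ U.odd_pair hca
  have hmem : ∀ k, k ∈ K ↔ k ∈ D ∧ ∀ t ∈ invAt G c, Commute k t := fun k => by
    rw [hK, hD, fixKer, Subgroup.mem_inf, Subgroup.mem_centralizer_iff]
    exact and_congr_right fun _ => ⟨fun h t ht => (h t ht).symm, fun h t ht => (h t ht).symm⟩
  -- the vector space of involutions
  obtain ⟨W, hWdef⟩ : ∃ W, W = invGrp G c := ⟨_, rfl⟩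
  have hWmem : ∀ g, g ∈ W ↔ g = 1 ∨ g ∈ invAt G c := fun g => hWdef ▸ mem_invGrp hW
  letI : CommGroup W :=
    { (inferInstance : Group W) with
      mul_comm := fun x y => Subtype.ext (by
        rcases (hWmem _).1 x.2 with hx | hx
        · simp [hx]
        rcases (hWmem _).1 y.2 with hy | hy
        · simp [hy]
        exact (hW c _ hx _ hy).eq) }
  let V := Additive W
  letI : Module (ZMod 2) V := AddCommGroup.zmodModule fun x => by
    show (Additive.toMul x : W) ^ 2 = 1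
    refine Subtype.ext ?_
    rcases (hWmem _).1 (Additive.toMul x : W).2 with hx | hx
    · simp [hx]
    · rw [SubmonoidClass.coe_pow, sq, mul_self_of_orderOf_two hx.1]; rfl
  let val : V → G := fun x => ((Additive.toMul x : W) : G)
  have hval : Function.Injective val := fun x y h => Additive.toMul.injective (Subtype.ext h)
  have hval0 : ∀ x : V, x ≠ 0 → val x ∈ invAt G c := fun x hx =>
    ((hWmem _).1 (Additive.toMul x : W).2).resolve_left fun h => hx (hval (h.trans rfl))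
  let vec : ∀ t ∈ invAt G c, V := fun t ht => Additive.ofMul (⟨t, (hWmem t).2 (Or.inr ht)⟩ : W)
  have hvec : ∀ t ht, val (vec t ht) = t := fun t ht => rfl
  have hvec0 : ∀ t ht, vec t ht ≠ 0 := fun t ht h => by
    have h1 : t = 1 := congrArg val h
    exact absurd ht.1 (by rw [h1, orderOf_one]; omega)
  -- the action
  have hcW : ∀ g ∈ D, ∀ x ∈ W, g * x * g⁻¹ ∈ W := fun g hg x hx => by
    rcases (hWmem x).1 hx with rfl | hx
    · simp
    · exact (hWmem _).2 (Or.inr (U.invAt_conj (hD ▸ hg) hx))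
  let act : D → (V →+ V) := fun g => AddMonoidHom.mk' (fun x => Additive.ofMul
      (⟨(g : G) * val x * (g : G)⁻¹, hcW g g.2 _ (Additive.toMul x : W).2⟩ : W)) fun x y => hval (by
    show (g : G) * (val x * val y) * (g : G)⁻¹ = ((g : G) * val x * (g : G)⁻¹) * ((g : G) * val y * (g : G)⁻¹)
    group)
  have hact : ∀ g x, val (act g x) = (g : G) * val x * (g : G)⁻¹ := fun g x => rfl
  let equiv : D → (V ≃ₗ[ZMod 2] V) := fun g =>
    LinearEquiv.ofLinear ((act g).toZModLinearMap 2) ((act g⁻¹).toZModLinearMap 2)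
      (LinearMap.ext fun x => hval (by
        show (g : G) * ((g⁻¹ : D) * val x * ((g⁻¹ : D) : G)⁻¹) * (g : G)⁻¹ = _
        rw [Subgroup.coe_inv]; group; rfl))
      (LinearMap.ext fun x => hval (by
        show ((g⁻¹ : D) : G) * ((g : G) * val x * (g : G)⁻¹) * ((g⁻¹ : D) : G)⁻¹ = _
        rw [Subgroup.coe_inv]; group; rfl))
  let ρ₀ : D →* (V ≃ₗ[ZMod 2] V) := MonoidHom.mk' equiv fun g h => LinearEquiv.ext fun x => hval (by
    show (g * h : D) * val x * ((g * h : D) : G)⁻¹ = (g : G) * ((h : G) * val x * (h : G)⁻¹) * (g : G)⁻¹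
    rw [Subgroup.coe_mul]; group)
  have hρ₀ : ∀ g x, val (ρ₀ g x) = (g : G) * val x * (g : G)⁻¹ := fun g x => rfl
  have hfixv : ∀ (g : D) (x : V), ρ₀ g x = x ↔ Commute (g : G) (val x) := fun g x => by
    rw [← hval.eq_iff, hρ₀, mul_inv_eq_iff_eq_mul]
    rfl
  have hkerK : ∀ g : D, ρ₀ g = 1 ↔ (g : G) ∈ K := fun g => by
    rw [hmem, and_iff_right g.2]
    constructor
    · intro h t ht
      rw [← hvec t ht, ← hfixv, h]
      rfl
    · intro h
      refine LinearEquiv.ext fun x => ?_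
      rcases eq_or_ne x 0 with rfl | hx
      · rw [map_zero, map_zero]
      · exact (hfixv g x).2 (h _ (hval0 x hx))
  haveI : Finite V := Finite.of_injective val hval
  -- there are two involutions at `c`
  obtain ⟨x₁, -, y₁, -, hx2, hy2, hxy, hxyc⟩ := hr
  obtain ⟨z₁, hz₁⟩ := U.exists_fix x₁ hx2
  obtain ⟨g₁, hg₁⟩ := U.exists_smul_eq z₁ c
  have hconjc : ∀ s : G, orderOf s = 2 → s • z₁ = z₁ → g₁ * s * g₁⁻¹ ∈ invAt G c := fun s hs hz =>
    ⟨(orderOf_conj_eq _ s).trans hs, by rw [← hg₁, conj_smul_smul, hz]⟩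
  have hz₁' : y₁ • z₁ = z₁ := U.fix_of_commute hx2 hz₁ hxyc.symm
  obtain ⟨s₁, hs₁⟩ : ∃ s, s ∈ invAt G c := ⟨_, hconjc x₁ hx2 hz₁⟩
  haveI : Nontrivial V := ⟨⟨vec s₁ hs₁, 0, hvec0 s₁ hs₁⟩⟩
  obtain ⟨n, hn⟩ : ∃ n, n = Module.finrank (ZMod 2) V := ⟨_, rfl⟩
  have hcardV : Nat.card V = 2 ^ n := by rw [Module.natCard_eq_pow_finrank (K := ZMod 2), Nat.card_zmod, hn]
  have hm : (invAt G c).ncard = 2 ^ n - 1 := by
    have h1 : (invGrp G c : Set G) = insert 1 (invAt G c) := Set.ext fun g => by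
      rw [SetLike.mem_coe, mem_invGrp hW, Set.mem_insert_iff]
    have h2 := congrArg Set.ncard h1
    rw [Set.ncard_insert_of_notMem (fun h => absurd h.1 (by rw [orderOf_one]; omega)), ← hWdef] at h2
    have h3 : Nat.card W = (invAt G c).ncard + 1 := h2 ▸ (Nat.card_coe_set_eq (W : Set G))
    rw [← hcardV, show Nat.card V = Nat.card W from rfl]
    omega
  have hn2 : 2 ≤ n := by
    have h1 : ({g₁ * x₁ * g₁⁻¹, g₁ * y₁ * g₁⁻¹} : Set G) ⊆ invAt G c :=
      Set.insert_subset (hconjc x₁ hx2 hz₁) (Set.singleton_subset_iff.2 (hconjc y₁ hy2 hz₁'))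
    have h2 := Set.ncard_le_ncard h1 (Set.toFinite _)
    rw [Set.ncard_pair (fun h => hxy (mul_left_cancel (mul_right_cancel h))), hm] at h2
    by_contra h
    interval_cases n <;> simp at h2
  -- the linear group
  obtain ⟨R, hR⟩ : ∃ R, R = ρ₀.range := ⟨_, rfl⟩
  let π : D →* R := (MonoidHom.codRestrict ρ₀ R fun g => hR ▸ ⟨g, rfl⟩)
  let ρ : R →* (V ≃ₗ[ZMod 2] V) := R.subtype
  have hπs : Function.Surjective π := fun r => by
    obtain ⟨g, hg⟩ : (r : V ≃ₗ[ZMod 2] V) ∈ ρ₀.range := hR ▸ r.2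
    exact ⟨g, Subtype.ext hg⟩
  have hπρ : ∀ g x, ρ (π g) x = ρ₀ g x := fun g x => rfl
  have hρinj : Function.Injective ρ := R.subtype_injective
  have hπK : ∀ g : D, π g = 1 ↔ (g : G) ∈ K := fun g => by
    rw [← hkerK, ← hρinj.eq_iff, map_one]
    rfl
  have hoddR : Odd (Nat.card R) :=
    hoddD.of_dvd_nat (Subgroup.card_dvd_of_surjective π hπs)
  have htr : Recog.HuppertCases.Trans ρ := fun x y hx hy => by
    obtain ⟨g, hg, hxy⟩ := U.exists_conj_invAt hca (hval0 x hx) (hval0 y hy)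
    exact ⟨π ⟨g, hD ▸ hg⟩, hval (by rw [hπρ, hρ₀]; exact hxy)⟩
  haveI : Finite R := Finite.of_surjective π hπs
  haveI hRsol : Group.IsSolvable R := Cfsg.Agent.S0205.result hoddR
  obtain ⟨hFcyc, hFfix, -⟩ := OddTransitive.main hoddR hρinj htr
  obtain ⟨F, hFdef⟩ : ∃ F, F = Cfsg.fittingSubgroup R := ⟨_, rfl⟩
  rw [← hFdef] at hFcyc hFfix
  have hFnormal : F.Normal := hFdef ▸ Grp.fittingSubgroup_isNormal
  obtain ⟨f₀, hf₀⟩ := (Subgroup.isCyclic_iff_exists_zpowers_eq_top (H := F)).1 hFcyc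
  -- the automorphism induced by the swapper
  have hwD : ∀ g ∈ D, w * g * w⁻¹ ∈ D := fun g hg => by
    rw [hD] at hg ⊢
    obtain ⟨h1, h2⟩ := mem_pair.1 hg
    exact mem_pair.2 ⟨by conv_lhs => rw [← swap_symm hw.1 hw.2]
                         rw [conj_smul_smul, h2, swap_symm hw.1 hw.2],
      by conv_lhs => rw [← hw.2]
         rw [conj_smul_smul, h1, hw.2]⟩
  have hKC : ∀ k ∈ K, ∀ u ∈ swapAt G c a, Commute k u := fun k hk u hu => by
    obtain ⟨t, ht, h⟩ := hC c a hca u hu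
    exact (h k (hD ▸ hKle hk)).2 (((hmem k).1 hk).2 t ht)
  let θ : D →* D := MonoidHom.mk' (fun g => ⟨w * g * w⁻¹, hwD g g.2⟩) fun g h => Subtype.ext (by
    show w * ((g : G) * h) * w⁻¹ = (w * g * w⁻¹) * (w * h * w⁻¹)
    group)
  have hθker : π.ker ≤ (π.comp θ).ker := fun g hg => by
    rw [MonoidHom.mem_ker, hπK] at hg
    rw [MonoidHom.mem_ker, MonoidHom.comp_apply, hπK]
    show w * (g : G) * w⁻¹ ∈ K
    rwa [← (hKC _ hg w hw).eq, mul_inv_cancel_right]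
  let τ : R →* R := π.liftOfSurjective hπs ⟨π.comp θ, hθker⟩
  have hτ : ∀ g, τ (π g) = π (θ g) := fun g =>
    DFunLike.congr_fun (π.liftOfRightInverse_comp _ (Function.rightInverse_surjInv hπs) ⟨π.comp θ, hθker⟩) g
  have hθθ : ∀ g, θ (θ g) = g := fun g => Subtype.ext (by
    show w * (w * (g : G) * w⁻¹) * w⁻¹ = g
    calc w * (w * (g : G) * w⁻¹) * w⁻¹ = (w * w) * g * (w * w)⁻¹ := by group
      _ = g := by rw [mul_self_of_orderOf_two hw.1]; group)
  have hττ : ∀ r, τ (τ r) = r := fun r => by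
    obtain ⟨g, rfl⟩ := hπs r
    rw [hτ, hτ, hθθ]
  have hτF : ∀ r ∈ F, τ r ∈ F := fun r hr => by
    have hbij : Function.Bijective τ := Function.Involutive.bijective hττ
    let e := MulEquiv.ofBijective τ hbij
    have h1 : F.map e.toMonoidHom ≤ F := by
      have hn := hFnormal.map e.toMonoidHom e.surjective
      haveI := hFcyc
      letI : CommGroup F := IsCyclic.commGroup
      haveI : Group.IsNilpotent F := inferInstance
      conv_rhs => rw [hFdef]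
      exact Grp.le_fittingSubgroup hn (Group.nilpotent_of_mulEquiv (F.equivMapOfInjective _ e.injective))
    exact h1 ⟨r, hr, rfl⟩
  have hf₀F : f₀ ∈ F := hf₀ ▸ Subgroup.mem_zpowers f₀
  -- inverted elements lie in the linear part
  have hinvF : ∀ g : D, w * (g : G) * w⁻¹ = (g : G)⁻¹ → π g ∈ F := by
    intro g hg
    obtain ⟨k, hk⟩ := Subgroup.mem_zpowers_iff.1 (hf₀.symm ▸ hτF _ hf₀F : τ f₀ ∈ Subgroup.zpowers f₀)
    obtain ⟨i, hi⟩ := Subgroup.mem_zpowers_iff.1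
      (hf₀.symm ▸ hFnormal.conj_mem _ hf₀F (π g) : π g * f₀ * (π g)⁻¹ ∈ Subgroup.zpowers f₀)
    have hτg : τ (π g) = (π g)⁻¹ := by
      rw [hτ, ← map_inv]
      exact congrArg π (Subtype.ext hg)
    have h1 : (π g)⁻¹ * f₀ * π g = f₀ ^ i := by
      have h2 := congrArg (fun r => τ (τ r)) hi
      have h3 : τ (π g * f₀ * (π g)⁻¹) = (π g)⁻¹ * f₀ ^ k * π g := by
        rw [map_mul, map_mul, map_inv, hτg, inv_inv, ← hk]
      have hkk : f₀ ^ (k * k) = f₀ := by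
        rw [zpow_mul, hk, ← map_zpow, hk, hττ]
      have h4 : (π g)⁻¹ * f₀ ^ k * π g = f₀ ^ (k * i) := by
        rw [← h3, ← hi, map_zpow, ← hk, ← zpow_mul]
      calc (π g)⁻¹ * f₀ * π g = (π g)⁻¹ * (f₀ ^ k) ^ k * π g := by rw [← zpow_mul, hkk]
        _ = ((π g)⁻¹ * f₀ ^ k * π g) ^ k := by
          have := (conj_zpow (i := k) (a := (π g)⁻¹) (b := f₀ ^ k))
          rw [inv_inv] at this
          exact this.symm
        _ = f₀ ^ i := by
          rw [h4, ← zpow_mul, mul_comm k i, mul_assoc, mul_comm i (k * k), zpow_mul, hkk]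
    have h5 : π g ^ 2 ∈ Subgroup.centralizer (F : Set R) := by
      intro y hy
      obtain ⟨l, rfl⟩ := Subgroup.mem_zpowers_iff.1 (hf₀.symm ▸ hy : y ∈ Subgroup.zpowers f₀)
      refine (Commute.zpow_left ?_ l).eq
      show f₀ * π g ^ 2 = π g ^ 2 * f₀
      have h6 : (π g)⁻¹ * f₀ * π g = π g * f₀ * (π g)⁻¹ := h1.trans hi
      calc f₀ * π g ^ 2 = π g * ((π g)⁻¹ * f₀ * π g) * π g := by rw [pow_two]; group
        _ = π g * (π g * f₀ * (π g)⁻¹) * π g := by rw [h6]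
        _ = π g ^ 2 * f₀ := by rw [pow_two]; group
    have h7 : π g ^ 2 ∈ F := by
      rw [hFdef] at h5 ⊢
      exact Grp.centralizer_fittingSubgroup_le h5
    obtain ⟨q, hq⟩ : Odd (orderOf (π g)) := hoddR.of_dvd_nat (orderOf_dvd_natCard _)
    have h8 : π g = (π g ^ 2) ^ (q + 1) := by
      rw [← pow_mul, show 2 * (q + 1) = 2 * q + 1 + 1 by ring, pow_succ, ← hq, pow_orderOf_eq_one, one_mul]
    rw [h8]
    exact pow_mem h7 _
  -- the inverted set
  obtain ⟨t₀, ht₀, hC₀⟩ := hC c a hca w hw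
  obtain ⟨Jset, hJset⟩ : ∃ S : Set G, S = {j | j ∈ D ∧ w * j * w⁻¹ = j⁻¹} := ⟨_, rfl⟩
  have hJu : ∀ j ∈ Jset, ∀ j' ∈ Jset, Commute (j'⁻¹ * j) w → j = j' := by
    intro j hj j' hj' hcom
    rw [hJset] at hj hj'
    have h1 : w * (j'⁻¹ * j) * w⁻¹ = j' * j⁻¹ := by
      calc w * (j'⁻¹ * j) * w⁻¹ = (w * j' * w⁻¹)⁻¹ * (w * j * w⁻¹) := by group
        _ = _ := by rw [hj.2, hj'.2, inv_inv]
    rw [← hcom.eq, mul_inv_cancel_right] at h1
    have h2 : j * j = j' * j' := by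
      calc j * j = j' * (j'⁻¹ * j) * j := by group
        _ = j' * (j' * j⁻¹) * j := by rw [h1]
        _ = j' * j' := by group
    have h3 : ∀ g ∈ D, ∃ q : ℕ, g = (g * g) ^ q := fun g hg => by
      obtain ⟨q, hq⟩ : Odd (orderOf g) := hoddD.of_dvd_nat (Subgroup.orderOf_dvd_natCard _ hg)
      refine ⟨q + 1, ?_⟩
      rw [← pow_two, ← pow_mul, show 2 * (q + 1) = 2 * q + 1 + 1 by ring, pow_succ, ← hq, pow_orderOf_eq_one,
        one_mul]
    obtain ⟨q, hq⟩ : Odd (orderOf j * orderOf j') := (hoddD.of_dvd_nat (Subgroup.orderOf_dvd_natCard _ hj.1)).mul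
      (hoddD.of_dvd_nat (Subgroup.orderOf_dvd_natCard _ hj'.1))
    have h4 : ∀ g : G, g ^ (orderOf j * orderOf j') = 1 → g = (g * g) ^ (q + 1) := fun g hg => by
      rw [← pow_two, ← pow_mul, show 2 * (q + 1) = 2 * q + 1 + 1 by ring, pow_succ, ← hq, hg, one_mul]
    rw [h4 j (by rw [pow_mul, pow_orderOf_eq_one, one_pow]), h2,
      ← h4 j' (by rw [mul_comm, pow_mul, pow_orderOf_eq_one, one_pow])]
  have hKJ : ∀ k ∈ K, ∀ j ∈ Jset, Commute k j := by
    intro k hk j hj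
    rw [hJset] at hj
    have hu : j * w * j⁻¹ ∈ swapAt G c a := U.swappers_conj (hD ▸ hj.1) hw
    have h1 : j * w * j⁻¹ = (j * j) * w := by
      calc j * w * j⁻¹ = j * w * j⁻¹ * (w⁻¹ * w) := by group
        _ = j * (w * j * w⁻¹)⁻¹ * w := by group
        _ = _ := by rw [hj.2, inv_inv]
    have h2 := hKC k hk _ hu
    rw [h1] at h2
    have h3 : Commute k (j * j) := by
      have h4 := h2.mul_right (hKC k hk w hw).inv_right
      rwa [mul_inv_cancel_right] at h4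
    obtain ⟨q, hq⟩ : Odd (orderOf j) := hoddD.of_dvd_nat (Subgroup.orderOf_dvd_natCard _ hj.1)
    have h5 : j = (j * j) ^ (q + 1) := by
      rw [← pow_two, ← pow_mul, show 2 * (q + 1) = 2 * q + 1 + 1 by ring, pow_succ, ← hq, pow_orderOf_eq_one,
        one_mul]
    exact h5 ▸ h3.pow_right _
  have hπinj : ∀ j ∈ Jset, ∀ j' ∈ Jset, ∀ (h : j ∈ D) (h' : j' ∈ D), π ⟨j, h⟩ = π ⟨j', h'⟩ → j = j' := by
    intro j hj j' hj' h h' he
    refine hJu j hj j' hj' (hKC _ ?_ w hw)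
    have h1 : π (⟨j', h'⟩⁻¹ * ⟨j, h⟩) = 1 := by rw [map_mul, map_inv, he, inv_mul_cancel]
    exact (hπK _).1 h1
  have hJD : Jset ⊆ (D : Set G) := fun j hj => (hJset ▸ hj : j ∈ {j | j ∈ D ∧ _}).1
  have hJcard : Jset.ncard = 2 ^ n - 1 := by
    have h1 : Nat.card D = Jset.ncard * Nat.card ↥(D ⊓ centralizer ({w} : Set G)) := by
      rw [← Nat.card_coe_set_eq, ← Nat.card_prod]
      refine (Nat.card_congr (Equiv.ofBijective (fun p : Jset × ↥(D ⊓ centralizer ({w} : Set G)) =>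
        (⟨(p.1 : G) * p.2, mul_mem (hJD p.1.2) p.2.2.1⟩ : D)) ⟨?_, ?_⟩)).symm
      · rintro ⟨⟨j, hj⟩, ⟨x, hx⟩⟩ ⟨⟨j', hj'⟩, ⟨x', hx'⟩⟩ he
        have he' : j * x = j' * x' := congrArg Subtype.val he
        have h2 : j'⁻¹ * j = x' * x⁻¹ := by
          rw [inv_mul_eq_iff_eq_mul, ← mul_assoc, eq_mul_inv_iff_mul_eq, he']
        have hcx : Commute x w := Subgroup.mem_centralizer_singleton_iff.1 hx.2
        have hcx' : Commute x' w := Subgroup.mem_centralizer_singleton_iff.1 hx'.2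
        obtain rfl := hJu j hj j' hj' (by rw [h2]; exact hcx'.mul_left hcx.inv_left)
        obtain rfl := mul_left_cancel he'
        rfl
      · rintro ⟨g, hg⟩
        obtain ⟨j, x, hj, hx, hxw, hjw, rfl⟩ := U.exists_inverted_mul hca hw (hD ▸ hg : g ∈ pairStab G c a)
        exact ⟨⟨⟨j, hJset ▸ ⟨hD ▸ hj, hjw⟩⟩, ⟨x, hD ▸ hx, Subgroup.mem_centralizer_singleton_iff.2 hxw⟩⟩, rfl⟩
    have h2 := U.card_centralizer_swapper hca hw
    rw [← hD, h1, Nat.card_coe_set_eq, hm, mul_comm (Jset.ncard)] at h2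
    exact (Nat.eq_of_mul_eq_mul_left Nat.card_pos h2).symm
  have hFle : Nat.card F ≤ 2 ^ n - 1 := by
    have h1 : Function.Injective fun r : F => (⟨val (ρ (r : R) (vec s₁ hs₁)), hval0 _
        (by rw [Ne, LinearEquiv.map_eq_zero_iff]; exact hvec0 s₁ hs₁)⟩ : invAt G c) := fun r r' he => by
      have he' := congrArg Subtype.val he
      have h2 : ρ (r : R) (vec s₁ hs₁) = ρ (r' : R) (vec s₁ hs₁) := hval he'
      by_contra hne
      refine hvec0 s₁ hs₁ (hFfix ((r' : R)⁻¹ * r) (mul_mem (inv_mem r'.2) r.2)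
        (fun h => hne (Subtype.ext (inv_mul_eq_one.1 h).symm)) _ ?_)
      rw [Recog.HuppertCases.rho_mul, h2, Recog.HuppertCases.rho_inv']
    rw [← hm, ← Nat.card_coe_set_eq]
    exact Nat.card_le_card_of_injective _ h1
  let toF : Jset → F := fun j => ⟨π ⟨j, hJD j.2⟩, hinvF _ (hJset ▸ j.2 : (j : G) ∈ {j | j ∈ D ∧ _}).2⟩
  have htoFi : Function.Injective toF := fun j j' he =>
    Subtype.ext (hπinj j j.2 j' j'.2 _ _ (congrArg Subtype.val he))
  have hFcard : Nat.card F = 2 ^ n - 1 := le_antisymm hFle (by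
    rw [← hJcard, ← Nat.card_coe_set_eq]
    exact Nat.card_le_card_of_injective _ htoFi)
  have htoF : Function.Bijective toF :=
    (Nat.bijective_iff_injective_and_card toF).2 ⟨htoFi, by rw [Nat.card_coe_set_eq, hJcard, hFcard]⟩
  -- the cyclic group
  obtain ⟨⟨j₀, hj₀⟩, hj₀F⟩ := htoF.2 ⟨f₀, hf₀F⟩
  have hj₀' : j₀ ∈ D ∧ w * j₀ * w⁻¹ = j₀⁻¹ := by
    have h := hj₀
    rw [hJset] at h
    exact h
  obtain ⟨J, hJ⟩ : ∃ J, J = Subgroup.zpowers j₀ := ⟨_, rfl⟩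
  have hpow : ∀ i : ℤ, j₀ ^ i ∈ Jset := fun i => by
    rw [hJset]
    refine ⟨zpow_mem hj₀'.1 i, ?_⟩
    rw [← conj_zpow, hj₀'.2, inv_zpow]
  have hJmem : ∀ j, j ∈ J ↔ j ∈ pairStab G c a ∧ w * j * w⁻¹ = j⁻¹ := by
    intro j
    rw [← hD, show (j ∈ D ∧ w * j * w⁻¹ = j⁻¹) ↔ j ∈ Jset by rw [hJset]; rfl, hJ]
    constructor
    · intro hj
      obtain ⟨i, rfl⟩ := Subgroup.mem_zpowers_iff.1 hj
      exact hpow i
    · intro hj
      obtain ⟨i, hi⟩ := Subgroup.mem_zpowers_iff.1 (hf₀.symm ▸ (toF ⟨j, hj⟩).2 : π ⟨j, hJD hj⟩ ∈ Subgroup.zpowers f₀)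
      refine Subgroup.mem_zpowers_iff.2 ⟨i, (hπinj _ (hpow i) j hj (zpow_mem hj₀'.1 i) (hJD hj) ?_)⟩
      rw [show (⟨j₀ ^ i, zpow_mem hj₀'.1 i⟩ : D) = ⟨j₀, hj₀'.1⟩ ^ i from Subtype.ext (by rw [SubgroupClass.coe_zpow]),
        map_zpow, show π ⟨j₀, hj₀'.1⟩ = f₀ from congrArg Subtype.val hj₀F, hi]
  have hJiff : ∀ j, j ∈ J → j ∈ Jset := fun j hj => by
    have := (hJmem j).1 hj
    rw [hJset]; exact ⟨hD ▸ this.1, this.2⟩
  have hcardJ : Nat.card J = 2 ^ n - 1 := by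
    rw [← hJcard, ← Nat.card_coe_set_eq]
    exact Nat.card_congr (Equiv.subtypeEquivRight fun j => ⟨hJiff j, fun hj => by
      refine (hJmem j).2 ?_
      rw [hJset] at hj; exact ⟨hD ▸ hj.1, hj.2⟩⟩)
  have hJcomm : ∀ j ∈ J, ∀ j' ∈ J, Commute j j' := fun j hj j' hj' => by
    rw [hJ, Subgroup.mem_zpowers_iff] at hj hj'
    obtain ⟨i, rfl⟩ := hj
    obtain ⟨i', rfl⟩ := hj'
    exact (Commute.refl j₀).zpow_zpow i i'
  have hmul : ∀ g ∈ pairStab G c a, ∃ j ∈ J, ∃ x ∈ pairStab G c a, Commute x w ∧ g = j * x := fun g hg => by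
    obtain ⟨j, x, hj, hx, hxw, hjw, rfl⟩ := U.exists_inverted_mul hca hw hg
    exact ⟨j, (hJmem j).2 ⟨hj, hjw⟩, x, hx, hxw, rfl⟩
  have hJn : ∀ g ∈ pairStab G c a, ∀ j ∈ J, g * j * g⁻¹ ∈ J := by
    intro g hg j hj
    obtain ⟨j', hj', x, hx, hxw, rfl⟩ := hmul g hg
    have h1 : x * j * x⁻¹ ∈ J := by
      refine (hJmem _).2 ⟨mul_mem (mul_mem hx ((hJmem j).1 hj).1) (inv_mem hx), ?_⟩
      calc w * (x * j * x⁻¹) * w⁻¹ = (w * x) * j * (w * x)⁻¹ := by group
        _ = (x * w) * j * (x * w)⁻¹ := by rw [hxw.eq]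
        _ = x * (w * j * w⁻¹) * x⁻¹ := by group
        _ = (x * j * x⁻¹)⁻¹ := by rw [((hJmem j).1 hj).2]; group
    have h2 : j' * x * j * (j' * x)⁻¹ = x * j * x⁻¹ := by
      calc j' * x * j * (j' * x)⁻¹ = j' * (x * j * x⁻¹) * j'⁻¹ := by group
        _ = x * j * x⁻¹ := by rw [(hJcomm j' hj' _ h1).eq, mul_inv_cancel_right]
    rwa [h2]
  have hJtr : ∀ s ∈ invAt G c, ∀ t ∈ invAt G c, ∃ j ∈ J, j * s * j⁻¹ = t := by
    have key : ∀ t ∈ invAt G c, ∃ j ∈ J, j * t₀ * j⁻¹ = t := fun t ht => by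
      obtain ⟨g, hg, he⟩ := U.exists_conj_invAt hca ht₀ ht
      obtain ⟨j, hj, x, hx, hxw, rfl⟩ := hmul g hg
      refine ⟨j, hj, ?_⟩
      rw [← he]
      calc j * t₀ * j⁻¹ = j * (x * t₀ * x⁻¹) * j⁻¹ := by rw [((hC₀ x hx).1 hxw).eq, mul_inv_cancel_right]
        _ = _ := by group
    intro s hs t ht
    obtain ⟨j, hj, rfl⟩ := key s hs
    obtain ⟨j', hj', rfl⟩ := key t ht
    exact ⟨j' * j⁻¹, mul_mem hj' (inv_mem hj), by group⟩
  -- the field automorphisms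
  have hfo : orderOf f₀ + 1 = 2 ^ Module.finrank (ZMod 2) V := by
    rw [← hn, ← Nat.card_zpowers, hf₀, hFcard]
    exact Nat.sub_add_cancel Nat.one_le_two_pow
  obtain ⟨Γ, _, _, _, ψ, hψf, hψn, hψfix, hψvec⟩ := exists_galois hoddR hρinj htr hfo
  rw [← hn] at hψn hψfix
  let φ : D →* Γ := ψ.comp π
  have hφJ : ∀ j (h : j ∈ J) (hjD : j ∈ D), φ ⟨j, hjD⟩ = 1 := by
    intro j hj hjD
    obtain ⟨i, hi⟩ := Subgroup.mem_zpowers_iff.1 (hf₀.symm ▸ (toF ⟨j, hJiff j hj⟩).2 :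
      π ⟨j, hJD (hJiff j hj)⟩ ∈ Subgroup.zpowers f₀)
    show ψ (π ⟨j, hjD⟩) = 1
    rw [← hi, map_zpow, hψf, one_zpow]
  have hφker : ∀ (g : D) (t : G), t ∈ invAt G c → Commute (g : G) t → (φ g = 1 ↔ (g : G) ∈ K) := by
    intro g t ht hgt
    rw [← hπK]
    refine ⟨fun h => (hψfix (π g) _ (hvec0 t ht) ?_).1 h, fun h => by
      show ψ (π g) = 1
      rw [h, map_one]⟩
    rw [hπρ, hfixv]
    exact hgt
  refine ⟨n, J, ?_⟩
  rw [hK] at hKC hKJ hφker hkerK hπK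
  refine ⟨hn2, hm, hJmem, hJ ▸ inferInstance, hcardJ, hJn, hJtr, fun j hj hj1 => ?_, fun k hk j hj => ?_,
    fun k hk u hu => hKC k hk u hu, hmul, ?_, ?_, ?_⟩
  · exact (hF c a hca w hw j ((hJmem j).1 hj).1 ((hJmem j).1 hj).2 hj1).1
  · exact hKJ k hk j (hJiff j hj)
  · -- a generator of the centraliser of the swapper
    let Cw : Subgroup D := (centralizer ({w} : Set G)).subgroupOf D
    haveI : IsCyclic (Cw.map φ) := inferInstance
    obtain ⟨⟨γ, x₀, hx₀, rfl⟩, hgen⟩ := IsCyclic.exists_generator (α := Cw.map φ)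
    have hxw : Commute (x₀ : G) w := Subgroup.mem_centralizer_singleton_iff.1 hx₀
    refine ⟨x₀, hD ▸ x₀.2, hxw, fun x hx hxw' => ?_⟩
    obtain ⟨i, hi⟩ := (Submonoid.mem_powers_iff _ _).1 ((isOfFinOrder_of_finite _).mem_powers_iff_mem_zpowers.2
      (hgen ⟨φ ⟨x, hD ▸ hx⟩, ⟨⟨x, hD ▸ hx⟩, (Subgroup.mem_centralizer_singleton_iff.2 hxw'.eq : x ∈ centralizer ({w} : Set G)), rfl⟩⟩))
    refine ⟨i, ?_⟩
    have h1 : Commute (((x₀ ^ i)⁻¹ * ⟨x, hD ▸ hx⟩ : D) : G) t₀ := by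
      rw [Subgroup.coe_mul, Subgroup.coe_inv, SubmonoidClass.coe_pow]
      exact ((hC₀ x₀ (hD ▸ x₀.2)).1 hxw).pow_left i |>.inv_left.mul_left ((hC₀ x hx).1 hxw')
    have h2 : φ ((x₀ ^ i)⁻¹ * ⟨x, hD ▸ hx⟩) = 1 := by
      have h3 : φ x₀ ^ i = φ ⟨x, hD ▸ hx⟩ := by simpa using congrArg Subtype.val hi
      rw [map_mul, map_inv, map_pow, h3, inv_mul_cancel]
    have h4 := (hφker _ t₀ ht₀ h1).1 h2
    rwa [Subgroup.coe_mul, Subgroup.coe_inv, SubmonoidClass.coe_pow] at h4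
  · intro x hx t ht hxt
    obtain ⟨x', rfl⟩ : ∃ x' : D, (x' : G) = x := ⟨⟨x, hD ▸ hx⟩, rfl⟩
    refine ⟨orderOf (φ x'), hψn _, fun i => ?_, ?_⟩
    · rw [orderOf_dvd_iff_pow_eq_one, ← map_pow, hφker (x' ^ i) t ht (by
        rw [SubmonoidClass.coe_pow]; exact hxt.pow_left i), SubmonoidClass.coe_pow]
    · have h1 := (hψfix (π x') _ (hvec0 t ht) (by rw [hπρ, hfixv]; exact hxt)).2
      rw [show orderOf (φ x') = orderOf (ψ (π x')) from rfl, ← h1]
      have h2 : Nat.card {y : V // ρ (π x') y = y} = (insert (1 : G) {s ∈ invAt G c | Commute (x' : G) s}).ncard := by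
        rw [← Nat.card_coe_set_eq]
        refine Nat.card_congr (Equiv.ofBijective (fun y => ⟨val y.1, ?_⟩) ⟨fun y y' he => ?_, fun s => ?_⟩)
        · rcases eq_or_ne y.1 0 with h0 | h0
          · exact Or.inl (congrArg val h0)
          · exact Or.inr ⟨hval0 _ h0, (hfixv x' y.1).1 y.2⟩
        · have he' := congrArg Subtype.val he
          exact Subtype.ext (hval he')
        · rcases s.2 with h0 | ⟨hs, hxs⟩
          · exact ⟨⟨0, map_zero _⟩, Subtype.ext h0.symm⟩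
          · exact ⟨⟨vec _ hs, (hfixv x' _).2 hxs⟩, rfl⟩
      rw [h2, Set.ncard_insert_of_notMem (fun h => absurd h.1.1 (by rw [orderOf_one]; omega))]
  · intro hbot y hy hyJ
    obtain ⟨y', rfl⟩ : ∃ y' : D, (y' : G) = y := ⟨⟨y, hD ▸ hy⟩, rfl⟩
    have hπi : Function.Injective π := fun g g' he => by
      have h1 : π (g⁻¹ * g') = 1 := by rw [map_mul, map_inv, he, inv_mul_cancel]
      have h2 := (hπK _).1 h1
      rw [hbot, Subgroup.mem_bot, OneMemClass.coe_eq_one] at h2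
      exact inv_mul_eq_one.1 h2
    have key : ∀ g : D, φ g = 1 → (g : G) ∈ J := by
      intro g hg
      obtain ⟨j, hj, x, hx, hxw, hgx⟩ := hmul g (hD ▸ g.2)
      have h1 : g = ⟨j, hD ▸ ((hJmem j).1 hj).1⟩ * ⟨x, hD ▸ hx⟩ := Subtype.ext hgx
      rw [h1, map_mul, hφJ j hj, one_mul] at hg
      have h2 := (hφker ⟨x, hD ▸ hx⟩ t₀ ht₀ ((hC₀ x hx).1 hxw)).1 hg
      rw [hbot, Subgroup.mem_bot] at h2
      have h3 : x = 1 := h2
      rwa [hgx, h3, mul_one]
    have ho : orderOf (π y') = orderOf (ψ (π y')) := by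
      refine Nat.dvd_antisymm ?_ (orderOf_map_dvd _ _)
      rw [orderOf_dvd_iff_pow_eq_one, ← map_pow, ← map_one π]
      refine congrArg π (Subtype.ext ?_)
      rw [SubmonoidClass.coe_pow, OneMemClass.coe_one, ← Subgroup.mem_bot, ← hyJ]
      refine ⟨pow_mem (Subgroup.mem_zpowers _) _, ?_⟩
      rw [← SubmonoidClass.coe_pow]
      exact key _ (by show ψ (π (y' ^ _)) = 1; rw [map_pow, map_pow, pow_orderOf_eq_one])
    obtain ⟨x, hx0, hx⟩ := hψvec (π y') ho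
    exact ⟨val x, hval0 x hx0, (hfixv y' x).1 hx⟩

end Cfsg.Agent.Invol.Bender
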