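import Cfsg.Agent.Lib.Invol.Bender.Tools
import Cfsg.Agent.Lib.Invol.Bender.HMax

/-!
# Special elements

An element inverted by an involution and centralised by another one is special: its centraliser fixes the
centre of the inverting involution.
-/

set_option autoImplicit false
set_option linter.unusedSectionVars false

namespace Cfsg.Agent.Invol.Bender

open MulAction Subgroup

universe u v

variable {G : Type u} [Group G] {Ω : Type v} [MulAction G Ω]

/-- `i` is inverted by the involution `u` with centre `d` and has a centraliser of even order. -/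
structure Special (i u : G) (d : Ω) : Prop where
  invol : u ∈ invAt G d
  inverted : u * i * u⁻¹ = i⁻¹
  ne_one : i ≠ 1
  odd : Odd (orderOf i)
  exists_commute : ∃ z : G, orderOf z = 2 ∧ Commute z i

/-- No subgroup of 2-rank two with two centres has a special element in its kernel. -/
def NoKernelSpecial (G Ω : Type*) [Group G] [MulAction G Ω] : Prop :=
  ∀ M : Subgroup G, M ≠ ⊤ → (cen Ω M).Nontrivial → TwoRank M →
    ∀ (i u : G) (d : Ω), u ∈ M → Special i u d → i ∉ ker Ω M

variable [Finite G] {i u : G} {d : Ω}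

theorem Special.commute_fix (U : Hyp G Ω) (h : Special i u d) {c : G} (hc : Commute c i) : c • d = d := by
  obtain ⟨z, hz, hzi⟩ := h.exists_commute
  have key : ∀ z : G, orderOf z = 2 → Commute z i → ∀ x : Ω, z • x = x → x = d := by
    intro z hz hzi x hx
    by_contra hxd
    obtain ⟨n, hn⟩ := U.odd_product hz h.invol.1 hx h.invol.2 hxd
    have hzz := mul_self_of_orderOf_two hz
    have hui : u * i * u⁻¹ = i⁻¹ := h.inverted
    -- conjugation by `z u` inverts `i`, and `z u` has odd order
    have h1 : (z * u) * i * (z * u)⁻¹ = i⁻¹ := by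
      calc (z * u) * i * (z * u)⁻¹ = z * (u * i * u⁻¹) * z⁻¹ := by group
        _ = i⁻¹ := by rw [hui, hzi.inv_right.eq, mul_inv_cancel_right]
    have h2 : ∀ k : ℕ, (z * u) ^ (2 * k) * i * ((z * u) ^ (2 * k))⁻¹ = i := by
      intro k
      induction k with
      | zero => simp
      | succ k ih =>
        have h1' : (z * u) * i⁻¹ * (z * u)⁻¹ = i := by
          rw [show (z * u) * i⁻¹ * (z * u)⁻¹ = ((z * u) * i * (z * u)⁻¹)⁻¹ by group, h1, inv_inv]
        rw [show 2 * (k + 1) = 1 + (1 + 2 * k) by ring, pow_add, pow_add, pow_one]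
        generalize (z * u) ^ (2 * k) = g at ih ⊢
        generalize hw : z * u = w at h1 h1' ⊢
        calc w * (w * g) * i * (w * (w * g))⁻¹ = w * (w * (g * i * g⁻¹) * w⁻¹) * w⁻¹ := by group
          _ = i := by rw [ih, h1, h1']
    have h3 := h2 (n + 1)
    rw [show 2 * (n + 1) = orderOf (z * u) + 1 by omega, pow_succ, pow_orderOf_eq_one, one_mul, h1] at h3
    refine h.ne_one (eq_one_of_sq_of_odd (X := Subgroup.zpowers i) (by rw [Nat.card_zpowers]; exact h.odd)
      (Subgroup.mem_zpowers i) ?_)
    nth_rewrite 2 [← h3]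
    exact mul_inv_cancel i
  obtain ⟨x, hx⟩ := U.exists_fix z hz
  obtain rfl := key z hz hzi x hx
  refine key (c * z * c⁻¹) ((orderOf_conj_eq c z).trans hz) ?_ (c • x) (by rw [conj_smul_smul, hx])
  show c * z * c⁻¹ * i = i * (c * z * c⁻¹)
  calc c * z * c⁻¹ * i = c * z * (c⁻¹ * i) := by group
    _ = c * (z * i) * c⁻¹ := by rw [hc.inv_left.eq]; group
    _ = (c * i) * z * c⁻¹ := by rw [hzi.eq]; group
    _ = _ := by rw [hc.eq]; group

theorem Special.fix (U : Hyp G Ω) (h : Special i u d) : i • d = d := h.commute_fix U (Commute.refl i)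

/-- The prime power components of a special element are special. -/
theorem Special.pow (h : Special i u d) {k : ℕ} (hk : i ^ k ≠ 1) : Special (i ^ k) u d := by
  refine ⟨h.invol, ?_, hk, h.odd.of_dvd_nat (orderOf_pow_dvd k), ?_⟩
  · rw [← conj_pow, h.inverted, inv_pow]
  · obtain ⟨z, hz, hzi⟩ := h.exists_commute
    exact ⟨z, hz, hzi.pow_right k⟩

/-- A four group normalising a group of odd order gives a special element inverted by each of its
involutions which does not centralise the group. -/
theorem exists_special (V : Subgroup G) (hodd : Odd (Nat.card V)) {e f : G} {x : Ω} (he : orderOf e = 2)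
    (hf : f ∈ invAt G x) (hef : Commute e f) (hne : e ≠ f) (heV : e ∈ Subgroup.normalizer (V : Set G))
    (hfV : f ∈ Subgroup.normalizer (V : Set G)) (hnc : ∃ v ∈ V, ¬ Commute f v) :
    ∃ i ∈ V, Special i f x := by
  obtain ⟨i, hi, hi1, hinv, hcom⟩ := exists_special_element he hf.1 hef _ V rfl hodd heV hfV hnc
  refine ⟨i, hi, hf, hinv, hi1, hodd.of_dvd_nat (Subgroup.orderOf_dvd_natCard _ hi), ?_⟩
  rcases hcom with h | h
  · exact ⟨e, he, h⟩
  · refine ⟨e * f, orderOf_two_iff.2 ⟨?_, mul_ne_one_of_ne he hne⟩, h⟩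
    calc e * f * (e * f) = e * (f * e) * f := by group
      _ = e * (e * f) * f := by rw [hef.eq]
      _ = e * e * (f * f) := by group
      _ = 1 := by rw [mul_self_of_orderOf_two he, mul_self_of_orderOf_two hf.1, one_mul]

end Cfsg.Agent.Invol.Bender
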