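import Cfsg.Agent.Lib.Invol.Bender.Count

/-!
# Transfer to a point stabiliser

A homomorphism of a point stabiliser into an abelian group killing every two point stabiliser extends, by the
transfer, to the whole group; so it is trivial if the group is perfect.
-/

set_option autoImplicit false
set_option linter.unusedSectionVars false

namespace Cfsg.Agent.Invol.Bender

open Subgroup MonoidHom MulAction

universe u v w

variable {G : Type u} [Group G] [Finite G] {H : Subgroup G} {A : Type w} [CommGroup A]

/-- The transfer of a homomorphism killing `H ⊓ gHg⁻¹` for `g ∉ H` restricts to it on `H`. -/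
theorem transfer_eq (φ : H →* A) (hkill : ∀ (k : H) (g : G), g ∉ H → g⁻¹ * k * g ∈ H → φ k = 1) (h : H) :
    MonoidHom.transfer φ (h : G) = φ h := by
  classical
  obtain ⟨Qi, hQi⟩ : ∃ Qi, Qi = Fintype.ofFinite (Quotient (orbitRel (zpowers (h : G)) (G ⧸ H))) := ⟨_, rfl⟩
  rw [transfer_eq_prod_quotient_orbitRel_zpowers_quot]
  have hbase : (h : G) • (QuotientGroup.mk 1 : G ⧸ H) = QuotientGroup.mk 1 := by
    rw [MulAction.Quotient.smul_mk, smul_eq_mul, mul_one, QuotientGroup.eq, mul_one]
    exact inv_mem h.2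
  rw [Finset.prod_eq_single (Quotient.mk _ (QuotientGroup.mk 1 : G ⧸ H))]
  · obtain ⟨x, hx⟩ : ∃ x, x = (Quotient.mk (orbitRel (zpowers (h : G)) (G ⧸ H)) (QuotientGroup.mk 1)).out :=
      ⟨_, rfl⟩
    have hx1 : x = QuotientGroup.mk 1 := by
      obtain ⟨⟨c, hc⟩, e⟩ := (orbitRel_apply.1 (Quotient.exact
        ((Quotient.out_eq (Quotient.mk (orbitRel (zpowers (h : G)) (G ⧸ H)) (QuotientGroup.mk 1))))))
      rw [← hx] at e
      rw [← e]
      exact mem_stabilizer_iff.1 (Subgroup.zpowers_le.2 (mem_stabilizer_iff.2 hbase) hc)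
    have hmem : x.out ∈ H := by
      have h1 := QuotientGroup.eq.1 ((QuotientGroup.out_eq' x).trans hx1)
      simpa using h1
    have hper : Function.minimalPeriod ((h : G) • ·) x = 1 :=
      Function.minimalPeriod_eq_one_iff_isFixedPt.2 (hx1 ▸ hbase)
    obtain ⟨k, hk⟩ : ∃ k : H, (k : G) = x.out := ⟨⟨_, hmem⟩, rfl⟩
    have : φ (k⁻¹ * h * k) = φ h := by rw [map_mul, map_mul, map_inv, mul_comm, mul_inv_cancel_left]
    rw [← this]
    congr 1
    apply Subtype.ext
    simp only [Subgroup.coe_mul, Subgroup.coe_inv, hk, ← hx, hper, pow_one]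
  · intro q _ hq
    have hne : q.out.out ∉ H := fun hmem => hq (by
      have : q.out = QuotientGroup.mk 1 := by
        rw [← QuotientGroup.out_eq' q.out]
        exact QuotientGroup.eq.2 (by simpa using hmem)
      rw [← this, Quotient.out_eq])
    refine hkill _ q.out.out⁻¹ (fun hmem => hne (by simpa using inv_mem hmem)) ?_
    show q.out.out⁻¹⁻¹ * (q.out.out⁻¹ * (h : G) ^ _ * q.out.out) * q.out.out⁻¹ ∈ H
    convert pow_mem h.2 (Function.minimalPeriod ((h : G) • ·) q.out) using 1
    group
  · exact fun hh => absurd (Finset.mem_univ _) hh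

/-- In a perfect group a homomorphism of a point stabiliser killing all pair stabilisers is trivial. -/
theorem eq_one_of_pairStab {Ω : Type v} [MulAction G Ω] (hperf : commutator G = ⊤) {a : Ω}
    (φ : stabilizer G a →* A) (hkill : ∀ (b : Ω) (k : stabilizer G a), b ≠ a → (k : G) • b = b → φ k = 1)
    (h : stabilizer G a) : φ h = 1 := by
  have h1 := transfer_eq φ (fun k g hg hk => hkill (g • a) k (fun e => hg (mem_stabilizer_iff.2 e)) (by
    rw [mem_stabilizer_iff, mul_smul, mul_smul, inv_smul_eq_iff] at hk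
    exact hk)) h
  have h2 : (h : G) ∈ (MonoidHom.transfer φ).ker :=
    Abelianization.commutator_subset_ker _ (hperf ▸ Subgroup.mem_top _)
  rw [MonoidHom.mem_ker, h1] at h2
  exact h2

end Cfsg.Agent.Invol.Bender
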